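import Cfsg.Agent.H14.Cent
import Cfsg.Agent.H14.Prod

/-! Central products of normal subsystems. -/

set_option autoImplicit false
set_option linter.unusedSectionVars false
set_option linter.unusedVariables false

namespace H14.Fus

open Equiv Cfsg Cfsg.FusionSystem H13

variable {Ω : Type*} [Group Ω] {S T T₁ T₂ : Subgroup Ω} {F : FusionSystem S} {E : FusionSystem T}
  {E₁ : FusionSystem T₁} {E₂ : FusionSystem T₂} {D : FusionSystem T} {p : ℕ}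

theorem CPData.le_cent (h : CPData E₁ E₂) : T₂ ≤ Subgroup.centralizer (T₁ : Set Ω) :=
  fun b hb a ha => h.comm a ha b hb

theorem CPData.symm (h : CPData E₁ E₂) : CPData E₂ E₁ :=
  ⟨fun a ha b hb => (h.comm b hb a ha).symm, inf_comm T₁ T₂ ▸ h.z₂, inf_comm T₁ T₂ ▸ h.z₁⟩

theorem CP.le₁ (h : CP E₁ E₂ D) : T₁ ≤ T := h.sup ▸ le_sup_left
theorem CP.le₂ (h : CP E₁ E₂ D) : T₂ ≤ T := h.sup ▸ le_sup_right

theorem CP.exists_mul (h : CP E₁ E₂ D) {x : Ω} (hx : x ∈ T) : ∃ a ∈ T₁, ∃ b ∈ T₂, a * b = x :=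
  (mem_sup_of_normalizes' (h.data.le_cent.trans (centralizer_le_normalizer' _))).1 (h.sup ▸ hx)

theorem CP.cen (h : CP E₁ E₂ D) : Cen E₁ D T₂ :=
  ⟨le_inf h.le₂ h.data.le_cent, fun P f hf => h.cExt hf⟩

/-- a morphism of a central product agrees on `P ∩ T₁` with a morphism of the first factor -/
theorem CP.exists_res (h : CP E₁ E₂ D) {P : Subgroup Ω} {f : Ω → Ω} (hf : Mor D P f) :
    ∃ P₁ g, Mor E₁ P₁ g ∧ ∀ x ∈ P, x ∈ T₁ → x ∈ P₁ ∧ g x = f x := by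
  obtain ⟨P₁, P₂, f₁, f₂, a1, a2, a3⟩ := (h.mor P f).1 hf
  obtain ⟨g, b1, b2, b3⟩ := cExt_of_central h.data.z₁ a1
  refine ⟨_, g, b1, fun x hx hx₁ => ?_⟩
  obtain ⟨a, ha, b, hb, rfl, e⟩ := a3 x hx
  have c1 : b ∈ T₁ ⊓ T₂ := ⟨(T₁.mul_mem_cancel_left (a1.le ha)).1 hx₁, a2.le hb⟩
  refine ⟨Subgroup.mul_mem_sup ha c1, ?_⟩
  rw [b1.hom.map_mul (Subgroup.mem_sup_left ha) (Subgroup.mem_sup_right c1), b2 a ha, b3 b c1, e,
    H13.central_fix h.data.z₂ a2 hb c1]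

theorem CP.full (h : CP E₁ E₂ D) {P : Subgroup Ω} {f : Ω → Ω} (hf : Mor D P f) (hP : P ≤ T₁) :
    Mor E₁ P f := by
  obtain ⟨P₁, g, a1, a2⟩ := h.exists_res hf
  exact (a1.restrict fun x hx => (a2 x hx (hP hx)).1).congr fun x hx => (a2 x hx (hP hx)).2

theorem CP.sc_of (h : CP E₁ E₂ D) {U : Subgroup Ω} (hU : E₁.StronglyClosed U) :
    D.StronglyClosed U := stronglyClosed_iff_fun.2 ⟨hU.1.trans h.le₁, fun P f hf x hx hxU => by
  obtain ⟨P₁, g, a1, a2⟩ := h.exists_res hf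
  obtain ⟨b1, b2⟩ := a2 x hx (hU.1 hxU)
  exact b2 ▸ sc_mem hU a1 b1 hxU⟩

theorem CP.inv_of (h : CP E₁ E₂ D) {U : Subgroup Ω} {C : FusionSystem U} (hC : Inv C E₁) :
    Inv C D :=
  ⟨isSubsystemOf_trans hC.sub h.sub₁, h.sc_of hC.sc,
    fun P f α hf hα => hC.conj P f α hf ⟨h.full hα.1 hC.le, hα.2⟩, fun P f hP hf => by
      obtain ⟨α, a1, a2⟩ := hC.frat P f hP (h.full hf (hP.trans hC.le))
      exact ⟨α, a1.of_sub h.sub₁, a2⟩⟩

theorem CP.extCond_of (h : CP E₁ E₂ D) {U : Subgroup Ω} {C : FusionSystem U} [Finite T]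
    (hU : U ≤ T₁) (hC : ExtCond C E₁) : ExtCond C D := fun α hα => by
  obtain ⟨β, a1, a2, a3⟩ := hC α hα
  obtain ⟨γ, b1, b2, b3⟩ := (h.cExt a1).perm
  have key : ∀ c ∈ centralizerIn T U, ∃ a ∈ centralizerIn T₁ U, ∃ b ∈ T₂, a * b = c := by
    intro c hc
    obtain ⟨a, ha, b, hb, rfl⟩ := h.exists_mul hc.1
    have hb' : b ∈ Subgroup.centralizer (U : Set Ω) := fun x hx => h.data.comm x (hU hx) b hb
    exact ⟨a, ⟨ha, (Subgroup.mul_mem_cancel_right _ hb').1 hc.2⟩, b, hb, rfl⟩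
  refine ⟨γ, b1.restrict (sup_le (le_sup_left.trans le_sup_left) fun c hc => ?_),
    fun x hx => by rw [b2 x (Subgroup.mem_sup_left hx), a2 x hx], fun c hc => ?_⟩
  · obtain ⟨a, ha, b, hb, rfl⟩ := key c hc
    exact Subgroup.mul_mem_sup (Subgroup.mem_sup_right ha) hb
  · obtain ⟨a, ha, b, hb, rfl⟩ := key c hc
    have c1 := a3 a ha
    rw [b1.hom.map_mul (Subgroup.mem_sup_left (Subgroup.mem_sup_right ha)) (Subgroup.mem_sup_right hb),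
      b2 a (Subgroup.mem_sup_right ha), b3 b hb,
      show (a * b)⁻¹ * (β a * b) = b⁻¹ * (a⁻¹ * β a * b) by group, h.data.comm _ (hU c1) b hb,
      inv_mul_cancel_left]
    exact c1

theorem CP.normalIn_of (h : CP E₁ E₂ D) [Finite T] (hD : D.IsSaturated p) {U : Subgroup Ω}
    {C : FusionSystem U} (hC : C.IsNormalIn E₁ p) : C.IsNormalIn D p := by
  have := finite_of_le h.le₁
  exact normalIn_iff.2 ⟨nrm_sat hC, hD, h.inv_of (nrm_inv hC), h.extCond_of (nrm_le hC) (nrm_ext hC)⟩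

theorem CP.normalIn₁ (h : CP E₁ E₂ D) [Finite T] (hD : D.IsSaturated p) (h₁ : E₁.IsSaturated p) :
    E₁.IsNormalIn D p := by
  have := finite_of_le h.le₁
  exact h.normalIn_of hD (normalIn_self h₁)

theorem CP.sub_of_cen (h : CP E₁ E₂ D) (h₁ : Cen E₁ F T₂) (h₂ : Cen E₂ F T₁) :
    D.IsSubsystemOf F := isSubsystemOf_iff.2 fun P f hf => by
  obtain ⟨P₁, P₂, f₁, f₂, a1, a2, a3⟩ := (h.mor P f).1 hf
  obtain ⟨g₁, b1, b2, b3⟩ := h₁.2 _ _ a1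
  obtain ⟨g₂, c1, c2, c3⟩ := h₂.2 _ _ a2
  have d1 : ∀ x ∈ P, x ∈ P₁ ⊔ T₂ ∧ g₁ x ∈ P₂ ⊔ T₁ ∧ g₂ (g₁ x) = f x := fun x hx => by
    obtain ⟨a, ha, b, hb, rfl, e⟩ := a3 x hx
    have e1 : g₁ (a * b) = b * f₁ a := by
      rw [b1.hom.map_mul (Subgroup.mem_sup_left ha) (Subgroup.mem_sup_right (a2.le hb)), b2 a ha,
        b3 b (a2.le hb), h.data.comm _ (a1.mem ha) b (a2.le hb)]
    refine ⟨Subgroup.mul_mem_sup ha (a2.le hb), e1 ▸ Subgroup.mul_mem_sup hb (a1.mem ha), ?_⟩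
    rw [e1, c1.hom.map_mul (Subgroup.mem_sup_left hb) (Subgroup.mem_sup_right (a1.mem ha)), c2 b hb,
      c3 _ (a1.mem ha), e, h.data.comm _ (a1.mem ha) _ (a2.mem hb)]
  exact (c1.comp (b1.restrict fun x hx => (d1 x hx).1) fun x hx => (d1 x hx).2.1).congr
    fun x hx => (d1 x hx).2.2

theorem CP.unique {D' : FusionSystem T} (h : CP E₁ E₂ D) (h' : CP E₁ E₂ D') : D = D' :=
  fs_ext_mor fun P f => (h.mor P f).trans (h'.mor P f).symm

theorem CP.cen_of {X : Subgroup Ω} (h : CP E₁ E₂ D) (h₁ : Cen E₁ F (X ⊔ T₂))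
    (h₂ : Cen E₂ F (X ⊔ T₁)) : Cen D F X := by
  refine ⟨le_centralizerIn_comm (le_sup_left.trans h₁.le) (h.sup ▸ sup_le
    (le_centralizerIn_comm (le_sup_right.trans h₂.le) (le_sup_left.trans h₁.1))
    (le_centralizerIn_comm (le_sup_right.trans h₁.le) (le_sup_left.trans h₂.1))), fun P f hf => ?_⟩
  obtain ⟨P₁, P₂, f₁, f₂, a1, a2, a3⟩ := (h.mor P f).1 hf
  obtain ⟨g₁, b1, b2, b3⟩ := h₁.2 _ _ a1
  obtain ⟨g₂, c1, c2, c3⟩ := h₂.2 _ _ a2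
  have d1 : ∀ x ∈ P, x ∈ P₁ ⊔ (X ⊔ T₂) ∧ g₁ x ∈ P₂ ⊔ (X ⊔ T₁) ∧ g₂ (g₁ x) = f x := fun x hx => by
    obtain ⟨a, ha, b, hb, rfl, e⟩ := a3 x hx
    have hb' := Subgroup.mem_sup_right (S := X) (a2.le hb)
    have ha' := Subgroup.mem_sup_right (S := X) (a1.mem ha)
    have e1 : g₁ (a * b) = b * f₁ a := by
      rw [b1.hom.map_mul (Subgroup.mem_sup_left ha) (Subgroup.mem_sup_right hb'), b2 a ha,
        b3 b hb', h.data.comm _ (a1.mem ha) b (a2.le hb)]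
    refine ⟨Subgroup.mul_mem_sup ha hb', e1 ▸ Subgroup.mul_mem_sup hb ha', ?_⟩
    rw [e1, c1.hom.map_mul (Subgroup.mem_sup_left hb) (Subgroup.mem_sup_right ha'), c2 b hb,
      c3 _ ha', e, h.data.comm _ (a1.mem ha) _ (a2.mem hb)]
  have d2 : P ⊔ X ≤ P₁ ⊔ (X ⊔ T₂) :=
    sup_le (fun x hx => (d1 x hx).1) (le_sup_left.trans le_sup_right)
  have d3 := b1.restrict d2
  have d4 : img g₁ (P ⊔ X) ≤ P₂ ⊔ (X ⊔ T₁) := by
    rw [d3.hom.img_sup]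
    exact sup_le (img_le_iff.2 fun x hx => (d1 x hx).2.1) (img_le_iff.2 fun x hx => by
      rw [b3 x (Subgroup.mem_sup_left hx)]; exact Subgroup.mem_sup_right (Subgroup.mem_sup_left hx))
  exact ⟨_, c1.comp d3 fun x hx => d4 (mem_img_of_mem _ hx), fun x hx => (d1 x hx).2.2,
    fun x hx => by rw [b3 x (Subgroup.mem_sup_left hx), c3 x (Subgroup.mem_sup_left hx)]⟩

variable [Finite S] [Fact p.Prime]

theorem inv_of_base (hS : IsPGroup p S) (hF : F.IsSaturated p) (hsub : E.IsSubsystemOf F)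
    (hT : F.StronglyClosed T)
    (h : ∀ (R : Subgroup Ω) (ψ : Perm Ω), F.IsCentric R → F.IsRadical p R → F.IsFullyNormalized R →
      Iso F R R ψ → ∀ (P : Subgroup Ω) (σ : Perm Ω), Mor E P σ → P ≤ R → (∀ x ∈ P, σ x ∈ R) →
        Mor E (img ψ P) (ψ * σ * ψ⁻¹ : Perm Ω)) : Inv E F := by
  have key := alperin_induction hS hF (C := fun R ψ => ∀ (P : Subgroup Ω) (σ : Perm Ω), Mor E P σ →
      P ≤ R → (∀ x ∈ P, σ x ∈ R) → Mor E (img ψ P) (ψ * σ * ψ⁻¹ : Perm Ω))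
    (fun Q R ψ τ a1 a2 a3 a4 P σ b1 b2 b3 => by
      have c1 := a2 P σ b1 (b2.trans a3) fun x hx => a3 (b3 x hx)
      have c2 := (a1.hom.mono (b2.trans a3))
      rw [← img_congr fun x hx => a4 x (b2 hx)]
      refine c1.congr fun y hy => ?_
      obtain ⟨x, hx, rfl⟩ := c2.mem_img.1 hy
      rw [mul_ap, mul_ap, inv_ap, a4 _ (b3 x hx), a4 x (b2 hx), mul_ap, mul_ap, inv_ap])
    (fun Q R W ψ τ a1 a2 a3 a4 P σ b1 b2 b3 => by
      have c0 := (a1.hom.mono b2).maps_img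
      have c1 := a4 _ _ (a3 P σ b1 b2 b3) (img_le_iff.2 fun x hx => a1.mem (b2 hx))
        fun y hy => a1.mem (b3 _ (c0.inv_mem hy))
      rw [(a1.hom.mono b2).img_mul] at c1
      convert c1 using 2
      group)
    fun R ψ hR hψ => by
      obtain ⟨a1, a2, a3⟩ := centric_radical_of_base hS hF hR
      exact h R ψ a1 a2 a3 hψ
  have := finite_of_le hT.1
  refine inv_of_strong hS hF hsub hT fun P Q f ψ hf hQ hPQ hfQ hψ => ?_
  obtain ⟨σ, a1, a2⟩ := hf.exists_perm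
  refine (key Q ψ hψ P σ a1 hPQ fun x hx => a2 x hx ▸ hfQ x hx).congr fun y hy => ?_
  rw [mul_ap, mul_ap, a2 _ ((hψ.hom.mono hPQ).maps_img.inv_mem hy)]

theorem mem_of_cr_eq (hS : IsPGroup p S) (hT : F.StronglyClosed T) {R : Subgroup Ω}
    (hc : F.IsCentric R) (hr : F.IsRadical p R) {a x : Ω} (ha : a ∈ normalizerIn T R) (hx : x ∈ R)
    (e : ∀ y ∈ R ⊓ T, a * y * a⁻¹ = x * y * x⁻¹) : a ∈ R := by
  have hR := hc.1
  have := finite_of_le hR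
  have := finite_autF_of_le F hR
  have hm : AutF F R ≤ stab (R ⊓ T) := fun g hg => sc_maps_inf hT (iso_of_mem_autF hR hg)
  have hN : ∀ g ∈ normalizerIn S R, g ∈ Subgroup.normalizer ((R ⊓ T : Subgroup Ω) : Set Ω) :=
    fun g hg => normalizer_inf hg.2 (sc_le_normalizer hT hg.1)
  set N := AutF F R ⊓ (H13.trivMod R T ⊓ Kres (R ⊓ T) (AutBy R (R ⊓ T))) with hN_def
  have h1 : N ≤ Op p (AutF F R) := by
    refine le_op inf_le_left ?_ fun g hg => normalizer_inf (Subgroup.le_normalizer hg)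
      (normalizer_inf (trivMod_normal_sc hT hR hg) ?_)
    · have := finite_of_le (inf_le_left : N ≤ AutF F R)
      refine isPGroup_of_coprime fun β hβ hco => ?_
      obtain ⟨b1, b2⟩ := mem_kres.1 hβ.2.2
      obtain ⟨k, hk⟩ := isPGroup_iff_mem.1 (isPGroup_autBy (hS.to_le hR) _) _ b2
      have b3 := (rs_eq_one_iff b1).1 (eq_one_of_coprime_of_pow (orderOf_rs_coprime b1 hco) hk)
      have b4 := maps_of_mem_autF hβ.1
      exact perm_ext_on (fix_of_mem_autF hβ.1) (fun _ _ => rfl) (fix_of_fix_of_coprime (hS.to_le hR)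
        inf_le_left (homOn_of_mem_autF hβ.1) b3 (fun y hy => ⟨R.mul_mem (R.inv_mem hy) (b4.mem hy),
          (H13.mem_trivMod.1 hβ.2.1).2 y hy⟩) hco fun y _ => by rw [pow_orderOf_eq_one]; rfl)
    · have c1 := maps_kres (K := AutBy R (R ⊓ T)) (hm hg)
      rw [((homOn_of_mem_autF hg).maps_autBy le_rfl inf_le_left (maps_of_mem_autF hg)
        (hm hg)).img_eq] at c1
      exact maps_cj_iff.1 c1
  have haS := hT.1 ha.1
  have a1 := hN a ⟨haS, ha.2⟩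
  have a2 := hN x ⟨hR hx, Subgroup.le_normalizer hx⟩
  refine mem_of_cr_mem_op hc hr haS ha.2 (h1 ⟨cr_mem_autF F hR haS ha.2,
    H13.mem_trivMod.2 ⟨maps_cr ha.2, fun y hy => ?_⟩, mem_kres.2 ⟨hm (cr_mem_autF F hR haS ha.2), ?_⟩⟩)
  · rw [cr_apply ha.2 hy, show y⁻¹ * (a * y * a⁻¹) = y⁻¹ * a * y⁻¹⁻¹ * a⁻¹ by group]
    exact T.mul_mem (sc_conj_mem hT (S.inv_mem (hR hy)) ha.1) (T.inv_mem ha.1)
  · rw [rs_cr inf_le_left a1 ha.2, (cr_eq_iff a1 a2).2 e]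
    exact cr_mem_autBy hx a2

/-- a centric radical subgroup meets a product of commuting strongly closed subgroups in a
product -/
theorem mem_of_mul_mem_cr (hS : IsPGroup p S) (h₁ : F.StronglyClosed T₁) (h₂ : F.StronglyClosed T₂)
    (hc : ∀ a ∈ T₁, ∀ b ∈ T₂, a * b = b * a) {R : Subgroup Ω} (h1 : F.IsCentric R)
    (h2 : F.IsRadical p R) {a b : Ω} (ha : a ∈ T₁) (hb : b ∈ T₂) (h : a * b ∈ R) : a ∈ R := by
  let A : Subgroup Ω :=
    { carrier := {a | a ∈ T₁ ∧ ∃ b ∈ T₂, a * b ∈ R}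
      one_mem' := ⟨T₁.one_mem, 1, T₂.one_mem, by simpa using R.one_mem⟩
      mul_mem' := by
        rintro a a' ⟨a1, b, a2, a3⟩ ⟨b1, b', b2, b3⟩
        refine ⟨T₁.mul_mem a1 b1, b * b', T₂.mul_mem a2 b2, ?_⟩
        rw [show a * a' * (b * b') = a * (a' * b) * b' by group, hc a' b1 b a2,
          show a * (b * a') * b' = a * b * (a' * b') by group]
        exact R.mul_mem a3 b3
      inv_mem' := by
        rintro a ⟨a1, b, a2, a3⟩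
        refine ⟨T₁.inv_mem a1, b⁻¹, T₂.inv_mem a2, ?_⟩
        rw [← mul_inv_rev, ← hc a a1 b a2]
        exact R.inv_mem a3 }
  have hA : A ≤ R := le_of_normalizerIn_le hS h1.1 (fun x hx => h₁.1 hx.1)
    (le_normalizer_iff.2 fun r hr x ⟨x1, y, x2, x3⟩ => ⟨sc_conj_mem h₁ (h1.1 hr) x1, r * y * r⁻¹,
      sc_conj_mem h₂ (h1.1 hr) x2, by
        rw [show r * x * r⁻¹ * (r * y * r⁻¹) = r * (x * y) * r⁻¹ by group]
        exact R.mul_mem (R.mul_mem hr x3) (R.inv_mem hr)⟩)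
    fun x ⟨⟨x1, y, x2, x3⟩, x4⟩ => mem_of_cr_eq hS h₁ h1 h2 ⟨x1, x4⟩ x3 fun z hz => by
      rw [show x * y * z * (x * y)⁻¹ = x * (y * z) * y⁻¹ * x⁻¹ by group, ← hc z hz.2 y x2]
      group
  exact hA ⟨ha, b, hb, h⟩

theorem le_cs_of_central (hS : IsPGroup p S) (hI : Inv E₁ F) (h₂ : F.StronglyClosed T₂)
    (hc : ∀ a ∈ T₁, ∀ b ∈ T₂, a * b = b * a) (hz : E₁.IsCentral (T₁ ⊓ T₂)) : T₂ ≤ CS E₁ F p := by
  have h0 : T₂ ≤ centralizerIn S T₁ := fun b hb => ⟨h₂.1 hb, fun a ha => hc a ha b hb⟩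
  intro x hx
  refine ⟨h0 hx, fun U hU β hβ hco => ?_⟩
  obtain ⟨a1, a2, a3, a4⟩ := mem_lg.1 hβ
  have a5 := iso_of_mem_autF (sup_le (hU.1.trans hI.le) (centralizerIn_le _ _)) a1
  have a6 : T₂ ≤ U ⊔ centralizerIn S T₁ := h0.trans le_sup_right
  refine fix_of_fix_of_coprime (hS.to_le h₂.1) (inf_le_right : U ⊓ T₂ ≤ T₂) (a5.hom.mono a6)
    (fun y hy => ?_) (fun y hy => ⟨a2 y (a6 hy), T₂.mul_mem (T₂.inv_mem hy)
      (sc_mem h₂ a5.1 (a6 hy) hy)⟩) hco (fun y _ => by rw [pow_orderOf_eq_one]; rfl) x hx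
  rw [← rs_apply a3 hy.1]
  exact H13.central_fix hz (iso_of_mem_autF hU.1 a4).1 hy.1 ⟨hU.1 hy.1, hy.2⟩

theorem cen_of_central (hS : IsPGroup p S) (hF : F.IsSaturated p) (hE : E₁.IsNormalIn F p)
    (h₂ : F.StronglyClosed T₂) (hc : ∀ a ∈ T₁, ∀ b ∈ T₂, a * b = b * a)
    (hz : E₁.IsCentral (T₁ ⊓ T₂)) : Cen E₁ F T₂ :=
  (cen_iff_le_cs hS hF hE).2 (le_cs_of_central hS (nrm_inv hE) h₂ hc hz)

theorem exists_lift_cs (hS : IsPGroup p S) (hF : F.IsSaturated p) (hE : E.IsNormalIn F p)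
    {α : Perm Ω} (hα : α ∈ AutF E T) : ∃ β ∈ LG E F T (T ⊔ centralizerIn S T),
      (∀ x ∈ T, β x = α x) ∧ ∀ x ∈ CS E F p, β x = x := by
  have hI := nrm_inv hE
  have hT := hI.le
  have := finite_of_le hT
  have := finite_autF_of_le E le_rfl
  have hW : T ⊔ centralizerIn S T ≤ S := sup_le hT (centralizerIn_le _ _)
  set K := LG E F T (T ⊔ centralizerIn S T) ⊓ Kres (CS E F p) ⊥ with hK
  have h1 : K ≤ stab T := fun β hβ => (lg_le hβ.1).2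
  have h2 : AutF E T ≤ img (rs T) K := by
    intro α hα
    obtain ⟨r, hr, n, h4, rfl⟩ := (sylIn_autF_top (hS.to_le hT) (nrm_sat hE)).exists_mul_oUp hα
    refine Subgroup.mul_mem _ ?_ (oUp_le_iff.2 (fun γ h5 h6 => ?_) h4)
    · obtain ⟨t, ht, hN, rfl⟩ := mem_autBy.1 hr
      have a1 := sc_le_normalizer (sc_sup_centralizerIn hS hF hI.sc) (hT ht)
      rw [← rs_cr le_sup_left hN a1]
      refine mem_img_of_mem _ ⟨mem_lg.2 ⟨cr_mem_autF F hW (hT ht) a1, fun x hx => ?_,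
        (maps_cr hN).congr fun x hx => ?_, ?_⟩, mem_kres_bot.2 fun x hx => ?_⟩
      · rw [cr_apply a1 hx]
        exact cr_triv (sc_le_normalizer hI.sc) (centralizerIn_le _ _) ⟨ht, hN⟩ x hx
      · rw [cr_apply hN hx, cr_apply a1 (Subgroup.mem_sup_left hx)]
      · rw [rs_cr le_sup_left hN a1]; exact cr_mem_autF E le_rfl ht hN
      · rw [cr_apply a1 (Subgroup.mem_sup_right hx.1), hx.1.2 t ht, mul_inv_cancel_right]
    · obtain ⟨β, a1, a2, a3⟩ := exists_lift hS hF hE (tc_top hI.sc) le_sup_left le_rfl h5 h6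
      rw [← rs_eq_of_mem_autF h5 a3]
      exact mem_img_of_mem _ ⟨a1, mem_kres_bot.2 fun x hx => hx.2 T (tc_top hI.sc) β a1 a2⟩
  obtain ⟨β, b1, b2⟩ := ((homOn_rs T).mono h1).mem_img.1 (h2 hα)
  exact ⟨β, b1.1, fun x hx => by rw [← b2, rs_apply (h1 b1) hx], mem_kres_bot.1 b1.2⟩

theorem CP.inv (hS : IsPGroup p S) (hF : F.IsSaturated p) (h : CP E₁ E₂ D) (h₁ : Inv E₁ F)
    (h₂ : Inv E₂ F) (hsub : D.IsSubsystemOf F) : Inv D F := by
  refine inv_of_base hS hF hsub (h.sup ▸ sc_sup hS hF h₁.sc h₂.sc)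
    fun R ψ r1 r2 _ hψ P σ hσ hP hσR => ?_
  obtain ⟨P₁, P₂, f₁, f₂, a1, a2, a3⟩ := (h.mor P σ).1 hσ
  have := finite_of_le h₁.le
  have := finite_of_le h₂.le
  obtain ⟨σ₁, b1, b2⟩ := a1.exists_perm
  obtain ⟨σ₂, c1, c2⟩ := a2.exists_perm
  have key : ∀ {a b}, a ∈ T₁ → b ∈ T₂ → a * b ∈ R → a ∈ R ∧ b ∈ R := fun ha hb hab => by
    have := mem_of_mul_mem_cr hS h₁.sc h₂.sc h.data.comm r1 r2 ha hb hab
    exact ⟨this, (R.mul_mem_cancel_left this).1 hab⟩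
  have d1 : ∀ {U P : Subgroup Ω} {C : FusionSystem U} {σ : Perm Ω}, Inv C F → Mor C P σ →
      Mor C (img ψ (R ⊓ pre P σ R)) (ψ * σ * ψ⁻¹ : Perm Ω) := fun {U P C σ} hC hσ =>
    hC.conj' (hσ.restrict (inf_le_right.trans (pre_le _ _ _))) (inf_le_right : R ⊓ U ≤ U)
      (inf_le_inf_left _ ((pre_le _ _ _).trans hσ.le))
      (fun x hx => ⟨(hσ.hom.mem_pre.1 hx.2).2, hσ.mem (hσ.hom.mem_pre.1 hx.2).1⟩)
      (hψ.1.restrict inf_le_left) fun x _ => by rw [mul_ap, mul_ap, inv_ap]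
  refine (h.mor _ _).2 ⟨_, _, _, _, d1 h₁ b1, d1 h₂ c1, fun y hy => ?_⟩
  obtain ⟨x, hx, rfl⟩ := (hψ.hom.mono hP).mem_img.1 hy
  obtain ⟨a, ha, b, hb, rfl, e⟩ := a3 x hx
  obtain ⟨e1, e2⟩ := key (a1.le ha) (a2.le hb) (hP hx)
  obtain ⟨e3, e4⟩ := key (a1.mem ha) (a2.mem hb) (e ▸ hσR _ hx)
  refine ⟨ψ a, mem_img_of_mem _ ⟨e1, b1.hom.mem_pre.2 ⟨ha, b2 a ha ▸ e3⟩⟩, ψ b,
    mem_img_of_mem _ ⟨e2, c1.hom.mem_pre.2 ⟨hb, c2 b hb ▸ e4⟩⟩, hψ.hom.map_mul e1 e2, ?_⟩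
  simp only [mul_ap, inv_ap]
  rw [e, hψ.hom.map_mul e3 e4, b2 a ha, c2 b hb]

theorem CP.exists_ext (hS : IsPGroup p S) (hF : F.IsSaturated p) (h : CP E₁ E₂ D)
    (h₁ : E₁.IsNormalIn F p) (h₂ : F.StronglyClosed T₂) {α : Perm Ω} (hα : Iso E₁ T₁ T₁ α) :
    ∃ β ∈ ExtGrp F T (h.sup ▸ sup_le (nrm_le h₁) h₂.1), (∀ x ∈ T₁, β x = α x) ∧ ∀ x ∈ T₂, β x = x := by
  obtain ⟨β, a1, a2, a3⟩ := exists_lift_cs hS hF h₁ hα.rs_mem
  have a4 := le_cs_of_central (p := p) hS (nrm_inv h₁) h₂ h.data.comm h.data.z₁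
  have a5 := iso_of_mem_autF (sup_le (nrm_le h₁) (centralizerIn_le _ _)) a1.1
  have a6 : T ≤ T₁ ⊔ centralizerIn S T₁ := h.sup ▸ sup_le_sup_left (a4.trans cs_le_cent) _
  have a7 := centralizerIn_antitone S h.le₁
  have a8 := sc_sup hS hF (nrm_inv h₁).sc h₂
  rw [← h.sup] at a8
  exact ⟨β, ⟨sc_maps a8 a5.1 a6, β, a5.1.restrict (sup_le a6 (a7.trans le_sup_right)), fun _ _ => rfl,
    fun c hc => h.le₁ ((mem_lg.1 a1).2.1 c (Subgroup.mem_sup_right (a7 hc)))⟩,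
    fun x hx => by rw [a2 x hx, rs_apply hα.2 hx], fun x hx => a3 x (a4 hx)⟩

theorem CP.normalIn (hS : IsPGroup p S) (hF : F.IsSaturated p) (h : CP E₁ E₂ D)
    (h₁ : E₁.IsNormalIn F p) (h₂ : E₂.IsNormalIn F p) : D.IsNormalIn F p := by
  have i₁ := nrm_inv h₁
  have i₂ := nrm_inv h₂
  have := finite_of_le i₁.le
  have := finite_of_le i₂.le
  have hI := h.inv hS hF i₁ i₂ (h.sub_of_cen
    (cen_of_central hS hF h₁ i₂.sc h.data.comm h.data.z₁)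
    (cen_of_central hS hF h₂ i₁.sc h.data.symm.comm h.data.symm.z₁))
  have := finite_of_le hI.le
  refine normalIn_iff.2 ⟨h.saturated (hS.to_le i₁.le) (hS.to_le i₂.le) (nrm_sat h₁) (nrm_sat h₂), hF,
    hI, (extCond_iff_le hI.le).2 fun α hα => ?_⟩
  have a0 := iso_of_mem_autF le_rfl hα
  have a1 : Iso E₁ T₁ T₁ α := ⟨h.full (a0.1.restrict h.le₁) le_rfl,
    sc_maps (h.sc_of (sc_top E₁)) a0.1 h.le₁⟩
  have a2 : Iso E₂ T₂ T₂ α := ⟨h.symm.full (a0.1.restrict h.le₂) le_rfl,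
    sc_maps (h.symm.sc_of (sc_top E₂)) a0.1 h.le₂⟩
  obtain ⟨β₁, b1, b2, b3⟩ := h.exists_ext hS hF h₁ i₂.sc a1
  obtain ⟨β₂, c1, c2, c3⟩ := h.symm.exists_ext hS hF h₂ i₁.sc a2
  refine extGrp_congr (Subgroup.mul_mem _ b1 c1) fun x hx => ?_
  obtain ⟨-, γ₁, d1, d2, -⟩ := b1
  obtain ⟨-, γ₂, e1, e2, -⟩ := c1
  have f1 : HomOn T β₁ := (d1.hom.mono le_sup_left).congr d2
  have f2 : HomOn T β₂ := (e1.hom.mono le_sup_left).congr e2
  obtain ⟨a, ha, b, hb, rfl⟩ := h.exists_mul hx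
  rw [mul_ap, f2.map_mul (h.le₁ ha) (h.le₂ hb), c3 a ha, c2 b hb,
    f1.map_mul (h.le₁ ha) (h.le₂ (a2.mem hb)), b2 a ha, b3 _ (a2.mem hb),
    a0.hom.map_mul (h.le₁ ha) (h.le₂ hb)]

/-- the centralizer system of a subgroup `Z` central in `S` and normal in `F`, over `S` itself -/
theorem exists_csys_top (hS : IsPGroup p S) (hF : F.IsSaturated p) {Z : Subgroup Ω}
    (hZ : F.IsNormal Z) (hc : S ≤ Subgroup.centralizer (Z : Set Ω)) :
    ∃ C : FusionSystem S, C.IsSaturated p ∧ Inv C F ∧ ∀ P f, Mor C P f ↔ CExt F Z P f := by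
  have key : ∀ V, V = centralizerIn S Z → ∃ C : FusionSystem V, C.IsSaturated p ∧
      ∀ P f, Mor C P f ↔ P ≤ V ∧ CExt F Z P f := by
    rintro V rfl
    have h1 := isCentralizerSystem_csys F Z hZ.1
    exact ⟨_, saturated_centralizer hS hF (fc_of_central F hZ.1 hc) h1, isCentralizerSystem_iff.1 h1⟩
  obtain ⟨C, h1, h2⟩ := key S (le_antisymm (le_inf le_rfl hc) (centralizerIn_le _ _))
  have h3 : ∀ P f, Mor C P f ↔ CExt F Z P f := fun P f =>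
    (h2 P f).trans ⟨fun h => h.2, fun h => ⟨h.mor.le, h⟩⟩
  refine ⟨C, h1, inv_of_perm (isSubsystemOf_iff.2 fun P f hf => ((h3 P f).1 hf).mor) (sc_top F)
    (fun P σ α hσ hα => ?_) fun P σ hP hσ => ?_, h3⟩
  · obtain ⟨τ, a1, a2, a3⟩ := ((h3 P σ).1 hσ).perm
    have b1 := sc_maps (sc_of_normal hZ) hα.1 hZ.1
    have b0 := (hα.hom.mono hσ.le).maps_img
    have b2 := hα.restrict a1.le ((hα.hom.mono a1.le).maps_sup b0 b1)
    refine (h3 _ _).2 ⟨(α * τ * α⁻¹ : Perm Ω), (hα.1.mul a1 fun x hx => a1.mem hx).mul b2.inv.1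
      fun x hx => b2.inv_mem hx, fun x hx => ?_, fun x hx => ?_⟩
    · rw [mul_ap, mul_ap, mul_ap, mul_ap, a2 _ (b0.inv_mem hx)]
    · rw [mul_ap, mul_ap, a3 _ (b1.inv_mem hx), ap_inv]
  · obtain ⟨τ, a1, a2, a3⟩ := normal_extend hZ hσ
    obtain ⟨ρ, b1, b2⟩ := extend_centralizer hS hF (fc_of_central F hZ.1 hc)
      (a1.iso.restrict le_sup_right a3)
    have b3 := (b1.restrict (le_trans (le_inf le_rfl hc) le_sup_right)).iso_top
    refine ⟨ρ, b3, (h3 _ _).2 ⟨(ρ⁻¹ * τ : Perm Ω), b3.inv.1.mul a1 fun x hx => a1.mem hx,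
      fun x hx => ?_, fun x hx => ?_⟩⟩
    · rw [mul_ap, mul_ap, a2 x hx]
    · rw [mul_ap, ← b2 x hx, inv_ap]

theorem exists_csys_normal (hS : IsPGroup p S) (hF : F.IsSaturated p) (hE : E.IsNormalIn F p)
    {Z : Subgroup Ω} (hZ : F.IsNormal Z) (hZT : Z ≤ T) (hc : T ≤ Subgroup.centralizer (Z : Set Ω)) :
    ∃ C : FusionSystem T, C.IsNormalIn F p ∧ C.IsSubsystemOf E ∧ C.IsCentral Z := by
  have hI := nrm_inv hE
  have := finite_of_le hI.le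
  have h0 := normal_inf_sub hS hF hI.le (nrm_sat hE) hI.sub hZ
  rw [inf_eq_left.2 hZT] at h0
  obtain ⟨C, h1, h2, h3⟩ := exists_csys_top (hS.to_le hI.le) (nrm_sat hE) h0 hc
  refine ⟨C, normalIn_of_sub hE h1 (inv_of_inv hI h2 fun γ hγ P σ hσ => ?_) h2.sub, h2.sub,
    central_of_cExt hZT fun P f hf => ?_⟩
  · obtain ⟨τ, a1, a2, a3⟩ := ((h3 P σ).1 hσ).perm
    have b1 := sc_maps (sc_of_normal hZ) hγ.1 hZT
    have b0 := (hγ.hom.mono hσ.le).maps_img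
    have b2 := hI.conj_perm a1 hγ
    rw [((hγ.hom.mono a1.le).maps_sup b0 b1).img_eq] at b2
    refine (h3 _ _).2 ⟨_, b2, fun x hx => ?_, fun x hx => ?_⟩
    · rw [mul_ap, mul_ap, mul_ap, mul_ap, a2 _ (b0.inv_mem hx)]
    · rw [mul_ap, mul_ap, a3 _ (b1.inv_mem hx), ap_inv]
  · obtain ⟨g, a1, a2, a3⟩ := (h3 P f).1 hf
    exact ⟨g, (h3 _ _).2 (cExt_of_mor a1 le_rfl le_sup_right (fun _ _ => rfl) a3), a2, a3⟩

theorem inv_full (hT : F.StronglyClosed T) : Inv (Full F T hT.1) F :=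
  inv_of_perm (full_sub F T hT.1) hT (fun P σ α hσ hα => by
    obtain ⟨a1, a2, a3⟩ := mor_full.1 hσ
    have b0 := hα.1.iso_of_le a1
    exact mor_full.2 ⟨img_le_iff.2 fun x hx => hα.mem (a1 hx), fun x hx => hα.mem (a2 _ (b0.inv_mem hx)),
      (hα.1.mul a3 a2).mul b0.inv.1 fun x hx => b0.inv_mem hx⟩)
    fun P σ hP hσ => ⟨1, iso_one F hT.1, by
      rw [inv_one, one_mul]
      exact mor_full.2 ⟨hP, fun x hx => sc_mem hT hσ hx (hP hx), hσ⟩⟩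

theorem saturated_full (hS : IsPGroup p S) (hF : F.IsSaturated p) (hT : F.StronglyClosed T)
    (h : S ≤ T ⊔ centralizerIn S T) : (Full F T hT.1).IsSaturated p := by
  have := finite_of_le hT.1
  have m1 : ∀ {P : Subgroup Ω} {σ : Perm Ω}, P ≤ T → Mor F P σ → Mor (Full F T hT.1) P σ :=
    fun hP hσ => mor_full.2 ⟨hP, fun x hx => sc_mem hT hσ hx (hP hx), hσ⟩
  refine saturated_iff.2 fun P hP => ?_
  obtain ⟨Q, σ, a1, a2⟩ := exists_fullyNormalized F (hP.trans hT.1)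
  have hQ := iso_le_of_sc hT a1 hP
  refine ⟨Q, σ, ⟨m1 hP a1.1, a1.2⟩, fullyAutomized_iff.2 ⟨hQ, ?_⟩, receptive_iff.2 ⟨hQ, ?_⟩⟩
  · have b1 : AutF (Full F T hT.1) Q = AutF F Q := le_antisymm (autF_mono (full_sub F T hT.1) hQ)
      fun α hα => (mem_autF hQ).2 ⟨⟨m1 hQ (iso_of_mem_autF a2.1 hα).1, maps_of_mem_autF hα⟩,
        fix_of_mem_autF hα⟩
    have b2 : AutBy T Q = AutBy S Q := le_antisymm (autBy_mono hT.1 Q) fun α hα => by
      obtain ⟨s, hs, hN, rfl⟩ := mem_autBy.1 hα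
      obtain ⟨t, ht, c, hc, rfl⟩ := (mem_sup_of_normalizes' ((centralizerIn_le_normalizerIn S T).trans
        (normalizerIn_le_normalizer _ _))).1 (h hs)
      have c1 := (centralizerIn_antitone S hQ hc).2
      have c2 := centralizer_le_normalizer' Q c1
      have c3 := (Subgroup.mul_mem_cancel_right _ c2).1 hN
      rw [(homOn_cr Q).map_mul c3 c2, (cr_eq_one_iff c2).2 c1, mul_one]
      exact cr_mem_autBy ht c3
    rw [b1, b2]
    exact fn_syl hS hF a2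
  · intro P' ρ hρ
    obtain ⟨τ, b1, b2⟩ := (receptive_iff.1 (fn_rec hS hF a2)).2 P' ρ (hρ.of_sub (full_sub F T hT.1))
    refine ⟨τ, m1 (nphi_le _ _ _) (b1.restrict fun g hg => ?_), b2⟩
    obtain ⟨c1, c2, k, c3, c4⟩ := mem_nphi.1 hg
    exact mem_nphi.2 ⟨hT.1 c1, c2, k, hT.1 c3, c4⟩

end H14.Fus
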