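import Cfsg.Agent.H14.ZLift
import Cfsg.Agent.H14.Grp
import Cfsg.Agent.H14.Solv

/-! Constrained systems: the `A × B` lemma, centralizers, central quotients, residuals. -/

set_option autoImplicit false
set_option linter.unusedSectionVars false
set_option linter.unusedVariables false

namespace H14.Fus

open Equiv Cfsg Cfsg.FusionSystem H13

variable {Ω : Type*} [Group Ω] {S T : Subgroup Ω} {F : FusionSystem S} {E : FusionSystem T} {p : ℕ}

/-- fixed points -/
def FixIn {W : Subgroup Ω} {τ : Ω → Ω} (h : HomOn W τ) : Subgroup Ω where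
  carrier := {x | x ∈ W ∧ τ x = x}
  one_mem' := ⟨W.one_mem, h.map_one⟩
  mul_mem' := fun ha hb => ⟨W.mul_mem ha.1 hb.1, by rw [h.map_mul ha.1 hb.1, ha.2, hb.2]⟩
  inv_mem' := fun ha => ⟨W.inv_mem ha.1, by rw [h.map_inv ha.1, ha.2]⟩

theorem fIso_of_conj {T' : Subgroup Ω} [Finite T] {E' : FusionSystem T'} {τ : Perm Ω}
    (h0 : HomOn T τ) (hm : Maps T T' τ)
    (h1 : ∀ (P : Subgroup Ω) (σ : Perm Ω), Mor E P σ → Mor E' (img τ P) (τ * σ * τ⁻¹ : Perm Ω))
    (h2 : ∀ (P : Subgroup Ω) (σ : Perm Ω), Mor E' P σ →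
      Mor E (img (τ⁻¹ : Perm Ω) P) (τ⁻¹ * σ * τ : Perm Ω)) : FIso E E' τ := by
  have := hm.finite
  refine ⟨fac_of_iso h0 τ.injective.injOn hm.img_eq (fun P f hP hf => ?_) fun P f hf => ?_,
    τ.injective.injOn⟩
  · obtain ⟨σ, a1, a2⟩ := hf.exists_perm
    have a3 := h2 _ σ a1
    rw [(h0.mono hP).img_mul, inv_mul_cancel, show img (1 : Perm Ω) P = P from img_id P] at a3
    exact ⟨_, a3, fun x hx => by rw [mul_ap, mul_ap, ap_inv, a2 _ (mem_img_of_mem _ hx)]⟩
  · obtain ⟨σ, a1, a2⟩ := hf.exists_perm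
    exact ⟨_, h1 P σ a1, fun x hx => by rw [mul_ap, mul_ap, inv_ap, a2 x hx]⟩

variable [Finite S] [Fact p.Prime]

/-- Thompson's `A × B` lemma -/
theorem fix_of_AB (hS : IsPGroup p S) {W R U : Subgroup Ω} (hW : W ≤ S) (hR : R ≤ W) (hU : U ≤ W)
    (hN : W ≤ Subgroup.normalizer (R : Set Ω)) {τ : Perm Ω} (hτ : HomOn W τ) (hm : Maps R R τ)
    (hc : (orderOf τ).Coprime p) (h1 : ∀ x ∈ U, τ x = x) (h2 : ∀ x ∈ centralizerIn R U, τ x = x) :
    ∀ x ∈ R, τ x = x := by
  have a1 : FixIn hτ ≤ W := fun x hx => hx.1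
  have a2 : Maps (FixIn hτ) (FixIn hτ) τ := (maps_one _).congr fun x hx => hx.2.symm
  have key : R ≤ FixIn hτ := le_of_normalizerIn_le hS (a1.trans hW) (hR.trans hW) (a1.trans hN)
    fun x hx => by
      have b0 : normalizerIn R (FixIn hτ) ≤ W := (normalizerIn_le _ _).trans hR
      refine ⟨b0 hx, fix_of_fix_of_coprime (hS.to_le (b0.trans hW))
        (inf_le_left : normalizerIn R (FixIn hτ) ⊓ FixIn hτ ≤ _) (hτ.mono b0) (fun y hy => hy.2.2)
        (fun y hy => ?_) hc (fun y _ => by rw [pow_orderOf_eq_one]; rfl) x hx⟩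
      have b1 : τ y ∈ normalizerIn R (FixIn hτ) :=
        ⟨hm.mem hy.1, hτ.mem_normalizer a1 a2 (b0 hy) hy.2⟩
      have b2 := Subgroup.mul_mem _ (Subgroup.inv_mem _ hy) b1
      refine ⟨b2, b0 b2, h2 _ ⟨b2.1, fun u hu => ?_⟩⟩
      have b3 := (conj_mem_of_normalizer hy.2 (⟨hU hu, h1 u hu⟩ : u ∈ FixIn hτ)).2
      rw [hτ.map_conj (b0 hy) (hU hu), h1 u hu] at b3
      calc u * (y⁻¹ * τ y) = y⁻¹ * (y * u * y⁻¹) * τ y := by group
        _ = y⁻¹ * τ y * u := by rw [← b3]; group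
  exact fun x hx => (key hx).2

theorem constrained_of_fix (hS : IsPGroup p S) (hF : F.IsSaturated p) {R : Subgroup Ω}
    (hR : F.IsNormal R) (h : ∀ P, R ≤ P → P ≤ S → ∀ β ∈ AutF F P, (orderOf β).Coprime p →
      (∀ x ∈ R, β x = x) → β = 1) : F.IsConstrained p := by
  have h1 := sc_of_normal hR
  refine constrained_of_normal hF (normal_of_wc_cr hS hF (wc_of_sc (sc_sup_centralizerIn hS hF h1))
    fun P a1 a2 _ => ?_) ((centralizerIn_antitone S le_sup_left).trans le_sup_right)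
  have a3 := le_of_normal_of_cr hS hR a1 a2
  have := finite_autF_of_le F a1.1
  have : Finite (AutF F P ⊓ Kres R ⊥ : Subgroup _) := finite_of_le inf_le_left
  refine sup_le a3 (le_of_normalizerIn_le hS a1.1 (centralizerIn_le _ _)
    (a1.1.trans (sc_le_normalizer (sc_centralizerIn hR))) fun g hg => ?_)
  refine mem_of_cr_mem_op a1 a2 hg.1.1 hg.2 (le_op (T := AutF F P ⊓ Kres R ⊥) inf_le_left
    (isPGroup_of_coprime fun β hβ hc => h P a3 a1.1 β hβ.1 hc (mem_kres_bot.1 hβ.2))
    (fun k hk => normalizer_inf (Subgroup.le_normalizer hk) (maps_cj_iff.1 ?_))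
    ⟨cr_mem_autF F a1.1 hg.1.1 hg.2, (mem_nk.1 ((nk_kres_bot a3).2 hg)).2⟩)
  simpa only [img_cj_bot] using maps_kres (K := ⊥) (sc_maps h1 (iso_of_mem_autF a1.1 hk).1 a3)

theorem eq_one_of_fix_normal (hS : IsPGroup p S) {R P : Subgroup Ω} (hR : F.IsNormal R)
    (hc : centralizerIn S R ≤ R) (h1 : R ≤ P) (hP : P ≤ S) {β : Perm Ω} (hβ : β ∈ AutF F P)
    (hco : (orderOf β).Coprime p) (h : ∀ x ∈ R, β x = x) : β = 1 := by
  have a1 := iso_of_mem_autF hP hβ
  refine perm_ext_on (fix_of_mem_autF hβ) (fun _ _ => rfl) (fix_of_fix_of_coprime (hS.to_le hP) h1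
    a1.hom h (fun x hx => hc ⟨S.mul_mem (S.inv_mem (hP hx)) (a1.1.mem hx), ?_⟩) hco
    fun y _ => by rw [pow_orderOf_eq_one]; rfl)
  have a4 := HomOn.inv_mul_mem_centralizer (homOn_id _) a1.hom h1 (fun y hy => (h y hy).symm) hx
    (normal_le_normalizer hR (hP hx))
  rwa [img_id] at a4

/-- a `p'`-automorphism centralizing `U` and `C_R(U)` extends trivially over a normal `R` -/
theorem exists_ext_AB (hS : IsPGroup p S) {R U P : Subgroup Ω} (hR : F.IsNormal R)
    (hP : P ≤ centralizerIn S U) {β : Perm Ω} (hβ : β ∈ AutF F P) (hc : (orderOf β).Coprime p)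
    (h : CExt F (U ⊔ centralizerIn R U) P β) (h' : P ≤ centralizerIn S (centralizerIn R U) ∨
      centralizerIn R U ≤ P) :
    ∃ γ ∈ AutF F (P ⊔ U ⊔ R), (orderOf γ).Coprime p ∧ (∀ x ∈ P, γ x = β x) ∧
      ∀ x ∈ U ⊔ R, γ x = x := by
  obtain ⟨τ, a1, a2, a3⟩ := h.perm
  have a0 := a1.hom.maps_sup ((maps_of_mem_autF hβ).congr fun x hx => (a2 x hx).symm)
    ((maps_one _).congr fun x hx => (a3 x hx).symm)
  obtain ⟨n, b1, b2⟩ := Iso.exists_coprime_pow (F := F) le_sup_left ⟨a1, a0⟩ hβ a2 hc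
  have b0 := Subgroup.pow_mem _ (Iso.rs_mem (F := F) ⟨a1, a0⟩) n
  have b3 := mem_kres_bot.1 (Subgroup.pow_mem _ (mem_kres_bot.2 fun y hy => by
    rw [rs_apply a0 (Subgroup.mem_sup_right hy), a3 y hy]) n)
  obtain ⟨ρ, c1, c2, -⟩ := normal_extend_iso hR (iso_of_mem_autF a1.le b0)
  obtain ⟨γ, d1, d2, d3⟩ := c1.exists_coprime_ext le_sup_left b0 c2 b1
  have e : P ⊔ (U ⊔ centralizerIn R U) ⊔ R = P ⊔ U ⊔ R := by
    rw [sup_assoc, sup_assoc, sup_eq_right.2 (centralizerIn_le _ _), sup_assoc]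
  have d0 := iso_of_mem_autF c1.le d1
  have d4 : ∀ x ∈ U ⊔ centralizerIn R U, γ x = x := fun x hx => by
    rw [d3 x (Subgroup.mem_sup_right hx), b3 x hx]
  have d5 := fix_of_AB hS c1.le le_sup_right ((le_sup_left.trans le_sup_right).trans le_sup_left)
    (c1.le.trans (normal_le_normalizer hR)) d0.hom (sc_maps (sc_of_normal hR) d0.1 le_sup_right) d2
    (fun x hx => d4 x (Subgroup.mem_sup_left hx)) fun x hx => d4 x (Subgroup.mem_sup_right hx)
  refine ⟨γ, e ▸ d1, d2, fun x hx => by rw [d3 x (Subgroup.mem_sup_left hx), b2 x hx], ?_⟩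
  exact HomOn.eqOn_sup (d0.hom.mono (sup_le_sup_right (le_sup_left.trans le_sup_right) R))
    (homOn_id _) (fun x hx => d4 x (Subgroup.mem_sup_left hx)) d5

theorem csys_constrained (hS : IsPGroup p S) (hF : F.IsConstrained p) {U : Subgroup Ω}
    (hU : F.IsFullyCentralized U) {C : FusionSystem (centralizerIn S U)}
    (hC : F.IsCentralizerSystem U C) : C.IsConstrained p := by
  have := finite_of_le (centralizerIn_le S U)
  have h1 := saturated_centralizer hS hF.1 hU hC
  have hR := core_normal F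
  have hsub := H13.centralizerSystem_sub hC
  refine constrained_of_fix (hS.to_le (centralizerIn_le _ _)) h1
    (normal_inf_sub hS hF.1 (centralizerIn_le _ _) h1 hsub hR) fun P a1 a2 β hβ hc h => ?_
  have a3 : centralizerIn F.core U ≤ P := fun x hx => a1 ⟨hx.1, hR.1 hx.1, hx.2⟩
  obtain ⟨g, b1, b2, b3⟩ := ((isCentralizerSystem_iff.1 hC P β).1 (iso_of_mem_autF a2 hβ).1).2
  have b0 : U ⊔ centralizerIn F.core U ≤ P ⊔ U := sup_le le_sup_right (a3.trans le_sup_left)
  obtain ⟨γ, c1, c2, c3, c4⟩ := exists_ext_AB hS hR a2 (autF_mono hsub a2 hβ) hc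
    (cExt_of_mor b1 le_sup_left b0 b2 (HomOn.eqOn_sup (b1.hom.mono b0) (homOn_id _) b3
      fun x hx => by rw [b2 x (a3 hx), h x ⟨hx.1, hR.1 hx.1, hx.2⟩])) (Or.inr a3)
  rw [eq_one_of_fix_normal hS hR (constrained_iff.1 hF).2 le_sup_right
    (sup_le (sup_le (a2.trans (centralizerIn_le _ _)) hU.1) hR.1) c1 c2
    fun x hx => c4 x (Subgroup.mem_sup_right hx)] at c3
  exact perm_ext_on (fix_of_mem_autF hβ) (fun _ _ => rfl) fun x hx => (c3 x hx).symm

theorem constrained_of_cent (hS : IsPGroup p S) (hF : F.IsSaturated p) {R : Subgroup Ω}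
    (hR : F.IsNormal R) {M : FusionSystem (centralizerIn S R)} (hM : Inv M F)
    (h : M.IsConstrained p) : F.IsConstrained p := by
  have := finite_of_le hM.le
  exact constrained_of_normal hF (H13.normal_sup (hM.core_normal hS hF) hR) (le_trans (le_trans
    (le_inf (centralizerIn_antitone S le_sup_right) ((centralizerIn_antitone S le_sup_left).trans
      (centralizerIn_le_centralizer _ _))) (constrained_iff.1 h).2) le_sup_left)

omit [Finite S] [Fact p.Prime] in
theorem centralizerIn_normalizerIn (S U : Subgroup Ω) :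
    centralizerIn (normalizerIn S U) U = centralizerIn S U :=
  le_antisymm (centralizerIn_mono (normalizerIn_le _ _) le_rfl)
    (le_inf (centralizerIn_le_normalizerIn _ _) (centralizerIn_le_centralizer _ _))

theorem nsys_constrained (hS : IsPGroup p S) (hF : F.IsSaturated p) {U V : Subgroup Ω}
    (hU : F.IsFullyNormalized U) {N : FusionSystem (normalizerIn S U)}
    (hN : F.IsNormalizerSystem U N) {C : FusionSystem V} (hV : V = centralizerIn S U)
    (hC : C.IsConstrained p) (h : ∀ P f, P ≤ V → CExt F U P f → Mor C P f) : N.IsConstrained p := by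
  have := finite_of_le (normalizerIn_le S U)
  have := finite_of_le (hV.le.trans (centralizerIn_le _ _))
  have hp : IsPGroup p (normalizerIn S U) := hS.to_le (normalizerIn_le _ _)
  have h1 := saturated_normalizer hS hF hU hN
  have h2 := normal_normalizerSystem hU.1 hN
  obtain ⟨M, a1, a2⟩ := exists_normal_cent hp h1 h2
  have e := (centralizerIn_normalizerIn S U).trans hV.symm
  exact constrained_of_cent hp h1 h2 (nrm_inv a1) (constrained_of_sc
    (hS.to_le (hV.le.trans (centralizerIn_le _ _))) hC (e.symm ▸ sc_top C) (nrm_sat a1)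
    (isSubsystemOf_iff.2 fun P f hf => h P f (hf.le.trans e.le)
      ((a2.mono_sys (H13.normalizerSystem_sub hN)).2 P f hf)))

theorem nsys_conj {U U' : Subgroup Ω} {τ : Perm Ω}
    (hτ : Iso F (normalizerIn S U) (normalizerIn S U') τ) (hU : U ≤ S) (hm : Maps U U' τ)
    {N : FusionSystem (normalizerIn S U)} (hN : F.IsNormalizerSystem U N)
    {N' : FusionSystem (normalizerIn S U')} (hN' : F.IsNormalizerSystem U' N') (P : Subgroup Ω)
    (σ : Perm Ω) (hσ : Mor N P σ) : Mor N' (img τ P) (τ * σ * τ⁻¹ : Perm Ω) := by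
  obtain ⟨a1, ρ, a2, a3, a4⟩ := (mor_normalizer_iff hN).1 hσ
  have b0 := (hτ.hom.mono a1).maps_img
  have b1 : P ⊔ U ≤ normalizerIn S U := sup_le a1 (le_normalizerIn hU)
  have b2 := hτ.restrict b1 ((hτ.hom.mono b1).maps_sup b0 hm)
  refine (mor_normalizer_iff hN').2 ⟨img_le_iff.2 fun x hx => hτ.mem (a1 hx), τ * ρ * τ⁻¹,
    (hτ.1.mul a2 fun x hx => a2.mem_normalizerIn le_sup_right a4 hx (b1 hx).2).mul b2.inv.1
      fun x hx => b2.inv_mem hx, fun x hx => ?_, (hm.mul a4).mul hm.inv⟩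
  rw [mul_ap, mul_ap, mul_ap, mul_ap, a3 _ (b0.inv_mem hx)]

theorem nsys_fIso {U U' : Subgroup Ω} {τ : Perm Ω}
    (hτ : Iso F (normalizerIn S U) (normalizerIn S U') τ) (hU : U ≤ S) (hU' : U' ≤ S)
    (hm : Maps U U' τ) {N : FusionSystem (normalizerIn S U)} (hN : F.IsNormalizerSystem U N)
    {N' : FusionSystem (normalizerIn S U')} (hN' : F.IsNormalizerSystem U' N') : FIso N N' τ := by
  have := finite_of_le (normalizerIn_le S U)
  exact fIso_of_conj hτ.hom hτ.2 (nsys_conj hτ hU hm hN hN') fun P σ hσ => by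
    simpa only [inv_inv] using nsys_conj hτ.inv hU' hm.inv hN' hN P σ hσ

section
variable {Ω' : Type*} [Group Ω'] {S' : Subgroup Ω'} {D : FusionSystem S'} {θ : Ω → Ω'}

theorem Fac.constrained (hS : IsPGroup p S) (h : Fac F D θ) (hZ : F.IsCentral (pre S θ ⊥))
    (hF : F.IsConstrained p) : D.IsConstrained p := by
  have := h.finite
  have hR := core_normal F
  have hZR := H13.le_core (normal_of_central hZ)
  refine constrained_of_fix (h.isPGroup hS) (h.saturated hS hF.1) (h.normal_img hR)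
    fun P' a1 a2 β' hβ' hc e => ?_
  have b0 := pre_le S θ P'
  have b1 : F.core ≤ pre S θ P' := (le_pre_iff h.hom hR.1).2 a1
  have b2 := h.img_ind_autF b0 (hZR.trans b1)
  rw [h.img_pre a2] at b2
  have hh := h.fHom.homOn_ind b0
  obtain ⟨β, c1, rfl⟩ := hh.mem_img.1 (b2 ▸ hβ')
  have c2 := sc_maps (sc_of_normal hR) (iso_of_mem_autF b0 c1).1 b1
  obtain ⟨k, hk⟩ := pElt_of_ind_eq hS h.fHom hZ hR.1 hZR (rs_mem_autF b1 b0 c1 c2) fun x hx => by
    rw [rs_apply c2 hx, ← (h.fHom.ind_spec b0 c1).2 x (b1 hx), e _ (mem_img_of_mem θ hx)]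
  rw [← (homOn_rs _).map_pow c2] at hk
  have := finite_autF_of_le F b0
  have c3 := Subgroup.pow_mem _ c1 (p ^ k)
  obtain ⟨l, hl⟩ := exists_pow_coprime (p := p) (orderOf_ne_zero_of_mem c3)
  have c4 := eq_one_of_fix_normal hS hR (constrained_iff.1 hF).2 b1 b0 (Subgroup.pow_mem _ c3 _) hl
    (mem_kres_bot.1 (Subgroup.pow_mem _ (mem_kres_bot.2
      ((rs_eq_one_iff (Subgroup.pow_mem (stab _) c2 _)).1 hk)) _))
  rw [← pow_mul, ← pow_add] at c4
  exact eq_one_of_coprime_of_pow hc (k := k + l) (by rw [← hh.map_pow c1, c4, hh.map_one])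

theorem FIso.inv_fIso {U : Subgroup Ω} {U' : Subgroup Ω'} {C : FusionSystem U}
    {C' : FusionSystem U'} {η : Ω' → Ω} (h : FIso C' C η) (e : ∀ x ∈ U', θ (η x) = x) :
    FIso C C' θ := by
  obtain ⟨ρ, a1, a2, -⟩ := h.exists_inv
  refine a1.congr fun x hx => ?_
  obtain ⟨y, hy, rfl⟩ := h.1.surj hx
  rw [a2 y hy, e y hy]

theorem FIso.opp (hS : IsPGroup p S) (hF : F.IsSaturated p) (h : FIso F D θ) :
    FIso (OPp F p) (OPp D p) θ := by
  have := h.finite
  have hS' := h.1.isPGroup hS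
  have hD := h.1.saturated hS hF
  obtain ⟨η, a1, a2, a3, -⟩ := h.exists_inv
  obtain ⟨E₁, b1⟩ := exists_fIso (OPp F p) h.hom h.2 h.img_eq
  obtain ⟨E₂, c1⟩ := exists_fIso (OPp D p) a1.hom a1.2 a1.img_eq
  have b2 := opp_le hS' hD (b1.1.saturated hS (saturated_opp hS hF)) (primeToPIndex_of_inv hS' hD
    (h.1.inv_img b1.1 (inv_opp hS (inv_self F) hF)))
  have c2 := opp_le hS hF (c1.1.saturated hS' (saturated_opp hS' hD)) (primeToPIndex_of_inv hS hF
    (a1.1.inv_img c1.1 (inv_opp hS' (inv_self D) hD)))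
  rwa [fs_antisymm b2 (b1.1.sub_of (c1.inv_fIso a3).1.fHom c2)]

theorem FIso.pResidual (hS : IsPGroup p S) (h : FIso F D θ)
    {C : FusionSystem (F.hyperfocalSubgroup p)} (hC : F.IsPResidual p C) {U' : Subgroup Ω'}
    {C' : FusionSystem U'} (hU : U' = D.hyperfocalSubgroup p) (hC' : C'.IsSaturated p)
    (hC'' : C'.HasPPowerIndexIn D p) : FIso C C' θ := by
  have := h.finite
  have hS' := h.1.isPGroup hS
  subst hU
  obtain ⟨η, a1, a2, a3, -⟩ := h.exists_inv
  have h1 := H13.hyp_le F p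
  have h2 := H13.hyp_le D p
  have := finite_of_le h1
  have := finite_of_le h2
  obtain ⟨E₁, b1⟩ := exists_fIso C (h.hom.mono h1) (h.2.mono h1) h.1.img_hyp
  obtain ⟨E₂, c1⟩ := exists_fIso C' (a1.hom.mono h2) (a1.2.mono h2) a1.1.img_hyp
  have b2 := sub_of_pPowerIndex hS' (b1.1.saturated (hS.to_le h1) hC.1)
    (b1.1.sub_of h.1.fHom hC.2.1) hC'' le_rfl
  have c2 := sub_of_pPowerIndex hS (c1.1.saturated (hS'.to_le h2) hC')
    (c1.1.sub_of a1.1.fHom hC''.1) hC.2 le_rfl
  rwa [← fs_antisymm b2 ((c1.inv_fIso fun x hx => a3 x (h2 hx)).1.sub_of b1.1.fHom c2)]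

end

omit [Finite S] in
theorem ChP.normal {G N : Subgroup Ω} [Finite G] (hG : ChP p G) (hN : N ≤ G)
    (hn : G ≤ Subgroup.normalizer (N : Set Ω)) : ChP p N := by
  have := finite_of_le hN
  have := finite_of_le (centralizerIn_le N (Op p N))
  have := finite_of_le (op_le p G)
  refine le_op (centralizerIn_le _ _) (isPGroup_of_coprime fun x hx hc => ?_) fun g hg =>
    normalizer_centralizerIn (Subgroup.le_normalizer hg) (le_normalizer_op p N hg)
  have a0 := le_normalizer_op p G (hN hx.1)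
  have a1 := fix_of_fix_of_coprime (isPGroup_op p G) (inf_le_left : Op p G ⊓ N ≤ _)
    (homOn_cj _ x) (fun y hy => by
      rw [cj_apply, ← hx.2 y (op_inf_le_op hN hy), mul_inv_cancel_right])
    (fun y hy => ⟨Subgroup.mul_mem _ (Subgroup.inv_mem _ hy) (conj_mem_of_normalizer a0 hy), by
      rw [cj_apply, show y⁻¹ * (x * y * x⁻¹) = y⁻¹ * x * y * x⁻¹ by group]
      exact N.mul_mem (conj_mem_of_normalizer' (hn (op_le p G hy)) hx.1) (N.inv_mem hx.1)⟩) hc
    fun y _ => by rw [← map_pow, pow_orderOf_eq_one, map_one]; rfl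
  obtain ⟨k, hk⟩ := isPGroup_iff_mem.1 (isPGroup_op p G) x (hG ⟨hN hx.1, fun y hy => by
    have := a1 y hy
    rw [cj_apply, mul_inv_eq_iff_eq_mul] at this
    exact this.symm⟩)
  exact eq_one_of_coprime_of_pow hc hk

omit [Finite S] in
theorem normalIn_ofSubgroup' {G H S T : Subgroup Ω} [Finite G] (hS : SylIn p S G) (hH : H ≤ G)
    (hN : G ≤ Subgroup.normalizer (H : Set Ω)) (hT : T = S ⊓ H) :
    (fusionSystemOfSubgroup H T (hT.le.trans inf_le_right)).IsNormalIn
      (fusionSystemOfSubgroup G S hS.le) p := by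
  subst hT
  have := finite_of_le hS.le
  exact normalIn_ofSubgroup hS hH hN

omit [Finite S] in
theorem opp_ofSubgroup {G S : Subgroup Ω} [Finite G] (hS : SylIn p S G) (hG : ChP p G) :
    OPp (fusionSystemOfSubgroup G S hS.le) p = fusionSystemOfSubgroup (OUp' p G) S hS.oUp'.le := by
  have := finite_of_le hS.le
  have hp := hS.isPGroup
  have h1 := normalIn_ofSubgroup' hS (oUp'_le p G) (le_normalizer_oUp' p G)
    (inf_eq_left.2 hS.oUp'.le).symm
  have hF := nrm_sat' h1
  refine fs_antisymm (opp_le hp hF (nrm_sat h1) (primeToPIndex_of_inv hp hF (nrm_inv h1)))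
    (isSubsystemOf_iff.2 fun P f hf => ?_)
  obtain ⟨a1, a2, g, a3, a4⟩ := mor_ofSubgroup_iff.1 hf
  have hQ := hS.op_le
  have a5 := le_normalizer_op p G (oUp'_le p G a3)
  have b1 : Mor (fusionSystemOfSubgroup G S hS.le) (P ⊔ Op p G) (cj g) := by
    refine mor_ofSubgroup_iff.2 ⟨sup_le a1 hQ, img_le_iff.1 ?_, g, oUp'_le p G a3, fun _ _ => rfl⟩
    rw [(homOn_cj _ g).img_sup]
    exact sup_le (img_le_iff.2 fun x hx => by rw [cj_apply, ← a4 x hx]; exact a2 x hx)
      (img_le_iff.2 fun x hx => hQ (conj_mem_of_normalizer a5 hx))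
  have b2 : cr (Op p G) g ∈ OUp' p (AutF (fusionSystemOfSubgroup G S hS.le) (Op p G)) := by
    rw [autF_ofSubgroup hQ, oUp'_autBy]
    refine mem_img_of_mem _ (oUp'_mono ?_ a3)
    exact le_inf le_rfl (le_normalizer_op p G)
  have b3 := oUp'_le_iff.2 ((primeToPIndex_iff.1 (isPPrimeResidual_opp hp hF).2.1).2 _ hQ) b2
  exact ((opp_of_restrict hp hF (wc_centric (wc_of_sc (sc_of_normal (op_normal_ofSubgroup hS)))
    ((centralizerIn_mono hS.le le_rfl).trans hG)) le_sup_right b1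
    ((iso_of_mem_autF hQ b3).1.congr fun x hx => cr_apply a5 hx)).restrict le_sup_left).congr
    fun x hx => (a4 x hx).symm

/-- one step of the residual series of a group -/
noncomputable def Rstep (p : ℕ) (H : Subgroup Ω) : Subgroup Ω := OUp p (OUp' p H)

omit [Finite S] [Fact p.Prime] in
theorem rstep_le (H : Subgroup Ω) : Rstep p H ≤ H := (oUp_le _ _).trans (oUp'_le _ _)

omit [Finite S] [Fact p.Prime] in
theorem rstep_iter_le (H : Subgroup Ω) (n : ℕ) : (Rstep p)^[n] H ≤ H := by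
  induction n with
  | zero => exact le_rfl
  | succ n ih => rw [Function.iterate_succ_apply']; exact (rstep_le _).trans ih

omit [Finite S] in
theorem normalizer_rstep_iter (H : Subgroup Ω) (n : ℕ) : Subgroup.normalizer (H : Set Ω) ≤
    Subgroup.normalizer (((Rstep p)^[n] H : Subgroup Ω) : Set Ω) := by
  induction n with
  | zero => exact le_rfl
  | succ n ih =>
    rw [Function.iterate_succ_apply']
    exact ih.trans ((normalizer_le_normalizer_oUp' p _).trans (normalizer_le_normalizer_oUp p _))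

omit [Finite S] in
theorem HomOn.img_rstep_iter {Ω' : Type*} [Group Ω'] {H : Subgroup Ω} [Finite H] {f : Ω → Ω'}
    (hf : HomOn H f) (n : ℕ) : img f ((Rstep p)^[n] H) = (Rstep p)^[n] (img f H) := by
  induction n with
  | zero => rfl
  | succ n ih =>
    have h1 := rstep_iter_le (p := p) H n
    have := finite_of_le h1
    have := finite_of_le (oUp'_le p ((Rstep p)^[n] H))
    rw [Function.iterate_succ_apply', Function.iterate_succ_apply', ← ih, Rstep, Rstep,
      (hf.mono ((oUp'_le _ _).trans h1)).img_oUp, (hf.mono h1).img_oUp']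

omit [Finite S] in
theorem pSolvable_iff {G : Type*} [Group G] [Finite G] :
    IsPSolvable p G ↔ ∃ n, (Rstep p)^[n] (⊤ : Subgroup G) = ⊥ := by
  constructor
  · rintro ⟨n, H, h0, h1, h2, h3, h4⟩
    have key : ∀ k, ∀ i : Fin (n + 1), i.1 + k = n → (Rstep p)^[k] (⊤ : Subgroup G) ≤ H i := by
      intro k
      induction k with
      | zero => intro i hi; obtain rfl : i = Fin.last n := Fin.ext hi; exact h1.ge
      | succ k ih =>
        intro i hi
        have hi' : i.1 < n := by omega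
        have a1 := ih (Fin.succ ⟨i.1, hi'⟩) (by simp; omega)
        have a2 : ∀ x ∈ H (Fin.succ ⟨i.1, hi'⟩), x ^ (H i).relIndex (H (Fin.succ ⟨i.1, hi'⟩)) ∈ H i :=
          fun x hx => by
            have := h3 i
            exact ((H i).subgroupOf _).pow_index_mem ⟨x, hx⟩
        rw [Function.iterate_succ_apply']
        rcases h4 ⟨i.1, hi'⟩ with ⟨m, hm⟩ | hm
        · exact oUp_le_of_pow_mem fun x hx => ⟨m, hm ▸ a2 x (a1 (oUp'_le _ _ hx))⟩
        · exact (oUp_le _ _).trans (oUp'_le_iff.2 fun x hx k hk => mem_of_pow_mem_of_coprime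
            ((hm.symm.pow_left k).coprime_dvd_left (orderOf_dvd_of_pow_eq_one hk)) (a2 x (a1 hx)))
    exact ⟨n, eq_bot_iff.2 (h0 ▸ key n 0 (by simp))⟩
  · rintro ⟨n, hn⟩
    let K : ℕ → Subgroup G := fun j =>
      if j % 2 = 0 then (Rstep p)^[j / 2] ⊤ else OUp' p ((Rstep p)^[j / 2] ⊤)
    have k1 : ∀ j, K (j + 1) = OUp' p (K j) ∨ K (j + 1) = OUp p (K j) := fun j => by
      rcases Nat.mod_two_eq_zero_or_one j with h | h
      · left
        simp only [K, if_pos h, if_neg (show ¬ (j + 1) % 2 = 0 by omega),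
          show (j + 1) / 2 = j / 2 by omega]
      · right
        simp only [K, if_neg (show ¬ j % 2 = 0 by omega), if_pos (show (j + 1) % 2 = 0 by omega),
          show (j + 1) / 2 = j / 2 + 1 by omega, Function.iterate_succ_apply', Rstep]
    have k2 : Antitone K := antitone_nat_of_succ_le fun j => by
      rcases k1 j with h | h <;> rw [h]
      exacts [oUp'_le _ _, oUp_le _ _]
    have k3 : ∀ j, (K j).Normal := fun j => by
      induction j with
      | zero => exact inferInstanceAs (⊤ : Subgroup G).Normal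
      | succ j ih =>
        have a1 := Subgroup.normalizer_eq_top_iff.2 ih
        refine Subgroup.normalizer_eq_top_iff.1 (eq_top_iff.2 (a1.ge.trans ?_))
        rcases k1 j with h | h <;> rw [h]
        exacts [normalizer_le_normalizer_oUp' p _, normalizer_le_normalizer_oUp p _]
    refine ⟨2 * n, fun i => K (2 * n - i), ?_, ?_, fun i j hij => k2 (by omega), fun i => k3 _,
      fun i => ?_⟩
    · simp only [K, Fin.val_zero, Nat.sub_zero, Nat.mul_mod_right, if_true]
      rwa [Nat.mul_div_cancel_left n two_pos]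
    · simp [K]
    · have e : 2 * n - (i.castSucc : ℕ) = 2 * n - (i.succ : ℕ) + 1 := by
        have := i.2; simp; omega
      beta_reduce
      rw [e]
      rcases k1 (2 * n - (i.succ : ℕ)) with h | h <;> rw [h]
      · right
        obtain ⟨R, hR⟩ := exists_sylIn p (K (2 * n - (i.succ : ℕ)))
        refine ((Nat.Prime.coprime_iff_not_dvd Fact.out).2 fun hd => hR.not_dvd_relIndex ?_).symm
        rw [← Subgroup.relIndex_mul_relIndex R _ _ hR.oUp'.le (oUp'_le _ _)]
        exact hd.mul_left _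
      · left
        have := (normal_subgroupOf_iff (oUp_le p _)).2 (le_normalizer_oUp p (K (2 * n - (i.succ : ℕ))))
        refine IsPGroup.iff_card.1 fun x => ?_
        obtain ⟨y, rfl⟩ := QuotientGroup.mk_surjective x
        obtain ⟨k, hk⟩ := exists_pow_mem_oUp (p := p) y.2
        exact ⟨k, by rw [← QuotientGroup.mk_pow, QuotientGroup.eq_one_iff]; exact hk⟩

theorem fIso_rstep (hS : IsPGroup p S) (hF : F.IsSaturated p) {Ω' : Type*} [Group Ω']
    {G R : Subgroup Ω'} [Finite G] (hR : SylIn p R G) (hG : ChP p G) {θ : Ω → Ω'}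
    (h : FIso F (fusionSystemOfSubgroup G R hR.le) θ)
    {D : FusionSystem ((OPp F p).hyperfocalSubgroup p)} (hD : (OPp F p).IsPResidual p D) :
    ChP p (Rstep p G) ∧ ∃ hR' : SylIn p (R ⊓ Rstep p G) (Rstep p G),
      FIso D (fusionSystemOfSubgroup (Rstep p G) (R ⊓ Rstep p G) hR'.le) θ := by
  have := finite_of_le (oUp'_le p G)
  have := finite_of_le (rstep_le (p := p) G)
  have : Finite (OUp p (OUp' p G)) := finite_of_le (oUp_le p _)
  have h1 := h.opp hS hF
  rw [opp_ofSubgroup hR hG] at h1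
  have h2 := hR.oUp'.inf_normal (oUp_le p _) (le_normalizer_oUp p _)
  exact ⟨(hG.normal (oUp'_le p G) (le_normalizer_oUp' p G)).normal (oUp_le p _)
    (le_normalizer_oUp p _), h2, h1.pResidual hS hD (hyp_ofSubgroup hR.oUp').symm
      (saturated_ofSubgroup h2) (pPowerIndex_ofSubgroup hR.oUp' (oUp_le p _) le_rfl inf_le_left
        inf_le_right le_rfl)⟩

end H14.Fus
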