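import Cfsg.Agent.H20.K9d

/-! Centralizers of involutions are 2-groups. -/

set_option autoImplicit false
set_option linter.unusedSectionVars false
open Subgroup Cfsg H10 H20.N9

namespace H14.Cit

variable {G : Type*} [Group G] [Finite G] {q : ℕ}

theorem exq (h : Hy G q) {D : Subgroup G} (h2 : ¬ IsPGroup 2 D) (h3 : ¬ 3 ∣ Nat.card D) : ∃ x ∈ D, orderOf x = q := by
  haveI := Fact.mk h.hq
  by_cases k : q ∣ Nat.card D
  · obtain ⟨x, hx⟩ := exists_prime_orderOf_dvd_card' q k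
    exact ⟨x, x.2, by rw [Subgroup.orderOf_coe, hx]⟩
  refine absurd (IsPGroup.of_card (Nat.eq_prime_pow_of_unique_prime_dvd Nat.card_pos.ne' fun {r} hr hd => ?_)) h2
  rcases h.prm r hr (hd.trans (card_subgroup_dvd_card D)) with rfl | rfl | rfl
  exacts [rfl, absurd hd h3, absurd hd k]

theorem cit (h : Hy G q) (t1 : T1 G q) (F : Fac G) {S : Subgroup G} (hS : IsSylowIn 2 S ⊤)
    (hZ : IsPGroup 2 CC(S ⊓ CC(S)) ∨ 3 ∣ Nat.card NN(S ⊓ CC(S))) (hJ : 3 ∣ Nat.card NN(JT S)) :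
    ∀ t : G, orderOf t = 2 → IsPGroup 2 (centralizer ({t} : Set G)) := fun t ht => by
  by_contra hc
  let B : Subgroup G → Prop := fun X => IsTwoLocal X ∧ ∃ t ∈ X, ∃ x ∈ X, orderOf t = 2 ∧ orderOf x = q ∧ t * x = x * t
  have n3 : ∀ X, B X → ¬ 3 ∣ Nat.card X := fun X ⟨a, t, ht, x, hx, b, c, d⟩ k => t1 X a k t ht x hx b c d
  obtain ⟨x, hx, ox⟩ := exq h hc fun k => by
    obtain ⟨y, hy⟩ := exists_prime_orderOf_dvd_card' 3 k
    have := orderOf_dvd_of_pow_eq_one (h.c3 y t (by rw [Subgroup.orderOf_coe, hy])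
      (mem_centralizer_singleton_iff.1 y.2).symm)
    rw [ht] at this; omega
  have pt : IsPGroup 2 (zpowers t) := IsPGroup.of_card (n := 1) (by rw [Nat.card_zpowers, ht]; rfl)
  have b0 : B NN(zpowers t) := ⟨⟨_, pt, fun e => by simp [zpowers_eq_bot.1 e] at ht, rfl⟩, t,
    le_NN_self _ (mem_zpowers t), x, CC_le_NN _ (CC_zpowers t ▸ hx), ht, ox,
    (mem_centralizer_singleton_iff.1 hx).symm⟩
  obtain ⟨P0, hP0⟩ := exists_isSylowIn 2 NN(zpowers t)
  obtain ⟨P, ⟨X, bX, hP⟩, mx⟩ := Set.exists_max_image {P | ∃ X, B X ∧ IsSylowIn 2 P X} (fun P => Nat.card P)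
    (Set.toFinite _) ⟨P0, _, b0, hP0⟩
  have key : ∀ Y, B Y → NN(P) ≤ Y → ∃ g, cj g S = P := fun Y bY hY => by
    obtain ⟨S1, h1, l1⟩ := exists_isSylowIn_ge hP.isPGroup le_top
    obtain ⟨P1, h2, l2⟩ := exists_isSylowIn_ge (h1.isPGroup.to_inf_left (K := NN(P))) (inf_le_right.trans hY)
    have e := eq_of_le_of_card_ge ((le_inf l1 (le_NN_self P)).trans l2) (mx P1 ⟨Y, bY, h2⟩)
    obtain ⟨g, -, e2⟩ := hS.exists_cj h1
    by_contra! k
    exact (lt_inf_NN h1.isPGroup (l1.lt_of_ne fun e => k g (e2.trans e.symm))).not_ge (l2.trans e.ge)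
  obtain ⟨a, s, hs, y, hy, os, oy, c⟩ := id bX
  have P0 : P ≠ ⊥ := hP.ne_bot (os ▸ X.orderOf_dvd_natCard hs)
  by_cases k : IsPGroup 2 (X ⊓ CC(P ⊓ CC(P)) : Subgroup G)
  · have e := hP.eq_of_le k (le_inf hP.le (le_CC_symm inf_le_right)) inf_le_left
    have l : X ≤ NN(JT P) := fun g hg => by
      obtain ⟨c, hc, n, hn, rfl⟩ := (F X P a (n3 X bX) hP).1 g hg
      exact mul_mem (le_NN_JT (le_NN_self P) (e ▸ hc)) hn
    have bY : B NN(JT P) := ⟨⟨_, hP.isPGroup.to_le (JT_le P), fun e => H4.centerThompsonOf_ne_bot hP.isPGroup P0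
      (le_bot_iff.1 ((H4.centerThompsonOf_le_thompsonOf P).trans e.le)), rfl⟩, s, l hs, y, l hy, os, oy, c⟩
    obtain ⟨g, rfl⟩ := key _ bY (le_NN_JT le_rfl)
    exact n3 _ bY (by rwa [← cj_JT, ← cj_normalizer, card_cj])
  · obtain ⟨w, hw, ow⟩ := exq h k fun d => n3 X bX (d.trans (card_dvd_of_le inf_le_left))
    have pZ : IsPGroup 2 (P ⊓ CC(P) : Subgroup G) := hP.isPGroup.to_inf_left
    obtain ⟨z, hz, oz⟩ := exists_orderOf_eq_of_ne_bot pZ (center_ne_bot hP.isPGroup P0)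
    have bY : B NN(P ⊓ CC(P)) := ⟨⟨_, pZ, center_ne_bot hP.isPGroup P0, rfl⟩, z, le_NN_self _ hz, w, CC_le_NN _ hw.2,
      oz, ow, mem_CC.1 hw.2 z hz⟩
    obtain ⟨g, rfl⟩ := key _ bY (le_NN_inf le_rfl (le_NN_CC le_rfl))
    rcases hZ with hZ | hZ
    · have := isPGroup_cj g hZ
      rw [cj_centralizer, cj_inf, cj_centralizer] at this
      obtain ⟨n, hn⟩ := isPGroup_iff_mem.1 this w hw.2
      have d := h.hq.dvd_of_dvd_pow (ow ▸ orderOf_dvd_of_pow_eq_one hn)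
      have := Nat.le_of_dvd two_pos d
      have := h.q5
      omega
    · exact n3 _ bY (by rwa [← cj_centralizer, ← cj_inf, ← cj_normalizer, card_cj])

end H14.Cit
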