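import Cfsg.Agent.H14.CProd
import Cfsg.Agent.H14.Iso

/-! Quasisimple systems, components and the layer. -/

set_option autoImplicit false
set_option linter.unusedSectionVars false
set_option linter.unusedVariables false

namespace H14.Fus

open Equiv Cfsg Cfsg.FusionSystem H13

variable {Ω : Type*} [Group Ω] {S T U : Subgroup Ω} {F : FusionSystem S} {E : FusionSystem T}
  {C : FusionSystem U} {p : ℕ}

/-- a size for fusion systems -/
noncomputable def mu (F : FusionSystem S) : ℕ :=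
  Set.ncard {x : Subgroup Ω × Perm Ω | x.1 ≤ S ∧ x.2 ∈ AutF F x.1}

theorem mu_finite [Finite S] (F : FusionSystem S) :
    {x : Subgroup Ω × Perm Ω | x.1 ≤ S ∧ x.2 ∈ AutF F x.1}.Finite := by
  refine ((finite_subgroups_le S).biUnion (t := fun P => (Prod.mk P) '' (AutF F P : Set (Perm Ω)))
    fun P hP => ?_).subset fun x hx => Set.mem_biUnion hx.1 ⟨x.2, hx.2, rfl⟩
  have := finite_autF_of_le F hP
  exact (Set.toFinite _).image _

theorem mu_subset (h : E.IsSubsystemOf F) :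
    {x : Subgroup Ω × Perm Ω | x.1 ≤ T ∧ x.2 ∈ AutF E x.1} ⊆
      {x : Subgroup Ω × Perm Ω | x.1 ≤ S ∧ x.2 ∈ AutF F x.1} := fun x hx =>
  ⟨hx.1.trans (le_of_isSubsystemOf h), autF_mono h hx.1 hx.2⟩

theorem mu_mono [Finite S] (h : E.IsSubsystemOf F) : mu E ≤ mu F :=
  Set.ncard_le_ncard (mu_subset h) (mu_finite F)

theorem exists_min_sys (M : ∀ T : Subgroup Ω, FusionSystem T → Prop) (h : M S F) :
    ∃ (T : Subgroup Ω) (E : FusionSystem T), M T E ∧
      ∀ (U : Subgroup Ω) (D : FusionSystem U), M U D → mu E ≤ mu D := by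
  obtain ⟨⟨T, E⟩, h1, h2⟩ := (measure fun x : Σ T : Subgroup Ω, FusionSystem T => mu x.2).wf.has_min
    {x | M x.1 x.2} ⟨⟨S, F⟩, h⟩
  exact ⟨T, E, h1, fun U D hD => not_lt.1 (h2 ⟨U, D⟩ hD)⟩

theorem eq_of_sub_sub (h : E.IsSubsystemOf F) (h' : F.IsSubsystemOf E) : T = S :=
  le_antisymm (le_of_isSubsystemOf h) (le_of_isSubsystemOf h')

theorem hom_eq_of_sub_sub (h : E.IsSubsystemOf F) (h' : F.IsSubsystemOf E) (P : Subgroup Ω) :
    E.Hom P = F.Hom P := Set.Subset.antisymm (h P) (h' P)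

theorem sub_of_hom_eq (h : ∀ P, E.Hom P = F.Hom P) : E.IsSubsystemOf F := fun P => (h P).le

theorem sub_of_hom_eq' (h : ∀ P, E.Hom P = F.Hom P) : F.IsSubsystemOf E := fun P => (h P).ge

theorem inv_of_char (h1 : Inv E F) (h2 : Inv C E) [Finite S]
    (hc : ∀ γ, Iso F T T γ → ∀ (P : Subgroup Ω) (σ : Perm Ω), Mor C P σ →
      Mor C (img γ P) (γ * σ * γ⁻¹ : Perm Ω)) : Inv C F := by
  have := finite_of_le h1.le
  have := finite_of_le h2.le
  have h3 : ∀ γ, Iso F T T γ → ∀ x ∈ U, γ x ∈ U := fun γ hγ =>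
    img_le_iff.1 (hc γ hγ U 1 (mor_one C le_rfl)).le
  have h4 : ∀ γ, Iso F T T γ → Iso F U U γ := fun γ hγ =>
    (hγ.1.restrict h2.le).iso_self (h3 γ hγ)
  refine ⟨isSubsystemOf_trans h2.sub h1.sub, h1.sc_of_invariant h2.sc h3, fun P f α hf hα => ?_,
    fun P f hP hf => ?_⟩
  · obtain ⟨γ, a1, a2⟩ := h1.frat U α h2.le hα.1
    have a3 : Iso E U U (γ⁻¹ * α) := ⟨a2, (h4 γ a1).2.inv.mul hα.2⟩
    obtain ⟨σ, b1, b2⟩ := hf.exists_perm
    have a4 := hc γ a1 _ _ (h2.conj_perm b1 a3)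
    rw [(a3.hom.mono hf.le).img_mul, mul_inv_cancel_left] at a4
    refine a4.congr fun y hy => ?_
    rw [← b2 _ ((hα.hom.mono hf.le).maps_img.inv_mem hy)]
    simp
  · obtain ⟨γ, a1, a2⟩ := h1.frat P f (hP.trans h2.le) hf
    obtain ⟨δ, b1, b2⟩ := h2.frat P _ hP a2
    exact ⟨γ * δ, (h4 γ a1).mul (b1.of_sub h1.sub), b2.congr fun x _ => by rw [mul_inv_rev]; rfl⟩

theorem subnormal_rec {M : ∀ S : Subgroup Ω, FusionSystem S → Prop} (h : C.IsSubnormalIn F p)
    (h0 : M U C) (step : ∀ (V S : Subgroup Ω) (D : FusionSystem V) (F : FusionSystem S),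
      C.IsSubnormalIn D p → D.IsNormalIn F p → M V D → M S F) : M S F := by
  induction h with
  | refl => exact h0
  | step h1 h2 ih => exact step _ _ _ _ h1 h2 (ih h0 step)

variable [Fact p.Prime]

section
variable [Finite S]

theorem sub_of_mu_le (hS : IsPGroup p S) (hF : F.IsSaturated p) (h : E.IsSubsystemOf F)
    (h' : mu F ≤ mu E) : F.IsSubsystemOf E := by
  have h1 := Set.eq_of_subset_of_ncard_le (mu_subset h) h' (mu_finite F)
  refine alperin_le hS hF fun P σ _ hσ => ?_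
  have h2 : (P, rs P σ) ∈ {x : Subgroup Ω × Perm Ω | x.1 ≤ T ∧ x.2 ∈ AutF E x.1} :=
    h1 ▸ ⟨hσ.le, hσ.rs_mem⟩
  exact (iso_of_mem_autF h2.1 h2.2).1.congr fun x hx => rs_apply hσ.2 hx

theorem foc_le_of_sup_central {K Z : Subgroup Ω} (hK : F.StronglyClosed K) (hZ : F.IsCentral Z)
    (h : S ≤ K ⊔ Z) : F.focalSubgroup ≤ K := foc_le_iff.2 fun P f hf x hx => by
  obtain ⟨g, a1, a2, a3⟩ := cExt_of_central hZ hf
  obtain ⟨u, hu, z, hz, rfl⟩ := (mem_sup_of_normalizes'
    (hZ.1.trans (sc_le_normalizer hK))).1 (h (hf.le hx))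
  have b1 : u ∈ P ⊔ Z := (Subgroup.mul_mem_cancel_right _ (Subgroup.mem_sup_right hz)).1
    (Subgroup.mem_sup_left hx)
  have b2 := K.mul_mem (K.inv_mem hu) (sc_mem hK a1 b1 hu)
  rw [← a2 _ hx, a1.hom.map_mul b1 (Subgroup.mem_sup_right hz), a3 z hz,
    show (u * z)⁻¹ * (g u * z) = z⁻¹ * (u⁻¹ * g u * z) by group, central_comm hZ (hK.1 b2) hz,
    inv_mul_cancel_left]
  exact b2

theorem pow_eq_one_of_triv (hS : IsPGroup p S) {P Z : Subgroup Ω} (hP : P ≤ S) (hZ : Z ≤ P)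
    {κ : Perm Ω} (hκ : κ ∈ AutF F P) (h1 : ∀ x ∈ Z, κ x = x) (h2 : ∀ x ∈ P, x⁻¹ * κ x ∈ Z) :
    ∃ k, κ ^ p ^ k = 1 := by
  have := finite_autF_of_le F hP
  obtain ⟨k, hk⟩ := exists_pow_coprime (p := p) (orderOf_ne_zero_of_mem hκ)
  have a1 := Subgroup.pow_mem _ hκ (p ^ k)
  refine ⟨k, perm_ext_on (fix_of_mem_autF a1) (fun _ _ => rfl) (fix_of_fix_of_coprime (hS.to_le hP)
    hZ (homOn_of_mem_autF a1) (mem_kres_bot.1 (Subgroup.pow_mem _ (mem_kres_bot.2 h1) _))
    (H13.mem_trivMod.1 (Subgroup.pow_mem _ (H13.mem_trivMod.2 ⟨maps_of_mem_autF hκ, h2⟩) _)).2 hk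
    fun y _ => by rw [pow_orderOf_eq_one]; rfl)⟩

theorem mem_inn_of_pElt (hS : IsPGroup p S) (hF : F.IsSaturated p) {κ : Perm Ω}
    (hκ : κ ∈ AutF F S) {k : ℕ} (hk : κ ^ p ^ k = 1) : κ ∈ AutBy S S := by
  have := finite_autF_of_le F le_rfl
  obtain ⟨g, a1, a2⟩ := (sylIn_autF_top hS hF).exists_conj_mem hκ hk
  have := conj_mem_of_normalizer' (autAll_le_normalizer_inn S (autF_le_autAll F S a1)) a2
  rwa [show g⁻¹ * (g * κ * g⁻¹) * g = κ by group] at this

theorem qs_foc (h : F.Quasisimple p) : F.focalSubgroup = S :=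
  le_antisymm (focal_le F) (h.2.1.ge.trans (hyp_le_focal F p))

theorem qs_not_le_center (hS : IsPGroup p S) (h : F.Quasisimple p) : ¬ S ≤ F.center := by
  obtain ⟨Ω', _, _, D, θ, h1, h2⟩ := exists_quot' hS h.1
    (sc_of_normal (normal_of_central (center_central F)))
  intro h3
  refine ((quasisimple_iff hS h.1 h1 h2).1 h).2.2.1 ?_
  rw [← h1.img_eq, eq_bot_iff, img_le_iff]
  exact fun x hx => ((mem_ker h1.hom).1 (h2 ▸ h3 hx)).2

theorem Fac.sub_of_central {Ω' : Type*} [Group Ω'] {S' : Subgroup Ω'} {D : FusionSystem S'}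
    {θ : Ω → Ω'} (hS : IsPGroup p S) (hF : F.IsSaturated p) (h : Fac F D θ)
    (hZ : F.IsCentral (pre S θ ⊥)) {E : FusionSystem S} (hI : Inv E F) {E' : FusionSystem S'}
    (hE : Fac E E' θ) (hs : D.IsSubsystemOf E') : F.IsSubsystemOf E := by
  refine hI.sub_of_top fun α hα => ?_
  obtain ⟨α', a1, a2⟩ := h.fHom.iso_down hα
  rw [h.img_eq] at a1
  obtain ⟨β, b1, b2⟩ := hE.iso_up (a1.of_sub hs)
  have b0 : pre S θ S' = S := le_antisymm (pre_le _ _ _) fun x hx =>
    h.hom.mem_pre.2 ⟨hx, h.mem hx⟩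
  rw [b0] at b1 b2
  have c1 := (b1.of_sub hI.sub).inv.mul hα
  have c2 : ∀ x ∈ S, x⁻¹ * rs S (β⁻¹ * α) x ∈ pre S θ ⊥ := fun x hx => by
    rw [rs_apply c1.2 hx]
    refine (mem_ker h.hom).2 ⟨S.mul_mem (S.inv_mem hx) (c1.mem hx),
      (homOn_eq_iff h.hom hx (c1.mem hx)).1 (α'.injective ?_)⟩
    rw [a2 x hx, b2 _ (c1.mem hx), mul_ap, ap_inv]
  obtain ⟨k, hk⟩ := pow_eq_one_of_triv hS le_rfl (pre_le _ _ _) c1.rs_mem (fun x hx => by
    rw [rs_apply c1.2 (pre_le _ _ _ hx)]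
    exact H13.central_fix hZ c1.1 (pre_le _ _ _ hx) hx) c2
  have c3 := mor_of_mem_autBy E le_rfl c1.2 (mem_inn_of_pElt hS hF c1.rs_mem hk)
  have c4 := b1.1.mul c3 fun x hx => c1.mem hx
  rwa [mul_inv_cancel_left] at c4

/-- weakly normal subsystems of a quasisimple system -/
theorem qs_inv (hS : IsPGroup p S) (h : F.Quasisimple p) (hI : Inv E F) (hE : E.IsSaturated p) :
    T ≤ F.center ∨ F.IsSubsystemOf E := by
  have hZ := center_central F
  obtain ⟨Ω', _, _, D, θ, h1, h2⟩ := exists_quot' hS h.1 (sc_of_normal (normal_of_central hZ))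
  have h3 := ((quasisimple_iff hS h.1 h1 h2).1 h).2
  obtain ⟨E', a1, a2, a3⟩ := h1.fHom.exists_img hS hI.sub hE
  have a4 := h1.inv_img a1 hI
  have := finite_of_le a4.le
  rcases h3.2.2 _ _ (opp_normalIn (h1.isPGroup hS) h3.1 a4 a3) with b1 | ⟨b1, b2⟩
  · exact Or.inl fun x hx => h2 ▸ (mem_ker h1.hom).2
      ⟨hI.le hx, Subgroup.mem_bot.1 (b1 ▸ mem_img_of_mem θ hx)⟩
  · have b3 : S ≤ T ⊔ F.center := by
      rw [← h2, ← pre_img h1.hom hI.le, b1]
      exact fun x hx => h1.hom.mem_pre.2 ⟨hx, trivial⟩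
    obtain rfl : T = S := le_antisymm hI.le ((qs_foc h).ge.trans (foc_le_of_sup_central hI.sc hZ b3))
    have b4 := isSubsystemOf_trans (sub_of_hom_eq' b2) (opp_sub E' p)
    generalize img θ T = V at E' a1 a2 a3 a4 b1 b2 b4
    subst b1
    exact Or.inr (h1.sub_of_central hS h.1 (h2 ▸ hZ) hI a1 b4)

theorem qs_opp (hS : IsPGroup p S) (h : F.Quasisimple p) : OPp F p = F :=
  fs_antisymm (opp_sub F p) ((qs_inv hS h (inv_opp hS (inv_self F) h.1)
    (saturated_opp hS h.1)).resolve_left (qs_not_le_center hS h))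

theorem qs_not_sub_inner (hS : IsPGroup p S) (h : F.Quasisimple p) {R : Subgroup Ω} [Finite R]
    (hR : IsPGroup p R) : ¬ F.IsSubsystemOf (innerFusionSystem R) := fun h1 => by
  have h2 := H13.hyp_mono (p := p) h1
  rw [(isInner_inner R).hyp_eq_bot hR, h.2.1] at h2
  exact qs_not_le_center hS h (h2.trans bot_le)

theorem qs_core_le (hS : IsPGroup p S) (h : F.Quasisimple p) : F.core ≤ F.center := by
  have h1 := inner_normalIn hS h.1 (core_normal F)
  have := finite_of_le (H13.core_le F)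
  exact (qs_inv hS h (nrm_inv h1) (nrm_sat h1)).resolve_right
    (qs_not_sub_inner hS h (hS.to_le (H13.core_le F)))

theorem qs_not_comm (hS : IsPGroup p S) (h : F.Quasisimple p) :
    ¬ S ≤ Subgroup.centralizer (S : Set Ω) := fun h1 =>
  qs_not_le_center hS h ((H13.le_core (normal_of_sc_of_comm hS h.1 (sc_top F) h1)).trans
    (qs_core_le hS h))

theorem qs_not_constrained (hS : IsPGroup p S) (h : F.Quasisimple p) : ¬ F.IsConstrained p :=
  fun h1 => qs_not_le_center hS h (le_trans (le_trans (le_inf le_rfl (le_centralizer_comm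
    ((qs_core_le hS h).trans F.center_le_centralizer))) (constrained_iff.1 h1).2) (qs_core_le hS h))

theorem cen_of_coprime (hS : IsPGroup p S) (hU : U ≤ S) (hC : C.IsSaturated p)
    (hh : C.hyperfocalSubgroup p = U) {W : Subgroup Ω} (hW : W ≤ S)
    (hN : U ≤ Subgroup.normalizer (W : Set Ω))
    (h : ∀ P, P ≤ U → ∀ α ∈ AutF C P, (orderOf α).Coprime p → CExt F W P α) : Cen C F W := by
  have := finite_of_le hU
  have h1 : U ≤ centralizerIn S W := hh.ge.trans (H13.hyp_le_iff'.2 fun P hP α hα hc x hx => by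
    obtain ⟨g, a1, a2, a3⟩ := h P hP α hα hc
    have a4 := HomOn.inv_mul_mem_centralizer (homOn_id _) a1.hom le_sup_right
      (fun y hy => (a3 y hy).symm) (Subgroup.mem_sup_left hx) (hN (hP hx))
    rw [img_id, a2 x hx] at a4
    exact ⟨hU (U.mul_mem (U.inv_mem (hP hx)) (hP ((maps_of_mem_autF hα).mem hx))), a4⟩)
  have h2 := isCentralizerSystem_csys F W hW
  exact cen_of_sub_sys hW h2 (sub_of_coprime (hS.to_le hU) hC h1 fun P b1 _ _ α hα hc =>
    (isCentralizerSystem_iff.1 h2 P α).2 ⟨b1.1.trans h1, h P b1.1 α hα hc⟩)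

theorem cExt_of_kres {P W : Subgroup Ω} {K : Subgroup (Perm Ω)} (hK : IsPGroup p K) {α τ : Perm Ω}
    (hα : α ∈ AutF F P) (hc : (orderOf α).Coprime p) (h1 : Mor F (P ⊔ W) τ)
    (h2 : ∀ x ∈ P, τ x = α x) (h3 : τ ∈ Kres W K) : CExt F W P α := by
  obtain ⟨a1, a2⟩ := mem_kres.1 h3
  have b1 : Iso F (P ⊔ W) (P ⊔ W) τ := ⟨h1, h1.hom.maps_sup
    ((maps_of_mem_autF hα).congr fun x hx => (h2 x hx).symm) a1⟩
  obtain ⟨n, c1, c2⟩ := b1.exists_coprime_pow le_sup_left hα h2 hc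
  have c3 := Subgroup.pow_mem _ (kres_congr h3 fun x hx =>
    (rs_apply b1.2 (Subgroup.mem_sup_right hx)).symm) n
  obtain ⟨d1, d2⟩ := mem_kres.1 c3
  obtain ⟨k, hk⟩ := isPGroup_iff_mem.1 hK _ d2
  exact ⟨_, (iso_of_mem_autF h1.le (Subgroup.pow_mem _ b1.rs_mem n)).1, c2,
    (rs_eq_one_iff d1).1 (eq_one_of_coprime_of_pow (orderOf_rs_coprime d1 c1) hk)⟩

theorem cExt_of_central_inf (hS : IsPGroup p S) (hF : F.IsSaturated p) (hE : E.IsNormalIn F p)
    {W : Subgroup Ω} (hW : F.StronglyClosed W) (hZ : E.IsCentral (T ⊓ W)) {P : Subgroup Ω}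
    (hP : P ≤ T) {α : Perm Ω} (hα : α ∈ AutF E P) (hc : (orderOf α).Coprime p) :
    CExt F W P α := by
  have hI := nrm_inv hE
  have hT := hI.le
  have := finite_of_le hT
  have hN := isNK_nksys F W hW.1 (AutBy T W)
  have hWN := sc_le_normalizer hW
  have h0 : T ≤ NK S W (AutBy T W) := fun t ht =>
    mem_nk.2 ⟨⟨hT ht, hWN (hT ht)⟩, cr_mem_autBy ht (hWN (hT ht))⟩
  have h1 : E.IsSubsystemOf (NKsys F W hW.1 (AutBy T W)) := by
    refine sub_of_coprime (hS.to_le hT) (nrm_sat hE) h0 fun V v1 v2 _ β hβ hc => ?_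
    have hV := v1.1
    have := finite_of_le hV
    have a1 : T ⊓ W ≤ V := le_trans (le_inf inf_le_left ((central_le_centralizer hZ).trans
      (Subgroup.centralizer_le hV))) (H14.Fus.centric_le v1)
    have a0 : ∀ w ∈ W, ∀ x ∈ V, x⁻¹ * (w * x * w⁻¹) ∈ T ⊓ W := fun w hw x hx =>
      ⟨T.mul_mem (T.inv_mem (hV hx)) (sc_conj_mem hI.sc (hW.1 hw) (hV hx)), by
        rw [show x⁻¹ * (w * x * w⁻¹) = x⁻¹ * w * x⁻¹⁻¹ * w⁻¹ by group]
        exact W.mul_mem (sc_conj_mem hW (S.inv_mem (hT (hV hx))) hw) (W.inv_mem hw)⟩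
    have a2 : W ≤ normalizerIn S V := fun w hw => ⟨hW.1 hw, normalizer_of_finite fun x hx =>
      mem_of_triv a1 hx (a0 w hw x hx)⟩
    have a3 := autF_le_xg hS hF hE V ((tc_iff_centric hI).2 v1) hβ
    have a4 : ∀ g ∈ AutF E V, ∀ x ∈ T ⊓ W, g x = x := fun g hg x hx =>
      H13.central_fix hZ (iso_of_mem_autF hV hg).1 (a1 hx) hx
    obtain ⟨γ, b1, b2, b3, b4⟩ := xg_extend hS hF (hV.trans hT) a3 hc a2 fun c hc => by
      have c1 := cr_mem_autF F (hV.trans hT) (hW.1 hc) (a2 hc).2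
      have c2 : β * cr V c * β⁻¹ * (cr V c)⁻¹ ∈ AutF E V := by
        have := Subgroup.mul_mem _ hβ (conj_mem_of_normalizer (hI.autF_normal hV c1)
          (Subgroup.inv_mem _ hβ))
        convert this using 1; group
      have c3 : cr V c ∈ H13.trivMod V (T ⊓ W) := H13.mem_trivMod.2 ⟨maps_cr (a2 hc).2,
        fun x hx => by rw [cr_apply (a2 hc).2 hx]; exact a0 c hc x hx⟩
      have c4 : ∀ g ∈ AutF E V, g ∈ Subgroup.normalizer
          ((H13.trivMod V (T ⊓ W) : Subgroup (Perm Ω)) : Set (Perm Ω)) := fun g hg =>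
        trivMod_normal hg fun g' hg' x hx _ => by
          rw [a4 g' (Subgroup.zpowers_le.2 hg hg') x hx]; exact hx
      have := finite_autF_of_le E hV
      rw [← (radical_iff.1 v2).2]
      refine le_op (T := AutF E V ⊓ H13.trivMod V (T ⊓ W)) inf_le_left (isPGroup_iff_mem.2
        fun κ hκ => pow_eq_one_of_triv (hS.to_le hT) hV a1 hκ.1 (a4 κ hκ.1)
          (H13.mem_trivMod.1 hκ.2).2) (fun g hg => normalizer_inf (Subgroup.le_normalizer hg)
          (c4 g hg)) ⟨c2, Subgroup.mul_mem _ (conj_mem_of_normalizer (c4 β hβ) c3)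
          (Subgroup.inv_mem _ c3)⟩
    have b5 := iso_of_mem_autF (sup_le (hV.trans hT) hW.1) b1
    have b6 := fix_of_fix_of_coprime (hS.to_le hW.1) (inf_le_right : T ⊓ W ≤ W)
      (b5.hom.mono le_sup_right) (fun x hx => by rw [b3 x (a1 hx), a4 β hβ x hx])
      (fun x hx => ⟨hV (b4 x (Subgroup.mem_sup_right hx)), W.mul_mem (W.inv_mem hx)
        (sc_mem hW b5.1 (Subgroup.mem_sup_right hx) hx)⟩) b2
      fun y _ => by rw [pow_orderOf_eq_one]; rfl
    exact (hN.2 V β).2 ⟨hV.trans h0, γ, kres_congr (Subgroup.one_mem _)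
      fun x hx => (b6 x hx).symm, b5.1, b3⟩
  obtain ⟨-, τ, c3, c1, c2⟩ := (hN.2 P α).1 ((iso_of_mem_autF hP hα).1.of_sub h1)
  exact cExt_of_kres (isPGroup_autBy (hS.to_le hT) W) (hI.autF_le hP hα) hc c1 c2 c3

theorem cen_of_central_inf (hS : IsPGroup p S) (hF : F.IsSaturated p) (hE : E.IsNormalIn F p)
    {W : Subgroup Ω} (hW : F.StronglyClosed W) (hZ : E.IsCentral (T ⊓ W))
    (hsub : C.IsSubsystemOf E) (hC : C.IsSaturated p) (hh : C.hyperfocalSubgroup p = U) :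
    Cen C F W := by
  have hU := (le_of_isSubsystemOf hsub).trans (nrm_le hE)
  exact cen_of_coprime hS hU hC hh hW.1 (hU.trans (sc_le_normalizer hW)) fun P hP α hα hc =>
    cExt_of_central_inf hS hF hE hW hZ (hP.trans (le_of_isSubsystemOf hsub)) (autF_mono hsub hP hα) hc

theorem Cen.central (hS : IsPGroup p S) (hT : T ≤ S) (hE : E.IsSaturated p) {X Z : Subgroup Ω}
    (h : Cen E F X) (h1 : Z ≤ T) (h2 : Z ≤ X) : E.IsCentral Z := by
  have := finite_of_le hT
  refine central_of_fix (hS.to_le hT) hE h1 fun P σ hσ x hx hxZ => ?_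
  obtain ⟨g, -, a2, a3⟩ := h.2 P σ hσ
  rw [← a2 x hx, a3 x (h2 hxZ)]

theorem Cen.foc_le_cs (hS : IsPGroup p S) (hF : F.IsSaturated p) (hE : E.IsNormalIn F p)
    (hU : U ≤ S) (h : Cen C F T) : C.focalSubgroup ≤ CS E F p :=
  (focal_mono (h.sub_sys hU (isCentralizerSystem_csys F T (nrm_le hE)))).trans
    (H14.Fus.foc_le_cs hS hF hE (isCentralizerSystem_csys F T (nrm_le hE)))

theorem exists_csub' (hS : IsPGroup p S) (hF : F.IsSaturated p) (hE : E.IsNormalIn F p) :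
    ∃ D : FusionSystem (CS E F p), D.IsNormalIn F p ∧ Cen D F T := by
  have hC := isCentralizerSystem_csys F T (nrm_le hE)
  obtain ⟨D, h1, h2, -⟩ := exists_csub hS hF hE hC
  exact ⟨D, h1, (cen_of_sub_sys (nrm_le hE) hC (isSubsystemOf_refl _)).of_sub h2.1⟩

theorem Cen.not_le (hS : IsPGroup p S) (hU : U ≤ S) (hC : C.Quasisimple p) {X : Subgroup Ω}
    (h : Cen C F X) : ¬ U ≤ X := fun h1 => by
  have := finite_of_le hU
  exact qs_not_comm (hS.to_le hU) hC (h1.trans (h.1.trans (centralizerIn_le_centralizer _ _)))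

end

/-- a component is a component of a normal subsystem or centralizes it -/
theorem comp_normal (hC : C.Quasisimple p) (h : C.IsSubnormalIn F p) : Finite S → IsPGroup p S →
    ∀ (T : Subgroup Ω) (E : FusionSystem T), E.IsNormalIn F p → C.IsSubnormalIn E p ∨ Cen C F T := by
  refine subnormal_rec (M := fun S F => Finite S → IsPGroup p S → ∀ (T : Subgroup Ω)
    (E : FusionSystem T), E.IsNormalIn F p → C.IsSubnormalIn E p ∨ Cen C F T) h ?_ ?_
  · intro _ hS T E hE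
    rcases qs_inv hS hC (nrm_inv hE) (nrm_sat hE) with h1 | h1
    · exact Or.inr ⟨le_inf (nrm_le hE) (h1.trans C.center_le_centralizer),
        fun P f hf => cExt_of_central (central_iff_le_center.2 h1) hf⟩
    · obtain rfl := eq_of_sub_sub (nrm_sub hE) h1
      obtain rfl := fs_antisymm (nrm_sub hE) h1
      exact Or.inl (IsSubnormalIn.refl _ _)
  · intro V S D F h1 h2 ih _ hS T E hE
    have hF := nrm_sat' hE
    have hV := nrm_le h2
    have := finite_of_le hV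
    have hU := (subnormal_facts (nrm_sat h2) h1).1.trans hV
    have := finite_of_le hU
    replace ih := ih inferInstance (hS.to_le hV)
    obtain ⟨M, ⟨m1, m2, m3⟩, -⟩ := exists_meet hS hF (nrm_inv h2) (nrm_inv hE) (nrm_sat h2)
      (nrm_sat hE) rfl
    rcases ih _ M m2 with a1 | a1
    · exact Or.inl (a1.step m3)
    replace a1 := a1.mono_sys (nrm_sub h2)
    obtain ⟨M', b1, b2⟩ := exists_csub' hS hF m1
    obtain ⟨D', ⟨d1, d2, d3⟩, -⟩ := exists_meet hS hF (nrm_inv h2) (nrm_inv b1) (nrm_sat h2)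
      (nrm_sat b1) rfl
    have a2 : U ≤ V ⊓ CS M F p := le_inf (subnormal_facts (nrm_sat h2) h1).1
      ((qs_foc hC).ge.trans (a1.foc_le_cs hS hF m1 hU))
    rcases ih _ D' d2 with c1 | c1
    · exact Or.inr (cen_of_central_inf hS hF d1 (nrm_inv hE).sc ((b2.of_sub (nrm_sub d3)).central hS
        (nrm_le d1) (nrm_sat d1) inf_le_left (inf_le_inf_right _ inf_le_left))
        (subnormal_facts (nrm_sat d1) c1).2.2 hC.1 hC.2.1)
    · exact ((c1.mono_sys (nrm_sub h2)).not_le hS hU hC a2).elim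

theorem comp_subnormal_aux (hC : C.Quasisimple p) (hE : E.IsSubnormalIn F p) :
    Finite S → IsPGroup p S → F.IsSaturated p → C.IsSubnormalIn F p →
      C.IsSubnormalIn E p ∨ Cen C F T := by
  refine subnormal_rec (M := fun S F => Finite S → IsPGroup p S → F.IsSaturated p →
    C.IsSubnormalIn F p → C.IsSubnormalIn E p ∨ Cen C F T) hE (fun _ _ _ h => Or.inl h) ?_
  · intro V S D F h1 h2 ih _ hS hF h
    have hV := nrm_le h2
    have := finite_of_le hV
    rcases comp_normal hC h inferInstance hS _ D h2 with a1 | a1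
    · exact (ih this (hS.to_le hV) (nrm_sat h2) a1).imp_right fun a2 => a2.mono_sys (nrm_sub h2)
    · exact Or.inr (a1.anti (subnormal_facts (nrm_sat h2) h1).1)

variable [Finite S]

theorem comp_subnormal (hS : IsPGroup p S) (hF : F.IsSaturated p) (hC : C.IsComponentIn F p)
    (hE : E.IsSubnormalIn F p) : C.IsComponentIn E p ∨ Cen C F T :=
  (comp_subnormal_aux hC.2 hE inferInstance hS hF hC.1).imp_left fun h => ⟨h, hC.2⟩

theorem comp_le (hF : F.IsSaturated p) (hC : C.IsComponentIn F p) : U ≤ S :=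
  (subnormal_facts hF hC.1).1

theorem comp_sub (hF : F.IsSaturated p) (hC : C.IsComponentIn F p) : C.IsSubsystemOf F :=
  (subnormal_facts hF hC.1).2.2

theorem comp_of_le (hS : IsPGroup p S) (hF : F.IsSaturated p) (hC : C.IsComponentIn F p)
    (hE : E.IsSubnormalIn F p) (h : U ≤ T) : C.IsComponentIn E p :=
  (comp_subnormal hS hF hC hE).resolve_right fun h1 => h1.not_le hS (comp_le hF hC) hC.2 h

theorem comp_sub_of_le (hS : IsPGroup p S) (hF : F.IsSaturated p) (hC : C.IsComponentIn F p)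
    (hE : E.IsNormalIn F p) (h : U ≤ T) : C.IsSubsystemOf E := by
  have := finite_of_le (nrm_le hE)
  exact comp_sub (F := E) (nrm_sat hE) (comp_of_le hS hF hC (subnormal_of_normal hE) h)

theorem comp_up (hC : C.IsComponentIn E p) (hE : E.IsSubnormalIn F p) : C.IsComponentIn F p :=
  ⟨subnormal_trans hC.1 hE, hC.2⟩

theorem comp_cen_normal (hS : IsPGroup p S) (hF : F.IsSaturated p) (hC : C.IsComponentIn F p)
    {R : Subgroup Ω} (hR : F.IsNormal R) : Cen C F R := by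
  have h1 := inner_normalIn hS hF hR
  have := finite_of_le hR.1
  have := finite_of_le (comp_le hF hC)
  exact (comp_subnormal hS hF hC (subnormal_of_normal h1)).resolve_left fun h =>
    qs_not_sub_inner (hS.to_le (comp_le hF hC)) hC.2 (hS.to_le hR.1) (comp_sub (nrm_sat h1) h)

theorem not_constrained_of_comp (hS : IsPGroup p S) (hF : F.IsSaturated p)
    (hC : C.IsComponentIn F p) : ¬ F.IsConstrained p := fun h => by
  have := finite_of_le (comp_le hF hC)
  exact qs_not_constrained (hS.to_le (comp_le hF hC)) hC.2 (constrained_of_subnormal hS h hC.1)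

theorem exists_layer (hS : IsPGroup p S) (hF : F.IsSaturated p) :
    ∃ (T : Subgroup Ω) (E : FusionSystem T), E.IsLayerOf F p := by
  obtain ⟨T, E, ⟨h1, h2⟩, h3⟩ := exists_min_sys (fun T E => E.IsNormalIn F p ∧
    ∀ (U : Subgroup Ω) (C : FusionSystem U), C.IsComponentIn F p → C.IsSubsystemOf E)
    ⟨normalIn_self hF, fun U C hC => comp_sub hF hC⟩
  refine ⟨T, E, h1, h2, fun R D d1 d2 => ?_⟩
  obtain ⟨M, ⟨m1, m2, m3⟩, -⟩ := exists_meet hS hF (nrm_inv h1) (nrm_inv d1) (nrm_sat h1)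
    (nrm_sat d1) rfl
  have := finite_of_le (nrm_le h1)
  exact isSubsystemOf_trans (sub_of_mu_le (hS.to_le (nrm_le h1)) (nrm_sat h1) (nrm_sub m2)
    (h3 _ M ⟨m1, fun U C hC => comp_sub_of_le hS hF hC m1 (le_inf (le_of_isSubsystemOf (h2 U C hC))
      (le_of_isSubsystemOf (d2 U C hC)))⟩)) (nrm_sub m3)

theorem layer_sub_of_le (hS : IsPGroup p S) (hF : F.IsSaturated p) (hE : E.IsLayerOf F p)
    {R : Subgroup Ω} {D : FusionSystem R} (hD : D.IsNormalIn F p)
    (h : ∀ (U : Subgroup Ω) (C : FusionSystem U), C.IsComponentIn F p → U ≤ R) :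
    E.IsSubsystemOf D := hE.2.2 R D hD fun U C hC => comp_sub_of_le hS hF hC hD (h U C hC)

theorem layer_opp (hS : IsPGroup p S) (hF : F.IsSaturated p) (hE : E.IsLayerOf F p) :
    OPp E p = E := fs_antisymm (opp_sub E p) (layer_sub_of_le hS hF hE
      (opp_normalIn hS hF (nrm_inv hE.1) (nrm_sat hE.1))
      fun U C hC => le_of_isSubsystemOf (hE.2.1 U C hC))

/-- the layer centralizes every normal subsystem centralized by all components -/
theorem layer_cen (hS : IsPGroup p S) (hF : F.IsSaturated p) (hE : E.IsLayerOf F p)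
    {R : Subgroup Ω} {D : FusionSystem R} (hD : D.IsNormalIn F p)
    (h : ∀ (U : Subgroup Ω) (C : FusionSystem U), C.IsComponentIn F p → Cen C F R) : Cen E F R := by
  obtain ⟨M, h1, h2⟩ := exists_csub' hS hF hD
  refine h2.of_sub (layer_sub_of_le hS hF hE h1 fun U C hC => ?_)
  have := finite_of_le (comp_le hF hC)
  exact (qs_foc hC.2).ge.trans ((h U C hC).foc_le_cs hS hF hD (comp_le hF hC))

theorem layer_cen_normal (hS : IsPGroup p S) (hF : F.IsSaturated p) (hE : E.IsLayerOf F p)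
    {R : Subgroup Ω} (hR : F.IsNormal R) : Cen E F R :=
  layer_cen hS hF hE (inner_normalIn hS hF hR) fun U C hC => comp_cen_normal hS hF hC hR

theorem layer_conj (hS : IsPGroup p S) (hF : F.IsSaturated p) (hE : E.IsLayerOf F p)
    {γ : Perm Ω} (hγ : FIso F F γ) {P : Subgroup Ω} {σ : Perm Ω} (hσ : Mor E P σ) :
    Mor E (img γ P) (γ * σ * γ⁻¹ : Perm Ω) := by
  have hT := nrm_le hE.1
  have := finite_of_le hT
  obtain ⟨η, a1, a2, a3, a4, a5⟩ := hγ.exists_inv
  obtain ⟨L, b1⟩ := exists_fIso E (a1.hom.mono hT) (a1.2.mono hT) rfl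
  have b2 := a1.normalIn hS b1.1 hE.1
  have b3 := layer_sub_of_le hS hF hE b2 fun U C hC => by
    have hU := comp_le hF hC
    have := finite_of_le hU
    obtain ⟨C', c1⟩ := exists_fIso C (hγ.hom.mono hU) (hγ.2.mono hU) rfl
    have c2 := le_of_isSubsystemOf (hE.2.1 _ C' (hγ.component hS hF c1.1 hC))
    rw [← a4 U hU]
    exact img_mono η c2
  have c0 : ∀ x ∈ T, γ x ∈ T := fun x hx => by
    obtain ⟨y, hy, rfl⟩ := (a1.hom.mono hT).mem_img.1 (le_of_isSubsystemOf b3 hx)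
    rw [a3 y (hT hy)]; exact hy
  have c1 := (hγ.hom.mono (hσ.le.trans hT)).maps_img
  refine (b1.1.mor_iff b1.2 (img_le_iff.2 fun x hx => c0 x (hσ.le hx))
    (fun y hy => c0 _ (hσ.mem (c1.inv_mem hy))) (f' := σ) fun y hy => ?_).2 ?_
  · obtain ⟨x, hx, rfl⟩ := (hγ.hom.mono (hσ.le.trans hT)).mem_img.1 hy
    rw [a2 x (hT (hσ.le hx)), inv_ap, a2 _ (hT (hσ.mem hx))]
  · rw [a4 P (hσ.le.trans hT)]; exact hσ.of_sub b3

theorem layer_normalIn (hS : IsPGroup p S) (hF : F.IsSaturated p) (hI : Inv E F)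
    (hE : E.IsSaturated p) (hC : C.IsLayerOf E p) : C.IsNormalIn F p := by
  have := finite_of_le hI.le
  exact normalIn_of_opp_eq hS hF (inv_of_char hI (nrm_inv hC.1) fun γ hγ P σ hσ =>
    layer_conj (hS.to_le hI.le) hE hC (hI.fIso hγ) hσ) (nrm_sat hC.1)
    (layer_opp (hS.to_le hI.le) hE hC)

theorem exists_cp_cs (hS : IsPGroup p S) (hF : F.IsSaturated p) (hE : E.IsNormalIn F p) :
    ∃ (M : FusionSystem (CS E F p)) (G : FusionSystem (T ⊔ CS E F p)), M.IsNormalIn F p ∧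
      Cen M F T ∧ CP E M G ∧ G.IsNormalIn F p := by
  obtain ⟨M, h1, h2⟩ := exists_csub' hS hF hE
  have := finite_of_le (nrm_le hE)
  have := finite_of_le (nrm_le h1)
  obtain ⟨G, h3⟩ := CPData.exists_cp (E₁ := E) (E₂ := M) ⟨fun a ha b hb => hb.1.2 a ha,
    (cs_cen hS hF hE).central hS (nrm_le hE) (nrm_sat hE) inf_le_left inf_le_right,
    h2.central hS (nrm_le h1) (nrm_sat h1) inf_le_right inf_le_left⟩ rfl
  exact ⟨M, G, h1, h2, h3, h3.normalIn hS hF hE h1⟩

theorem comp_le_sup_cs (hS : IsPGroup p S) (hF : F.IsSaturated p) (hE : E.IsNormalIn F p)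
    (hC : C.IsComponentIn F p) : U ≤ T ⊔ CS E F p := by
  have := finite_of_le (comp_le hF hC)
  have := finite_of_le (nrm_le hE)
  rcases comp_subnormal hS hF hC (subnormal_of_normal hE) with h | h
  · exact (comp_le (nrm_sat hE) h).trans le_sup_left
  · exact ((qs_foc hC.2).ge.trans (h.foc_le_cs hS hF hE (comp_le hF hC))).trans le_sup_right

omit [Finite S] in
theorem comp_normal_layer_aux (hC : C.Quasisimple p) (h : C.IsSubnormalIn F p) :
    Finite S → IsPGroup p S → ∀ (T : Subgroup Ω) (E : FusionSystem T), E.IsLayerOf F p →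
      C.IsNormalIn E p := by
  refine subnormal_rec (M := fun S F => Finite S → IsPGroup p S → ∀ (T : Subgroup Ω)
    (E : FusionSystem T), E.IsLayerOf F p → C.IsNormalIn E p) h ?_ ?_
  · intro _ hS T E hE
    have h1 := hE.2.1 _ C ⟨IsSubnormalIn.refl _ _, hC⟩
    obtain rfl := eq_of_sub_sub (nrm_sub hE.1) h1
    obtain rfl := fs_antisymm (nrm_sub hE.1) h1
    exact hE.1
  · intro V S D F h1 h2 ih _ hS T E hE
    have hF := nrm_sat' h2
    have hV := nrm_le h2
    have := finite_of_le hV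
    obtain ⟨W, L, hL⟩ := exists_layer (hS.to_le hV) (nrm_sat h2)
    have a1 := ih this (hS.to_le hV) W L hL
    have a2 := layer_normalIn hS hF (nrm_inv h2) (nrm_sat h2) hL
    obtain ⟨M, G, b1, b2, b3, b4⟩ := exists_cp_cs hS hF a2
    have := finite_of_le (nrm_le b4)
    have := finite_of_le (nrm_le hE.1)
    have c0 : C.IsComponentIn F p := ⟨h1.step h2, hC⟩
    have := finite_of_le (comp_le hF c0)
    have c1 := b3.normalIn_of (nrm_sat b4) a1
    have c2 := layer_sub_of_le hS hF hE b4 fun U C hC => comp_le_sup_cs hS hF a2 hC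
    exact normalIn_of_opp_eq (hS.to_le (nrm_le hE.1)) (nrm_sat hE.1) ((nrm_inv c1).of_sub
      (hS.to_le (nrm_le b4)) (nrm_sat hE.1) (hE.2.1 _ C c0) c2) hC.1
      (qs_opp (hS.to_le (comp_le hF c0)) hC)

theorem comp_normal_layer (hS : IsPGroup p S) (hC : C.IsComponentIn F p) (hE : E.IsLayerOf F p) :
    C.IsNormalIn E p := comp_normal_layer_aux hC.2 hC.1 inferInstance hS T E hE

theorem layer_cpData (hS : IsPGroup p S) (hF : F.IsSaturated p) (hE : E.IsLayerOf F p) :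
    CPData (innerFusionSystem F.core) E := by
  have h1 := layer_cen_normal hS hF hE (core_normal F)
  refine ⟨fun a ha b hb => ((h1.1 ha).2 b hb).symm, central_of_cExt inf_le_left fun P f hf => ?_,
    h1.central hS (nrm_le hE.1) (nrm_sat hE.1) inf_le_right inf_le_left⟩
  obtain ⟨a1, g, a2, a3⟩ := mor_inner_iff.1 hf
  exact ⟨cj g, mor_cj _ (sup_le a1 inf_le_left) a2, fun x hx => (a3 x hx).symm,
    fun x hx => by rw [cj_apply, ← (h1.1 a2).2 x hx.2, mul_inv_cancel_right]⟩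

end H14.Fus
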