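import Cfsg.Agent.H14.D4
import Cfsg.Agent.H1.D3a
import Cfsg.Agent.H21.Cr

/-! The second transfer in the `Alt(5) × Alt(5)` configuration. -/

set_option autoImplicit false
open Subgroup Equiv H3S

namespace H14.D3b
open H14.D4

theorem c3 : c5 ^ 3 = 1 := by decide
theorem c1 : c5 ≠ 1 := by decide

theorem gen {X : Type*} [Group X] [Finite X] (f : A5 →* X) (hf : Function.Injective f)
    (h32 : ¬ 32 ∣ Nat.card X) (h16 : 16 ∣ Nat.card X)
    (hc : ∀ g, g * f c5 = f c5 * g → g ∈ zpowers (f c5)) : False := by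
  have : Fact (Nat.Prime 2) := ⟨by norm_num⟩
  have o3 : orderOf (f c5) = 3 := by
    rw [orderOf_injective f hf]
    exact orderOf_eq_prime (hp := ⟨Nat.prime_three⟩) c3 c1
  rcases Cfsg.Agent.S3331.result (zpowers (f c5)) ((Nat.card_zpowers _).trans o3)
    (le_antisymm (fun x hx => hc x (hx _ (mem_zpowers _)).symm) (le_centralizer _)) with
    ⟨N, hN, -, h3, h⟩ | ⟨N, hN, -, h2, ⟨e⟩⟩ | ⟨⟨e⟩⟩
  · have h6 : Nat.card (X ⧸ N) ≤ 6 := by
      rcases h with h | ⟨⟨e⟩⟩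
      · omega
      · rw [Nat.card_congr e.toEquiv, Nat.card_perm, Nat.card_fin]; decide
    have := H21.Cr.triv ((QuotientGroup.mk' N).comp f) (fun hi => by
      have := Nat.card_le_card_of_injective _ hi
      rw [H21.Cr.cardA] at this
      omega) c5
    have := N.orderOf_dvd_natCard ((QuotientGroup.eq_one_iff _).1 this)
    rw [o3] at this
    exact absurd (Nat.eq_one_of_dvd_coprimes h3 this dvd_rfl) (by norm_num)
  · have hcd := N.card_eq_card_quotient_mul_card_subgroup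
    rw [Nat.card_congr e.toEquiv, H21.Cr.cardA] at hcd
    have hp : IsPGroup 2 N := fun n => ⟨1, Subtype.ext (by simpa using h2 n.1 n.2)⟩
    obtain ⟨k, hk⟩ := hp.exists_card_eq
    have k2 : k = 2 := by
      rw [hcd, hk] at h32 h16
      rcases k with _ | _ | _ | k
      · omega
      · omega
      · rfl
      · exact absurd ⟨15 * 2 ^ k, by ring⟩ h32
    subst k2
    have tr := H21.Cr.triv ((MulAut.toPerm N).comp ((MulAut.conjNormal (H := N)).comp f)) (fun hi => by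
      have := Nat.card_le_card_of_injective _ hi
      rw [H21.Cr.cardA, Nat.card_perm, hk] at this
      exact absurd this (by decide)) c5
    have : N = ⊥ := eq_bot_iff.2 fun n hn => by
      have e1 : f c5 * n * (f c5)⁻¹ = n := congrArg (fun q : Perm N => (q ⟨n, hn⟩ : X)) tr
      have e2 := hc n (mul_inv_eq_iff_eq_mul.1 e1).symm
      have e3 : n ^ 3 = 1 := orderOf_dvd_iff_pow_eq_one.1 (o3 ▸ orderOf_dvd_of_mem_zpowers e2)
      rw [pow_succ, h2 n hn, one_mul] at e3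
      exact e3
    rw [this, card_bot] at hk
    omega
  · haveI : Fact (Nat.Prime 7) := ⟨by norm_num⟩
    have := H22.gcd_mul_card_PSL (F := ZMod 7) 2 one_le_two
    rw [H22.card_SL_two, ZMod.card, ← Nat.card_congr e.toEquiv] at this
    norm_num at this
    omega

variable {G : Type*} [Group G] [Finite G] {σ t : G} {θ : A5 × A5 →* G}

omit [Finite G] in
theorem rle (N : Subgroup G) [N.Normal] (h4 : ∀ g, g ^ 4 ∈ N) : θ.range ≤ N := by
  have key : ∀ f : A5 →* G, ∀ a, f a ∈ N := fun f a =>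
    (QuotientGroup.eq_one_iff _).1 (H21.Cr.triv ((QuotientGroup.mk' N).comp f) (fun hi => c1 (hi (by
      rw [map_one]
      refine (QuotientGroup.eq_one_iff _).2 ?_
      have := h4 (f c5)
      rwa [← map_pow, pow_succ, c3, one_mul] at this))) a)
  rintro _ ⟨⟨a, b⟩, rfl⟩
  have : θ (a, b) = θ (a, 1) * θ (1, b) := by rw [← map_mul]; simp
  rw [this]
  exact mul_mem (key (θ.comp (MonoidHom.inl _ _)) a) (key (θ.comp (MonoidHom.inr _ _)) b)

theorem comm3 (n27 : ¬ 27 ∣ Nat.card G) {H : Subgroup G} (Q : Subgroup H) (hQ : IsPGroup 3 Q)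
    {a b : H} (ha : a ∈ Q) (hb : b ∈ Q) : a * b = b * a := by
  have : Fact (Nat.Prime 3) := ⟨by norm_num⟩
  obtain ⟨k, hk⟩ := hQ.exists_card_eq
  have hd := (card_subgroup_dvd_card Q).trans (card_subgroup_dvd_card H)
  have : IsMulCommutative Q := by
    rcases k with _ | _ | _ | k
    · have := (Nat.card_eq_one_iff_unique.1 hk).1
      exact ⟨⟨fun _ _ => Subsingleton.elim _ _⟩⟩
    · have : IsCyclic Q := isCyclic_of_prime_card (p := 3) (by simpa using hk)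
      infer_instance
    · exact IsPGroup.isMulCommutative_of_card_eq_prime_sq hk
    · exact absurd (Dvd.dvd.trans ⟨3 ^ k, by rw [hk]; ring⟩ hd) n27
  exact congrArg Subtype.val (this.1.1 ⟨a, ha⟩ ⟨b, hb⟩)

theorem pg {H : Type*} [Group H] {p : ℕ} {x : H} (hx : x ^ p = 1) : IsPGroup p (zpowers x) := by
  rintro ⟨_, k, rfl⟩
  refine ⟨1, Subtype.ext ?_⟩
  show (x ^ k) ^ p ^ 1 = 1
  rw [pow_one, ← zpow_natCast, ← zpow_mul, mul_comm, zpow_mul, zpow_natCast, hx, one_zpow]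

theorem q5 : ∀ a : Perm (Fin 5), a * c5.1 = c5.1 * a → a ^ 5 = 1 → a = 1 := by decide +kernel

theorem NR (h : H2 θ t σ) {s : G} (sy : s * θ (c5, c5) = θ (c5, c5) * s) :
    ¬ IsConj s (θ (1, e5)) := by
  have : Fact (Nat.Prime 3) := ⟨by norm_num⟩
  intro hc
  obtain ⟨c, hc⟩ := isConj_iff.1 hc
  have y3 : θ (c5, c5) ^ 3 = 1 := by rw [← map_pow, Prod.pow_mk, c3]; exact map_one θ
  have z3 : θ (c5, 1) ^ 3 = 1 := by rw [← map_pow, Prod.pow_mk, c3, one_pow]; exact map_one θ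
  have hy : c * θ (c5, c5) * c⁻¹ ∈ centralizer {θ (1, e5)} := by
    rw [mem_centralizer_singleton_iff, ← hc]
    calc c * θ (c5, c5) * c⁻¹ * (c * s * c⁻¹) = c * (θ (c5, c5) * s) * c⁻¹ := by group
      _ = _ := by rw [← sy]; group
  have hz : θ (c5, 1) ∈ centralizer {θ (1, e5)} := by
    rw [mem_centralizer_singleton_iff, ← map_mul, ← map_mul]; simp
  obtain ⟨Q1, h1⟩ := (pg (p := 3) (x := (⟨_, hz⟩ : centralizer {θ (1, e5)}))
    (Subtype.ext z3)).exists_le_sylow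
  obtain ⟨Q2, h2⟩ := (pg (p := 3) (x := (⟨_, hy⟩ : centralizer {θ (1, e5)}))
    (Subtype.ext (by show (c * θ (c5, c5) * c⁻¹) ^ 3 = 1; rw [conj_pow, y3]; group))).exists_le_sylow
  obtain ⟨k, rfl⟩ := MulAction.exists_smul_eq (centralizer {θ (1, e5)}) Q2 Q1
  have m2 : k * ⟨_, hy⟩ * k⁻¹ ∈ ((k • Q2 : Sylow 3 _) : Subgroup _) :=
    ⟨_, h2 (mem_zpowers _), rfl⟩
  have cm := congrArg Subtype.val (comm3 h.n27 _ (k • Q2).2 m2 (h1 (mem_zpowers _)))
  have cr := mem_centralizer_singleton_iff.1 (k * ⟨_, hy⟩ * k⁻¹).2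
  have ex : ((k * ⟨_, hy⟩ * k⁻¹ : centralizer {θ (1, e5)}) : G) =
      (k * c) * θ (c5, c5) * (k * c)⁻¹ := by
    simp only [coe_mul, coe_inv]; group
  replace cm : ((k * ⟨_, hy⟩ * k⁻¹ : centralizer {θ (1, e5)}) : G) * θ (c5, 1) =
    θ (c5, 1) * ((k * ⟨_, hy⟩ * k⁻¹ : centralizer {θ (1, e5)}) : G) := cm
  rw [ex] at cm cr
  generalize (k : G) * c = x at cm cr
  have w3 : (x * θ (c5, c5) * x⁻¹) ^ 3 = 1 := by rw [conj_pow, y3]; group
  have hin : In θ t σ (x * θ (c5, c5) * x⁻¹) := by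
    obtain ⟨m, e⟩ := h.nz (x * θ (c5, c5) * x⁻¹) (by
      rw [cm, mul_inv_cancel_right]; exact mem_zpowers _)
    exact ⟨m, e.imp_right .inl⟩
  have hR : x * θ (c5, c5) * x⁻¹ ∈ θ.range := by
    have := pow_mem (H1.D3a.sqM h hin) 2
    rwa [← pow_two, ← pow_mul, pow_succ, w3, one_mul] at this
  obtain ⟨⟨a, b⟩, e⟩ := hR
  rw [← e, ← map_mul, ← map_mul] at cr
  rw [← e, ← map_pow, ← map_one θ] at w3
  have b3 : b ^ 3 = 1 := congrArg Prod.snd (h.inj w3)
  have b2 := H21.Cr.sqV (H21.Cr.memV.2 (congrArg Prod.snd (h.inj cr) : b * e5 = e5 * b))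
  rw [pow_succ, pow_two, b2, one_mul] at b3
  subst b3
  have v5 : (x⁻¹ * θ (1, H1.D3a.w5) * x⁻¹⁻¹) ^ 5 = 1 := by
    rw [conj_pow, ← map_pow, Prod.pow_mk, H1.D3a.w5_pow, one_pow, Prod.mk_one_one, map_one]; group
  have vc : θ (1, H1.D3a.w5) * θ (a, 1) = θ (a, 1) * θ (1, H1.D3a.w5) := by
    rw [← map_mul, ← map_mul]; simp
  have vy : x⁻¹ * θ (1, H1.D3a.w5) * x⁻¹⁻¹ * θ (c5, c5) =
      θ (c5, c5) * (x⁻¹ * θ (1, H1.D3a.w5) * x⁻¹⁻¹) := by
    calc x⁻¹ * θ (1, H1.D3a.w5) * x⁻¹⁻¹ * θ (c5, c5)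
        = x⁻¹ * (θ (1, H1.D3a.w5) * (x * θ (c5, c5) * x⁻¹)) * x := by group
      _ = _ := by rw [← e, vc, e]; group
  have v1 : x⁻¹ * θ (1, H1.D3a.w5) * x⁻¹⁻¹ ≠ 1 := fun e => by
    rw [conj_eq_one_iff, ← map_one θ] at e
    exact H1.D3a.w5_ne (congrArg Prod.snd (h.inj e))
  generalize x⁻¹ * θ (1, H1.D3a.w5) * x⁻¹⁻¹ = v at v5 vy v1
  have hR : v ∈ θ.range := by
    have := pow_mem (H1.D3a.sqM h (h.cy v vy)) 3
    rwa [← pow_two, ← pow_mul, pow_succ, v5, one_mul] at this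
  obtain ⟨⟨a', b'⟩, rfl⟩ := hR
  rw [← map_mul, ← map_mul] at vy
  rw [← map_pow, ← map_one θ] at v5
  have e1 := h.inj vy
  have e2 := h.inj v5
  have ha : a' = 1 := Subtype.ext (q5 a'.1 (congrArg (fun m : A5 × A5 => m.1.1) e1)
    (congrArg (fun m : A5 × A5 => m.1.1) e2))
  have hb : b' = 1 := Subtype.ext (q5 b'.1 (congrArg (fun m : A5 × A5 => m.2.1) e1)
    (congrArg (fun m : A5 × A5 => m.2.1) e2))
  exact v1 (by rw [ha, hb]; exact map_one θ)

theorem ND (h : H2 θ t σ) {M : Subgroup G} (hR : θ.range ≤ M) (h64 : ¬ 64 ∣ Nat.card M) {s : G}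
    (sM : s ∈ M) (ss : s * s = 1) (α : MulAut A5) (aa : ∀ a, α (α a) = a) (ac : α c5 = c5)
    (ae : α e5 = e5) (sa : ∀ a b, s * θ (a, b) * s = θ (α b, α a))
    (hin : ∀ g ∈ M, In θ t σ g → ∃ m, g = θ m ∨ g = θ m * s) {g : G} (hg : g ∈ M)
    (e : g * θ (e5, e5) * g⁻¹ = s) : False := by
  have : Fact (Nat.Prime 2) := ⟨by norm_num⟩
  have si : s⁻¹ = s := inv_eq_of_mul_eq_one_right ss
  have sc : ∀ {x}, s * x * s = x → x * s = s * x := fun {x} e => by
    nth_rw 1 [← e]; rw [mul_assoc, ss, mul_one]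
  have sc' : ∀ {x}, x * s = s * x → s * x * s = x := fun {x} e => by
    rw [← e, mul_assoc, ss, mul_one]
  have dU : θ (e5, e5) ∈ U θ := (memU _).2 ⟨_, eV, _, eV, rfl⟩
  have nU : s ∉ U θ := fun hs => by
    have := sc' (Ucomm ((memU _).2 ⟨e5, eV, 1, one_mem _, rfl⟩) hs)
    rw [sa, map_one] at this
    exact e1 (congrArg Prod.fst (h.inj this)).symm
  have s1 : s ≠ 1 := fun e => nU (e ▸ one_mem _)
  have aV : ∀ a ∈ V4, α a ∈ V4 := fun a ha => H21.Cr.memV.2 (by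
    have := congrArg α (H21.Cr.memV.1 ha)
    rwa [map_mul, map_mul, ae] at this)
  have h32 : 32 ∣ Nat.card ↥(M ⊓ centralizer {θ (e5, e5)}) := by
    by_contra h32
    have hU : U θ ≤ M ⊓ centralizer {θ (e5, e5)} := fun u hu =>
      ⟨hR (U_le hu), mem_centralizer_singleton_iff.2 (Ucomm hu dU)⟩
    obtain ⟨P, hP⟩ := syl ((U θ).subgroupOf (M ⊓ centralizer {θ (e5, e5)}))
      (by rw [Nat.card_congr (subgroupOfEquivOfLe hU).toEquiv, cardU h.inj]) h32
    have hs : s ∈ M ⊓ centralizer {θ (e5, e5)} :=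
      ⟨sM, mem_centralizer_singleton_iff.2 (sc (by rw [sa, ae])).symm⟩
    have hn : s ∈ normalizer (U θ : Set G) := by
      have k : ∀ u ∈ U θ, s * u * s⁻¹ ∈ U θ := fun u hu => by
        obtain ⟨a, ha, b, hb, rfl⟩ := (memU u).1 hu
        rw [si, sa]
        exact (memU _).2 ⟨_, aV b hb, _, aV a ha, rfl⟩
      refine mem_normalizer_iff.2 fun u => ⟨k u, fun hu => ?_⟩
      have := k _ hu
      rwa [si, ← mul_assoc, ← mul_assoc, ss, one_mul, mul_assoc, ss, mul_one] at this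
    have hn2 : zpowers (⟨s, hs⟩ : ↥(M ⊓ centralizer {θ (e5, e5)})) ≤
        normalizer ((P : Subgroup ↥(M ⊓ centralizer {θ (e5, e5)})) :
          Set ↥(M ⊓ centralizer {θ (e5, e5)})) := by
      rw [zpowers_le, hP, ← subgroupOf_normalizer_eq hU]
      exact hn
    have hp := (pg (p := 2) (x := (⟨s, hs⟩ : ↥(M ⊓ centralizer {θ (e5, e5)})))
      (Subtype.ext ((pow_two s).trans ss))).to_sup_of_normal_right' P.2 hn2
    have := P.3 hp le_sup_right
    have h3 : (⟨s, hs⟩ : ↥(M ⊓ centralizer {θ (e5, e5)})) ∈ (U θ).subgroupOf _ := by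
      rw [← hP]
      exact this ▸ (le_sup_left : zpowers _ ≤ _) (mem_zpowers _)
    exact nU h3
  set X : Subgroup G := M ⊓ centralizer {s} with hX
  have h32' : 32 ∣ Nat.card X := by
    refine h32.trans ?_
    rw [← card_map_of_injective (f := (MulAut.conj g).toMonoidHom) (MulAut.conj g).injective]
    refine card_dvd_of_le ?_
    rintro _ ⟨x, ⟨x1, x2⟩, rfl⟩
    refine ⟨M.mul_mem (M.mul_mem hg x1) (M.inv_mem hg), mem_centralizer_singleton_iff.2 ?_⟩
    have := mem_centralizer_singleton_iff.1 x2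
    show g * x * g⁻¹ * s = s * (g * x * g⁻¹)
    rw [← e]
    calc g * x * g⁻¹ * (g * θ (e5, e5) * g⁻¹) = g * (x * θ (e5, e5)) * g⁻¹ := by group
      _ = _ := by rw [this]; group
  have hs : s ∈ X := ⟨sM, mem_centralizer_singleton_iff.2 rfl⟩
  have zc : ∀ x ∈ zpowers (⟨s, hs⟩ : X), x = 1 ∨ x = ⟨s, hs⟩ := by
    rintro _ ⟨k, rfl⟩
    have s2 : (⟨s, hs⟩ : X) ^ (2 : ℤ) = 1 := Subtype.ext ((zpow_two s).trans ss)
    rcases Int.even_or_odd' k with ⟨j, rfl | rfl⟩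
    · left; show _ ^ _ = _; rw [zpow_mul, s2, one_zpow]
    · right; show _ ^ _ = _; rw [zpow_add_one, zpow_mul, s2, one_zpow, one_mul]
  have hN : (zpowers (⟨s, hs⟩ : X)).Normal := ⟨fun n hn x => by
    rcases zc n hn with rfl | rfl
    · simp
    · have : x * ⟨s, hs⟩ = ⟨s, hs⟩ * x := Subtype.ext (mem_centralizer_singleton_iff.1 x.2.2)
      rw [this, mul_inv_cancel_right]; exact mem_zpowers _⟩
  have hc2 : Nat.card (zpowers (⟨s, hs⟩ : X)) = 2 := by
    rw [Nat.card_zpowers]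
    exact orderOf_eq_prime (Subtype.ext ((pow_two s).trans ss))
      (fun e => s1 (congrArg Subtype.val e))
  have hq := (zpowers (⟨s, hs⟩ : X)).card_eq_card_quotient_mul_card_subgroup
  rw [hc2] at hq
  have h64' : ¬ 64 ∣ Nat.card X := fun e => h64 (e.trans (card_dvd_of_le inf_le_left))
  let f0 : A5 →* X := (θ.comp ((MonoidHom.id A5).prod α.toMonoidHom)).codRestrict X fun a =>
    ⟨hR ⟨_, rfl⟩, mem_centralizer_singleton_iff.2 (sc (by
      show s * θ (a, α a) * s = θ (a, α a)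
      rw [sa, aa]))⟩
  have fy : (f0 c5 : G) = θ (c5, c5) := by
    show θ (c5, α c5) = _
    rw [ac]
  have f3 : f0 c5 ^ 3 = 1 := by rw [← map_pow, c3, map_one]
  have y1 : f0 c5 ≠ 1 := fun e => by
    have := congrArg Subtype.val e
    rw [fy, OneMemClass.coe_one, ← map_one θ] at this
    exact c1 (congrArg Prod.fst (h.inj this))
  have s3 : (⟨s, hs⟩ : X) ^ 3 = ⟨s, hs⟩ := Subtype.ext (by
    show s ^ 3 = s
    rw [pow_succ, pow_two, ss, one_mul])
  have s1' : (⟨s, hs⟩ : X) ≠ 1 := fun e => s1 (congrArg Subtype.val e)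
  refine gen ((QuotientGroup.mk' (zpowers (⟨s, hs⟩ : X))).comp f0) ?_ (by omega) (by omega) ?_
  · by_contra hi
    rcases zc _ ((QuotientGroup.eq_one_iff _).1 (H21.Cr.triv _ hi c5)) with e | e
    · exact y1 e
    · exact s1' (by rw [← s3, ← e, f3])
  · intro x hx
    obtain ⟨x, rfl⟩ := QuotientGroup.mk'_surjective _ x
    rw [MonoidHom.comp_apply, ← map_mul, ← map_mul, QuotientGroup.mk'_apply,
      QuotientGroup.mk'_apply, QuotientGroup.eq] at hx
    have cs : ∀ x : X, x * ⟨s, hs⟩ = ⟨s, hs⟩ * x := fun x =>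
      Subtype.ext (mem_centralizer_singleton_iff.1 x.2.2)
    have hxy : x * f0 c5 = f0 c5 * x := by
      rcases zc _ hx with e | e
      · exact inv_mul_eq_one.1 e
      · exfalso
        have e2 : x⁻¹ * f0 c5 * x⁻¹⁻¹ = f0 c5 * ⟨s, hs⟩ := by rw [← e]; group
        have e3 : (x⁻¹ * f0 c5 * x⁻¹⁻¹) ^ 3 = (f0 c5 * ⟨s, hs⟩) ^ 3 := by rw [e2]
        rw [conj_pow, (show Commute (f0 c5) ⟨s, hs⟩ from cs _).mul_pow, f3, s3] at e3
        exact s1' (by rw [one_mul] at e3; rw [← e3]; group)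
    have key : ∀ w : X, (w : G) ∈ θ.range → w * f0 c5 = f0 c5 * w → w ∈ zpowers (f0 c5) := by
      rintro ⟨_, hw⟩ ⟨⟨a, b⟩, rfl⟩ e
      have e1 : θ (a, b) * f0 c5 = f0 c5 * θ (a, b) := congrArg Subtype.val e
      rw [fy, ← map_mul, ← map_mul] at e1
      have e2 := sc' (mem_centralizer_singleton_iff.1 hw.2)
      rw [sa] at e2
      obtain rfl : α a = b := congrArg Prod.snd (h.inj e2)
      have e3 : (⟨θ (a, α a), hw⟩ : X) = f0 a := rfl
      rw [e3, ← MonoidHom.map_zpowers]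
      refine mem_map_of_mem _ ?_
      rcases H21.Cr.F2 a.1 a.2 (congrArg (fun m : A5 × A5 => m.1.1) (h.inj e1)) with e | e | e
      · rw [show a = 1 from Subtype.ext e]; exact one_mem _
      · rw [show a = c5 from Subtype.ext e]; exact mem_zpowers _
      · rw [show a = c5⁻¹ from Subtype.ext e]; exact inv_mem (mem_zpowers _)
    rw [MonoidHom.comp_apply, ← MonoidHom.map_zpowers]
    have hx2 : (x : G) * θ (c5, c5) = θ (c5, c5) * x := by
      rw [← fy]; exact congrArg Subtype.val hxy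
    obtain ⟨m, e | e⟩ := hin x x.2.1 (h.cy x hx2)
    · exact mem_map_of_mem _ (key x ⟨m, e.symm⟩ hxy)
    · refine ⟨x * ⟨s, hs⟩, key _ ⟨m, ?_⟩ ?_, ?_⟩
      · show θ m = x * s
        rw [e, mul_assoc, ss, mul_one]
      · rw [mul_assoc, ← cs, ← mul_assoc, hxy, mul_assoc]
      · have : QuotientGroup.mk' (zpowers (⟨s, hs⟩ : X)) (⟨s, hs⟩ : X) = 1 :=
          (QuotientGroup.eq_one_iff _).2 (mem_zpowers _)
        rw [map_mul, this, mul_one]

theorem main (h : H2 θ t σ) (h2 : ¬ 128 ∣ Nat.card G) (M : Subgroup G) (hi : M.index = 2)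
    (hR : θ.range ≤ M) {s : G}
    (sM : s ∈ M) (ss : s * s = 1) (α : MulAut A5) (aa : ∀ a, α (α a) = a) (ac : α c5 = c5)
    (ae : α e5 = e5) (sa : ∀ a b, s * θ (a, b) * s = θ (α b, α a))
    (hin : ∀ g ∈ M, In θ t σ g → ∃ m, g = θ m ∨ g = θ m * s) :
    ∃ (N : Subgroup G) (_ : N.Normal), θ.range ≤ N ∧ IsPGroup 2 (G ⧸ N) ∧ ¬ 32 ∣ Nat.card N := by
  have hc := M.card_mul_index
  rw [hi] at hc
  have h64 : ¬ 64 ∣ Nat.card M := by omega
  have hU : U θ ≤ M := U_le.trans hR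
  have si : σ⁻¹ = σ := inv_eq_of_mul_eq_one_right h.ss
  have sy : s * θ (c5, c5) = θ (c5, c5) * s := by
    have := sa c5 c5
    rw [ac] at this
    nth_rw 2 [← this]
    rw [mul_assoc, ss, mul_one]
  obtain ⟨M2, i2, -⟩ := H1.D3a.sgn (t := (⟨s, sM⟩ : M)) ((U θ).subgroupOf M) (Subtype.ext ss) (by
    have := ((U θ).subgroupOf M).card_mul_index
    rw [Nat.card_congr (subgroupOfEquivOfLe hU).toEquiv, cardU h.inj] at this
    omega) (by
    intro g hg
    obtain ⟨a, ha, b, hb, e⟩ := (memU _).1 (show (g : G)⁻¹ * s * g ∈ U θ from hg)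
    have cj : IsConj s (θ (a, b)) := isConj_iff.2 ⟨(g : G)⁻¹, by rw [inv_inv, e]⟩
    have r1 : ∀ c : A5, IsConj (θ (1, c * e5 * c⁻¹)) (θ (1, e5)) := fun c =>
      isConj_iff.2 ⟨θ (1, c⁻¹), by
        rw [← map_inv, ← map_mul, ← map_mul]; congr 1; ext1 <;> simp [mul_assoc]⟩
    rcases a1 a (H21.Cr.sqV ha) with rfl | ⟨c, rfl⟩ <;>
      rcases a1 b (H21.Cr.sqV hb) with rfl | ⟨c', rfl⟩
    · rw [Prod.mk_one_one, map_one, isConj_one_left] at cj
      have := sa c5 1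
      rw [cj, one_mul, mul_one, map_one] at this
      exact c1 (congrArg Prod.fst (h.inj this))
    · exact NR h sy (cj.trans (r1 c'))
    · exact NR h sy ((cj.trans (isConj_iff.2 ⟨σ, by rw [si, h.sa]⟩)).trans (r1 c))
    · refine ND h hR h64 sM ss α aa ac ae sa hin (g := g * θ (c, c')) (mul_mem g.2 (hR ⟨_, rfl⟩)) ?_
      have : θ (c * e5 * c⁻¹, c' * e5 * c'⁻¹) = θ (c, c') * θ (e5, e5) * (θ (c, c'))⁻¹ := by
        rw [← map_inv, ← map_mul, ← map_mul]; rfl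
      calc (g : G) * θ (c, c') * θ (e5, e5) * ((g : G) * θ (c, c'))⁻¹
          = g * (θ (c, c') * θ (e5, e5) * (θ (c, c'))⁻¹) * (g : G)⁻¹ := by group
        _ = s := by rw [← this, ← e]; group)
  have h4 : ∀ g : G, g ^ 4 ∈ (M2.map M.subtype).normalCore := fun g b => by
    rw [← conj_pow]
    exact ⟨_, sq_mem_of_index_two i2 ⟨_, sq_mem_of_index_two hi (b * g * b⁻¹)⟩, by
      show ((b * g * b⁻¹) ^ 2) ^ 2 = _
      rw [← pow_mul]⟩
  refine ⟨(M2.map M.subtype).normalCore, inferInstance, rle _ h4, fun q => ?_, fun e => ?_⟩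
  · obtain ⟨g, rfl⟩ := QuotientGroup.mk_surjective q
    exact ⟨2, (QuotientGroup.eq_one_iff (g ^ 4)).2 (h4 g)⟩
  · have := e.trans (card_dvd_of_le (normalCore_le _))
    rw [card_subtype] at this
    have hc2 := M2.card_mul_index
    rw [i2] at hc2
    omega

theorem d3b (h : H2 θ t σ) (h2 : ¬ 128 ∣ Nat.card G) (M : Subgroup G) (hi : M.index = 2) (ht : t ∉ M) : ∃ (N : Subgroup G) (_ : N.Normal), θ.range ≤ N ∧ IsPGroup 2 (G ⧸ N) ∧ ¬ 32 ∣ Nat.card N := by
  have : M.Normal := normal_of_index_eq_two hi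
  have hR : θ.range ≤ M := rle M fun g => by
    rw [show 4 = 2 * 2 from rfl, pow_mul]; exact sq_mem_of_index_two hi _
  have mM : ∀ m, θ m ∈ M := fun m => hR ⟨m, rfl⟩
  by_cases hs : σ ∈ M
  · refine main h h2 M hi hR hs h.ss 1 (fun _ => rfl) rfl rfl h.sa ?_
    rintro g hg ⟨m, e | e | e | e⟩
    · exact ⟨m, .inl e⟩
    · exact absurd ((mul_mem_cancel_left (mM m)).1 (e ▸ hg)) ht
    · exact ⟨m, .inr e⟩
    · exact absurd ((mul_mem_cancel_left (mM m)).1 ((mul_mem_cancel_right hs).1 (e ▸ hg))) ht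
  · refine main h h2 M hi hR (s := t * σ) ((mul_mem_iff_of_index_two hi).2 (by simp [ht, hs])) ?_ τ
      ?_ (by decide) (by decide) ?_ ?_
    · rw [mul_assoc, ← mul_assoc σ, ← h.ts, mul_assoc, h.ss, mul_one, h.tt]
    · intro a
      ext1
      show swap 3 4 * (swap 3 4 * a.1 * (swap 3 4)⁻¹) * (swap 3 4)⁻¹ = a.1
      simp [mul_assoc]
    · intro a b
      nth_rw 2 [h.ts]
      rw [← h.ta, ← h.sa a b]; group
    · rintro g hg ⟨m, e | e | e | e⟩
      · exact ⟨m, .inl e⟩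
      · exact absurd ((mul_mem_cancel_left (mM m)).1 (e ▸ hg)) ht
      · exact absurd ((mul_mem_cancel_left (mM m)).1 (e ▸ hg)) hs
      · exact ⟨m, .inr (by rw [e, mul_assoc])⟩

end H14.D3b
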