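/-
Normal subsystems of constrained fusion systems come from normal subgroups of the model.
-/
import Cfsg.Agent.H14.Comp
import Cfsg.Agent.H14.CharP

set_option autoImplicit false
set_option linter.unusedVariables false
set_option linter.unusedSectionVars false
set_option linter.style.haveILetI false
open Cfsg Cfsg.FusionSystem Equiv H13

namespace H14.Fus

variable {Ω : Type*} [Group Ω] {p : ℕ} [Fact p.Prime]

section
variable {S T : Subgroup Ω} [Finite S] {F : FusionSystem S} {E : FusionSystem T}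

theorem sub_of_normal_rs (hS : IsPGroup p S) (hF : F.IsSaturated p) (hE : E.IsSaturated p) (hsub : E.IsSubsystemOf F)
    {E' : FusionSystem T} (hI : Inv E' F) (hE' : E'.IsSaturated p) {U : Subgroup Ω} (hU : F.IsNormal U)
    (hc : TC F T U) (h : ∀ α ∈ AutF E U, (orderOf α).Coprime p → α ∈ AutF E' U) : E.IsSubsystemOf E' := by
  haveI := finite_of_le hI.le
  have hT := isPGroup_of_le hS hI.le
  have hUE : E.IsNormal U := by
    have := normal_inf_sub hS hF hI.le hE hsub hU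
    rwa [inf_eq_left.2 hc.le] at this
  refine sub_of_coprime hT hE le_rfl fun V h1 h2 h3 α hα hco => ?_
  have hUV := le_of_normal_of_cr hT hUE h1 h2
  have hi := iso_of_mem_autF h1.1 hα
  have hm : Maps U U α := sc_maps (sc_of_normal hUE) hi.mor hUV
  exact (iso_of_mem_autF h1.1 (hI.mem_autF_of_rs hS hF hE' hI.sc le_rfl hc
    (fn_of_normal F hU.1 (normal_le_normalizer hU)) hUV
    (le_inf h1.1 ((h1.1.trans hI.le).trans (normal_le_normalizer hU))) (autF_mono hsub h1.1 hα) hco hm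
    (h _ (rs_mem_autF hUV h1.1 hα hm) (orderOf_rs_coprime hm hco)))).mor

theorem exists_lift_normal (hS : IsPGroup p S) (hF : F.IsSaturated p) (hE : E.IsNormalIn F p) {Q : Subgroup Ω}
    (hQ : F.IsNormal Q) (hc : F.IsCentric Q) (hr : F.IsRadical p Q) {α : Perm Ω} (hα : α ∈ AutF E (Q ⊓ T))
    (hco : (orderOf α).Coprime p) : ∃ γ ∈ LG E F (Q ⊓ T) Q, (orderOf γ).Coprime p ∧ ∀ x ∈ Q ⊓ T, γ x = α x := by
  have hI := nrm_inv hE
  have hU := tc_of_cr hS hF hI.sc hc hr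
  have hUS : Q ⊓ T ≤ S := inf_le_left.trans hQ.1
  have hN : S ≤ Subgroup.normalizer ((Q ⊓ T : Subgroup Ω) : Set Ω) := fun g hg =>
    normalizer_inf (normal_le_normalizer hQ hg) (sc_le_normalizer hI.sc hg)
  have hα' := hI.autF_le inf_le_right hα
  obtain ⟨τ, h1, h2, h3, h4⟩ := normal_extend_iso hQ (iso_of_mem_autF hUS hα')
  obtain ⟨γ, a1, a2, a3, a4⟩ := xg_extend hS hF hUS (autF_le_xg hS hF hE _ hU hα) hco (le_inf hQ.1 (hQ.1.trans hN))
    fun c hc' => by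
      have e : α * cr (Q ⊓ T) c * α⁻¹ * (cr (Q ⊓ T) c)⁻¹ = cr (Q ⊓ T) (τ c * c⁻¹) := by
        rw [← conj_congr h4 (maps_cr (hN (hQ.1 hc'))) (fun x hx => cr_apply_of_not_mem _ hx) h2,
          h1.hom.conj_cr le_sup_left h4 (le_sup_right (a := Q ⊓ T) hc') (hN (hQ.1 hc')),
          (homOn_cr _).map_mul (hN (hQ.1 (h3.mem hc'))) (Subgroup.inv_mem _ (hN (hQ.1 hc'))),
          (homOn_cr _).map_inv (hN (hQ.1 hc'))]
      have hq : τ c * c⁻¹ ∈ Q := Q.mul_mem (h3.mem hc') (Q.inv_mem hc')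
      have b1 : cr (Q ⊓ T) (τ c * c⁻¹) ∈ AutF E (Q ⊓ T) := by
        rw [← e, mul_assoc, mul_assoc, ← mul_assoc (cr _ c)]
        exact Subgroup.mul_mem _ hα (conj_mem_of_normalizer (hI.autF_normal inf_le_right
          (cr_mem_autF F hUS (hQ.1 hc') (hN (hQ.1 hc')))) (Subgroup.inv_mem _ hα))
      obtain ⟨t, ht, htN, et⟩ := mem_autBy.1 (hI.autBy_inf hS hF (nrm_sat hE) inf_le_right (fn_of_normal F hUS hN)
        ⟨cr_mem_autBy (hQ.1 hq) (hN (hQ.1 hq)), b1⟩)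
      rw [e, ← et]
      exact cr_mem_autBy ⟨mem_of_cr_eq hS hI.sc hc hr ⟨ht, normal_le_normalizer hQ (hI.le ht)⟩ hq
        ((cr_eq_iff htN (hN (hQ.1 hq))).1 et), ht⟩ htN
  rw [sup_eq_right.2 inf_le_left] at a1 a4
  have hm : Maps (Q ⊓ T) (Q ⊓ T) γ := (maps_of_mem_autF hα).congr fun x hx => (a3 x hx).symm
  exact ⟨γ, mem_lg.2 ⟨a1, a4, hm, by rwa [rs_eq_of_mem_autF hα a3]⟩, a2, a3⟩

end

/-- normal subsystems of the fusion system of a group of characteristic `p` correspond to normal subgroups -/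
theorem exists_normal_model {G S T : Subgroup Ω} [Finite G] (hS : SylIn p S G) (hG : ChP p G) {E : FusionSystem T}
    (hE : E.IsNormalIn (fusionSystemOfSubgroup G S hS.le) p) : ∃ H, H ≤ G ∧ G ≤ Subgroup.normalizer (H : Set Ω) ∧
      ∃ hT : SylIn p T H, E = fusionSystemOfSubgroup H T hT.le ∧ ∀ H', H' ≤ G → G ≤ Subgroup.normalizer (H' : Set Ω) →
        ∀ hT' : SylIn p T H', E = fusionSystemOfSubgroup H' T hT'.le → H' = H := by
  haveI := finite_of_le hS.le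
  set F := fusionSystemOfSubgroup G S hS.le
  have hp := hS.isPGroup
  have hF : F.IsSaturated p := saturated_ofSubgroup hS
  have hI := nrm_inv hE
  haveI := finite_of_le hI.le
  have hco := constrained_ofSubgroup hS hG
  have hc := core_centric hco
  have hr := core_radical hp hco
  rw [core_ofSubgroup hS hG] at hc hr
  set Q := Op p G
  have hQ : F.IsNormal Q := op_normal_ofSubgroup hS
  haveI := finite_of_le hQ.1
  have hGQ : G ≤ Subgroup.normalizer (Q : Set Ω) := le_normalizer_op p G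
  have sc : ∀ t ∈ T, ∀ g ∈ G, g * t * g⁻¹ ∈ S → g * t * g⁻¹ ∈ T := fun t ht g hg h =>
    sc_mem hI.sc (P := Subgroup.zpowers t) (f := cj g) (mor_ofSubgroup_iff.2 ⟨Subgroup.zpowers_le.2 (hI.le ht),
      img_le_iff.1 (by rw [homOn_img_zpowers (homOn_cj ⊤ g) trivial]; exact Subgroup.zpowers_le.2 h), g, hg,
      fun _ _ => rfl⟩) (Subgroup.mem_zpowers t) ht
  set U := Q ⊓ T
  have hGU : G ≤ Subgroup.normalizer (U : Set Ω) := le_normalizer_iff.2 fun g hg x hx =>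
    ⟨conj_mem_of_normalizer (hGQ hg) hx.1, sc x hx.2 g hg (hQ.1 (conj_mem_of_normalizer (hGQ hg) hx.1))⟩
  have hUS : U ≤ S := inf_le_left.trans hQ.1
  have hU : F.IsNormal U := normal_ofSubgroup hUS hGU
  have hTC : TC F T U := tc_of_cr hp hF hI.sc hc hr
  have hh : HomOn G (cr Q) := (homOn_cr Q).mono hGQ
  have hcr : ∀ g ∈ G, cr Q g ∈ AutF F Q := fun g hg => by rw [autF_ofSubgroup hQ.1]; exact cr_mem_autBy hg (hGQ hg)
  have hrs : ∀ g ∈ G, rs U (cr Q g) = cr U g := fun g hg => rs_cr inf_le_left (hGU hg) (hGQ hg)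
  have hmp : ∀ g ∈ G, Maps U U (cr Q g) := fun g hg =>
    (maps_cr (hGU hg)).congr fun x hx => by rw [cr_apply (hGU hg) hx, cr_apply (hGQ hg) hx.1]
  set B := pre G (cr Q) (LG E F U Q)
  have hB : ∀ g, g ∈ B ↔ g ∈ G ∧ (∀ x ∈ Q, x⁻¹ * (g * x * g⁻¹) ∈ U) ∧ cr U g ∈ AutF E U := fun g => by
    rw [hh.mem_pre, and_congr_right_iff]
    intro hg
    rw [mem_lg, hrs g hg]
    exact ⟨fun h => ⟨fun x hx => cr_apply (hGQ hg) hx ▸ h.2.1 x hx, h.2.2.2⟩,
      fun h => ⟨hcr g hg, fun x hx => (cr_apply (hGQ hg) hx).symm ▸ h.1 x hx, hmp g hg, h.2⟩⟩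
  have hBG : B ≤ G := pre_le _ _ _
  haveI := finite_of_le hBG
  have hGB : G ≤ Subgroup.normalizer (B : Set Ω) := le_normalizer_iff.2 fun g hg x hx => by
    have hx' := hh.mem_pre.1 hx
    refine hh.mem_pre.2 ⟨G.mul_mem (G.mul_mem hg hx'.1) (G.inv_mem hg), ?_⟩
    rw [hh.map_conj hg hx'.1]
    exact conj_mem_of_normalizer (lg_normal hI inf_le_right inf_le_left hQ.1 ⟨hcr g hg, hmp g hg⟩) hx'.2
  have hTB : T ≤ B := fun t ht => (hB t).2 ⟨hS.le (hI.le ht), fun x hx =>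
    ⟨Q.mul_mem (Q.inv_mem hx) (conj_mem_of_normalizer (hGQ (hS.le (hI.le ht))) hx), by
      have := T.mul_mem (conj_mem_of_normalizer' (sc_le_normalizer hI.sc (hQ.1 hx)) ht) (T.inv_mem ht)
      show x⁻¹ * (t * x * t⁻¹) ∈ T
      convert this using 1; group⟩, cr_mem_autF E inf_le_right ht (hGU (hS.le (hI.le ht)))⟩
  have hCB : centralizerIn B U ≤ Q := le_op ((centralizerIn_le _ _).trans hBG) (isPGroup_iff_mem.2 fun g hg => by
      obtain ⟨k, hk⟩ := pow_eq_one_of_triv hp hQ.1 inf_le_left (hcr g (hBG hg.1))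
        (fun x hx => by rw [cr_apply (hGQ (hBG hg.1)) hx.1, ← hg.2 x hx, mul_inv_cancel_right])
        (mem_lg.1 (hh.mem_pre.1 hg.1).2).2.1
      rw [← hh.map_pow (hBG hg.1), cr_eq_one_iff (hGQ (G.pow_mem (hBG hg.1) _))] at hk
      obtain ⟨l, hl⟩ := isPGroup_iff_mem.1 hp _ (hQ.1 (hG ⟨G.pow_mem (hBG hg.1) _, hk⟩))
      exact ⟨k + l, by rw [pow_add, pow_mul, hl]⟩)
    fun g hg => normalizer_centralizerIn (hGB hg) (hGU hg)
  have hSB := hS.inf_normal hBG hGB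
  have hK : S ⊓ OUp p B ≤ T := by
    refine le_trans (le_inf (inf_le_inf_left _ (oUp_le p B)) inf_le_right) (hSB.inf_oUp_le fun V hV g hg _ x hx => ?_)
    obtain ⟨hxS, hxB⟩ := hV hx
    obtain ⟨t, ht, h1⟩ := exists_of_cr_mem hI.le ⟨hxS, hGU (hS.le hxS)⟩ (hI.autBy_inf hp hF (nrm_sat hE) inf_le_right
      (fn_of_normal F hUS (hS.le.trans hGU)) ⟨cr_mem_autBy hxS (hGU (hS.le hxS)), ((hB x).1 hxB).2.2⟩)
    have h2 : t⁻¹ * x ∈ Q := hCB ⟨B.mul_mem (B.inv_mem (hTB ht.1)) hxB, h1.2⟩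
    have h3 := (((hB g).1 hg.1).2.1 _ h2).2
    have h4 : g * t * g⁻¹ ∈ T := sc t ht.1 g (hBG hg.1) (by
      have := S.mul_mem (hV (conj_mem_of_normalizer hg.2 hx)).1
        (S.inv_mem (hQ.1 (conj_mem_of_normalizer (hGQ (hBG hg.1)) h2)))
      convert this using 1; group)
    have := T.mul_mem (conj_mem_of_normalizer' (sc_le_normalizer hI.sc (hQ.1 h2)) (T.mul_mem (T.inv_mem ht.1) h4)) h3
    convert this using 1; group
  have hGK : G ≤ Subgroup.normalizer ((OUp p B : Subgroup Ω) : Set Ω) := hGB.trans (normalizer_le_normalizer_oUp p B)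
  have hHB : T ⊔ OUp p B ≤ B := sup_le hTB (oUp_le p B)
  have hmem : ∀ x, x ∈ T ⊔ OUp p B ↔ ∃ a ∈ T, ∃ b ∈ OUp p B, a * b = x := fun x =>
    mem_sup_of_normalizes ((hI.le.trans hS.le).trans hGK)
  have hGH : G ≤ Subgroup.normalizer ((T ⊔ OUp p B : Subgroup Ω) : Set Ω) := le_normalizer_iff.2 fun g hg x hx => by
    obtain ⟨a, ha, b, hb, rfl⟩ := (hmem x).1 hx
    have h1 := conj_mem_of_normalizer (hGB hg) (hTB ha)
    obtain ⟨k, hk⟩ := isPGroup_iff_mem.1 hp a (hI.le ha)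
    obtain ⟨n, hn, h2⟩ := hSB.exists_conj_mem h1 (k := k) (by rw [conj_pow, hk]; simp)
    obtain ⟨r, hr, m, hm, rfl⟩ := hSB.exists_mul_oUp hn
    have h3 : m * g * a * (m * g)⁻¹ ∈ T := sc a ha _ (G.mul_mem (hBG (oUp_le p B hm)) hg) (by
      have := conj_mem_of_normalizer' (S.le_normalizer hr.1) h2.1
      convert this using 1; group)
    have := Subgroup.mul_mem _ (conj_mem_of_normalizer' (Subgroup.le_normalizer (Subgroup.mem_sup_right hm))
      (Subgroup.mem_sup_left (T := OUp p B) h3)) (Subgroup.mem_sup_right (conj_mem_of_normalizer (hGK hg) hb))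
    convert this using 1; group
  have hTe : T = S ⊓ (T ⊔ OUp p B) := le_antisymm (le_inf hI.le le_sup_left) fun x hx => by
    obtain ⟨a, ha, b, hb, rfl⟩ := (hmem x).1 hx.2
    exact T.mul_mem ha (hK ⟨(S.mul_mem_cancel_left (hI.le ha)).1 hx.1, hb⟩)
  have hT : SylIn p T (T ⊔ OUp p B) := by
    have := hS.inf_normal (hHB.trans hBG) hGH
    rwa [← hTe] at this
  have hE' := normalIn_ofSubgroup' hS (hHB.trans hBG) hGH hTe
  refine ⟨T ⊔ OUp p B, hHB.trans hBG, hGH, hT, fs_antisymm ?_ ?_, fun H' h1 h2 hT' e => le_antisymm ?_ ?_⟩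
  · refine sub_of_normal_rs hp hF (nrm_sat hE) hI.sub (nrm_inv hE') (nrm_sat hE') hU hTC fun α hα hco => ?_
    obtain ⟨γ, a1, a2, a3⟩ := exists_lift_normal hp hF hE hQ hc hr hα hco
    have a4 : γ ∈ OUp p (AutBy B Q) := by
      have := a1.1
      rw [autF_ofSubgroup hQ.1] at this
      obtain ⟨g, hg, hgN, rfl⟩ := mem_autBy.1 this
      exact mem_oUp_of_coprime (cr_mem_autBy (hh.mem_pre.2 ⟨hg, a1⟩) hgN) a2
    rw [oUp_autBy] at a4
    obtain ⟨g, hg, rfl⟩ := ((homOn_cr_normalizerIn B Q).mono (oUp_le p _)).mem_img.1 a4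
    have hg' := oUp_mono p (normalizerIn_le B Q) hg
    rw [autF_ofSubgroup inf_le_right, ← rs_eq_of_mem_autF hα a3, hrs g (hBG (oUp_le p B hg'))]
    exact cr_mem_autBy (Subgroup.mem_sup_right hg') (hGU (hBG (oUp_le p B hg')))
  · refine sub_of_normal_rs hp hF (nrm_sat hE') (nrm_sub hE') hI (nrm_sat hE) hU hTC fun α hα hco => ?_
    rw [autF_ofSubgroup inf_le_right] at hα
    obtain ⟨g, hg, -, rfl⟩ := mem_autBy.1 hα
    exact ((hB g).1 (hHB hg)).2.2
  all_goals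
    haveI := finite_of_le h1
    have hH'B : H' ≤ B := fun g hg => (hB g).2 ⟨h1 hg, fun x hx => by
      have a1 : x⁻¹ * (g * x * g⁻¹) ∈ Q ⊓ H' := ⟨Q.mul_mem (Q.inv_mem hx) (conj_mem_of_normalizer (hGQ (h1 hg)) hx), by
        have := H'.mul_mem (conj_mem_of_normalizer' (h2 (hS.le (hQ.1 hx))) hg) (H'.inv_mem hg)
        show x⁻¹ * (g * x * g⁻¹) ∈ H'
        convert this using 1; group⟩
      exact ⟨a1.1, hT'.le_of_normalizes (isPGroup_of_le hp (inf_le_left.trans hQ.1)) inf_le_right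
        (fun t ht => normalizer_inf (hGQ (h1 (hT'.le ht))) (h2 (h1 (hT'.le ht)))) a1⟩,
      by rw [e, autF_ofSubgroup inf_le_right]; exact cr_mem_autBy hg (hGU (h1 hg))⟩
  · intro x hx
    obtain ⟨a, ha, b, hb, rfl⟩ := hT'.exists_mul_oUp hx
    exact Subgroup.mul_mem_sup ha (oUp_mono p hH'B hb)
  · refine sup_le hT'.le (oUp_le_iff.2 fun g hg hco => ?_)
    have a1 := ((hB g).1 hg).2.2
    rw [e, autF_ofSubgroup inf_le_right] at a1
    obtain ⟨h, hh', hN, a2⟩ := mem_autBy.1 a1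
    have a3 : h⁻¹ * g ∈ Q := hCB ⟨B.mul_mem (B.inv_mem (hH'B hh')) hg, (cr_eq_one_iff
      (hGU (G.mul_mem (G.inv_mem (h1 hh')) (hBG hg)))).1 (by
        rw [(homOn_cr U).map_mul (Subgroup.inv_mem _ hN) (hGU (hBG hg)), (homOn_cr U).map_inv hN, a2, inv_mul_cancel])⟩
    obtain ⟨l, hl⟩ := isPGroup_iff_mem.1 hp _ (hQ.1 a3)
    exact mem_of_coprime_of_pElt' (h2 (hBG hg)) hh' hl hco

end H14.Fus
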