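import Cfsg.Agent.H14.Res

/-! Subsystems over `S` determined by normal subgroups of `Aut_F(T)` containing `Aut_S(T)`. -/

set_option autoImplicit false
set_option linter.unusedSectionVars false
set_option linter.unusedVariables false

namespace H14.Fus

open Equiv Cfsg Cfsg.FusionSystem H13

variable {Ω : Type*} [Group Ω] {S T U : Subgroup Ω} {F : FusionSystem S} {E : FusionSystem T}
  {C : FusionSystem U} {p : ℕ} [Finite S] [Fact p.Prime]

theorem centralizerIn_inf_le_of_op (hS : IsPGroup p S) (hT : F.StronglyClosed T) {P : Subgroup Ω}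
    (hP : P ≤ S) (hc : centralizerIn S P ≤ P) (h : AutBy S P ⊓ Op p (AutF F P) ≤ AutBy P P) :
    centralizerIn T (P ⊓ T) ≤ P ⊓ T := by
  have := finite_of_le hP
  refine le_inf (le_of_normalizerIn_le hS hP ((centralizerIn_le _ _).trans hT.1) (fun g hg =>
    normalizer_inf (sc_le_normalizer hT (hP hg)) (normalizer_centralizer (normalizer_inf
      (Subgroup.le_normalizer hg) (sc_le_normalizer hT (hP hg))))) fun g hg => ?_) (centralizerIn_le _ _)
  have hgS := hT.1 hg.1.1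
  refine mem_of_cr_mem_inn hP hc hgS hg.2 (h ⟨cr_mem_autBy hgS hg.2, mem_op_of_chain2
    (isPGroup_of_le hS hP) (Q := P ⊓ T) inf_le_left (autF_le_autAll F P)
    (fun α hα => sc_maps_inf hT (iso_of_mem_autF hP hα)) (cr_mem_autF F hP hgS hg.2)
    (fun x hx => ?_) fun x hx => ?_⟩)
  · rw [cr_apply hg.2 hx.1, ← hg.1.2 x hx, mul_inv_cancel_right]
  · refine ⟨P.mul_mem (P.inv_mem hx) ((maps_cr hg.2).mem hx), ?_⟩
    rw [cr_apply hg.2 hx, show x⁻¹ * (g * x * g⁻¹) = x⁻¹ * g * x⁻¹⁻¹ * g⁻¹ by group]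
    exact T.mul_mem (sc_conj_mem hT (S.inv_mem (hP hx)) hg.1.1) (T.inv_mem hg.1.1)

theorem tc_of_forall (hS : IsPGroup p S) (hF : F.IsSaturated p) (hT : F.StronglyClosed T)
    {P : Subgroup Ω} (hP : P ≤ S)
    (h : ∀ Q σ, Iso F P Q σ → centralizerIn T (Q ⊓ T) ≤ Q ⊓ T) : TC F T (P ⊓ T) := by
  obtain ⟨U₀, χ, h1, h2, h3⟩ := exists_mor_normalizer' hS hF (inf_le_left.trans hP : P ⊓ T ≤ S)
  have h4 := h2.iso_of_le (fun g hg => ⟨hP hg, normalizer_inf (Subgroup.le_normalizer hg)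
    (sc_le_normalizer hT (hP hg))⟩ : P ≤ normalizerIn S (P ⊓ T))
  have h5 := h _ _ h4
  rw [← h3.2.eq_of_maps (sc_maps_inf hT h4)] at h5
  exact (tc_of_fullyNormalized hS hF hT (sc_iso_le hT h3 inf_le_right) h1 h5).of_iso hT h3.inv

theorem exists_fix_of_tc (hS : IsPGroup p S) (hI : Inv E F) (hE : E.IsSaturated p) {γ : Perm Ω}
    (hγ : Iso F T T γ) {P : Subgroup Ω} (hP : TC F T P) (h1 : Mor E P γ) :
    ∃ ψ, Iso F (normalizerIn T P) (normalizerIn T P) ψ ∧ (∀ x ∈ P, ψ x = x) ∧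
      Mor E (normalizerIn T P) (γ * ψ : Perm Ω) := by
  have := finite_of_le hI.le
  have hT := hS.to_le hI.le
  have h2 : P ≤ normalizerIn T P := le_normalizerIn hP.1
  set N := normalizerIn T P
  have hNT : N ≤ T := normalizerIn_le _ _
  have h3 := h1.iso
  obtain ⟨P', χ, h4, h5, h6⟩ := exists_mor_normalizer' hT hE h3.le'
  have h7 := hγ.1.iso_of_le hNT
  have h8 : img γ N ≤ normalizerIn T (img γ P) := img_le_iff.2 fun g hg =>
    ⟨hγ.mem hg.1, hγ.hom.mem_normalizer hP.1 h3.2 hg.1 hg.2⟩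
  have h9 := h5.iso_of_le h8
  have h10 : Iso F N (img χ (img γ N)) (χ * γ) := (h9.of_sub hI.sub).mul h7
  obtain ⟨ρ, h11, h12⟩ := receptive_extend_of_conj (receptive_of_fullyNormalized hT hE h4)
    (h6.mul h3) le_rfl fun g hg => by
      rw [h10.hom.conj_cr h2 (h6.mul h3).2 hg hg.2]
      exact cr_mem_autBy (h9.le' (h10.mem hg)) (h10.hom.mem_normalizer h2 (h6.mul h3).2 hg hg.2)
  rw [sup_eq_right.2 h2] at h11
  have h13 : Iso E N (img χ (img γ N)) ρ := by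
    have := finite_of_le h9.le'
    refine ⟨h11, h11.hom.maps_of_card (fun g hg => ?_) h10.card_eq.ge⟩
    have := Subgroup.mul_mem _ (h10.mem hg) (h10.img_eq ▸ img_mono _ h2
      (ext_compare hI.sc hP h2 h10.1 (h11.of_sub hI.sub) (fun x hx => (h12 x hx).symm) hg hg))
    rwa [mul_inv_cancel_left] at this
  refine ⟨_, h10.inv.mul (h13.of_sub hI.sub), fun x hx => by rw [mul_ap, h12 x hx, inv_ap], ?_⟩
  have := (h9.inv.mul h13).1
  convert this using 2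
  group

/-- The data of a normal subgroup `K` of `Aut_F(T)` containing `Aut_E(T)` and `Aut_S(T)`. -/
structure KD (E : FusionSystem T) (F : FusionSystem S) (K : Subgroup (Perm Ω)) : Prop where
  inv : Inv E F
  ge : AutF E T ≤ K
  le : K ≤ AutF F T
  normal : AutF F T ≤ Subgroup.normalizer (K : Set (Perm Ω))
  syl : AutBy S T ≤ K

variable {K : Subgroup (Perm Ω)}

theorem KD.iso (h : KD E F K) : ∀ γ ∈ K, Iso F T T γ := fun γ hγ => iso_of_mem_autF h.inv.le (h.le hγ)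

theorem KD.nrm (h : KD E F K) : Nrm E K :=
  have := finite_of_le h.inv.le
  nrm_of_inv h.inv h.iso

theorem KD.autF_tw (h : KD E F K) : AutF (Tw E K) T = K :=
  have := finite_of_le h.inv.le
  h.nrm.autF_top (h.le.trans (autF_le_autAll F T)) h.ge

theorem KD.inv_tw (h : KD E F K) : Inv (Tw E K) F := by
  have := finite_of_le h.inv.le
  refine H13.inv_tw h.inv h.iso fun α hα γ hγ => ?_
  refine (h.nrm.iso (conj_mem_of_normalizer (h.normal hα.rs_mem) hγ)).1.congr fun x hx => ?_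
  have h1 := hα.inv_mem hx
  rw [mul_ap, mul_ap, mul_ap, mul_ap, ← rs_inv hα.2, rs_apply hα.2.inv hx,
    rs_apply hα.2 ((h.iso γ hγ).mem h1)]

theorem KD.mor_cj (h : KD E F K) {s : Ω} (hs : s ∈ S) : Mor (Tw E K) T (cj s) :=
  have := finite_of_le h.inv.le
  have hN := sc_le_normalizer h.inv.sc hs
  (h.nrm.iso (h.syl (cr_mem_autBy hs hN))).1.congr fun x hx => cr_apply hN hx

theorem KD.pElt (hS : IsPGroup p S) (hF : F.IsSaturated p) (h : KD E F K) {V : Subgroup Ω}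
    (hV : V ≤ T) {κ : Perm Ω} (hκ : κ ∈ AutF F V) {k : ℕ} (hk : κ ^ p ^ k = 1) :
    κ ∈ AutF (Tw E K) V := by
  have := finite_of_le h.inv.le
  obtain ⟨U', ψ, s, -, h1, h2, e⟩ := exists_conj_pElt hS hF (inv_self F) hF (hV.trans h.inv.le) hκ hk
  have h3 := sc_iso_le h.inv.sc h1 hV
  have h4 : cr U' s ∈ AutF (Tw E K) U' :=
    (mem_autF h3).2 ⟨⟨((h.mor_cj h2.1).restrict h3).congr fun x hx => (cr_apply h2.2 hx).symm,
      maps_cr h2.2⟩, fun x hx => cr_apply_of_not_mem s hx⟩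
  have := h.inv_tw.conj_autF h3 h4 h1.inv
  rw [← e] at this
  convert this using 1
  group

theorem KD.mor_top (hS : IsPGroup p S) (hF : F.IsSaturated p) (hE : E.IsSaturated p) (h : KD E F K)
    {γ : Perm Ω} (hγ : Iso F T T γ) : ∀ P, P ≤ T → TC F T P → Mor (Tw E K) P γ → Mor (Tw E K) T γ := by
  have := finite_of_le h.inv.le
  refine down_induction fun P hPT ih hP h1 => ?_
  rcases hPT.eq_or_lt with rfl | hlt
  · exact h1
  have h2 := H13.lt_normalizerIn hS h.inv.le hlt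
  have hNT : normalizerIn T P ≤ T := normalizerIn_le _ _
  have := finite_of_le hNT
  refine ih _ hNT (card_lt_of_lt h2) (hP.mono h2.le hNT) ?_
  obtain ⟨δ, h3, h4⟩ := h.nrm.mor_iff.1 h1
  obtain ⟨ψ, h5, h6, h7⟩ := exists_fix_of_tc hS h.inv hE ((h.iso δ h3).inv.mul hγ) hP h4
  obtain ⟨k, hk⟩ := exists_pow_eq_one_of_fix hS h.inv.sc hP h2.le le_rfl h5 h6
  have h8 := iso_of_mem_autF hNT (h.pElt hS hF hNT h5.rs_mem hk)
  refine (((h.nrm.mor_iff.2 ⟨δ, h3, by rwa [← mul_assoc]⟩ :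
    Mor (Tw E K) _ (γ * ψ : Perm Ω)).mul h8.inv.1 fun x hx => h8.inv_mem hx)).congr fun x hx => ?_
  rw [mul_ap, mul_ap, ← rs_apply h5.2 (h8.inv_mem hx), ap_inv]

theorem KD.mor_of_le (hS : IsPGroup p S) (hF : F.IsSaturated p) (hE : E.IsSaturated p) (h : KD E F K)
    {V P : Subgroup Ω} {φ : Perm Ω} (hV : V ≤ T) (hPV : P ≤ V) (hP : TC F T P) (hφ : Mor F V φ)
    (h1 : Mor (Tw E K) P φ) : Mor (Tw E K) V φ := by
  have := finite_of_le h.inv.le
  obtain ⟨γ, h2, h3⟩ := h.inv_tw.frat_iso hφ.iso hV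
  have h4 := h3.1.iso_of_le hPV
  have h5 := h.mor_top hS hF hE h2 _ h4.le' (hP.of_iso h.inv.sc (h4.of_sub h.inv_tw.sub))
    ((h1.mul h4.inv.1 fun x hx => h4.inv_mem hx).congr fun x hx => by
      rw [mul_ap, mul_inv_rev, inv_inv, mul_ap, ap_inv])
  exact (h5.mul h3.1 fun x hx => h3.le' (h3.mem hx)).congr fun x hx => by rw [mul_ap, mul_ap, ap_inv]

/-- Frattini argument in `Aut_F(T)` -/
theorem exists_top_mul (hS : IsPGroup p S) (hF : F.IsSaturated p) (hT : F.StronglyClosed T)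
    (h1 : K ≤ AutF F T) (h2 : AutF F T ≤ Subgroup.normalizer (K : Set (Perm Ω)))
    (h3 : AutBy S T ≤ K) {γ : Perm Ω} (hγ : γ ∈ AutF F T) :
    ∃ α, Iso F S S α ∧ ∃ k ∈ K, ∀ x ∈ T, α x = γ (k x) := by
  have := finite_autF_of_le F hT.1
  have := finite_of_le h1
  have hn := fullyNormalized_of_normal (F := F) hT.1 (sc_le_normalizer hT)
  obtain ⟨k, hk, h4⟩ := ((fn_syl hS hF hn).mono h3 h1).frattini' (h2 hγ)
  obtain ⟨α, h5, h6⟩ := extend_of_normalizes hS hF (fullyCentralized_of_fullyNormalized hS hF hn)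
    (iso_of_mem_autF hT.1 (mul_mem hγ (h1 hk))) le_rfl h4
  exact ⟨α, (h5.restrict fun s hs => Subgroup.mem_sup_right (mem_nk.2
    ⟨⟨hs, sc_le_normalizer hT hs⟩, cr_mem_autBy hs (sc_le_normalizer hT hs)⟩)).iso_top, k, hk, h6⟩

/-- the system generated by the morphisms restricting into `D` -/
def KS (F : FusionSystem S) (D : FusionSystem T) : FusionSystem S :=
  Gen S fun P σ => TC F T (P ⊓ T) ∧ Mor F P σ ∧ Mor D (P ⊓ T) σ

theorem ks_sub (F : FusionSystem S) (D : FusionSystem T) : (KS F D).IsSubsystemOf F :=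
  gen_le le_rfl fun _ _ h _ => h.2.1

theorem mor_ks {D : FusionSystem T} {P : Subgroup Ω} {σ : Perm Ω} (h1 : TC F T (P ⊓ T))
    (h2 : Mor F P σ) (h3 : Mor D (P ⊓ T) σ) : Mor (KS F D) P σ :=
  mor_gen_of_mor ⟨h1, h2, h3⟩ h2 h2.le fun _ hx => h2.mem hx

theorem KD.of_mor_ks (h : KD E F K) {P : Subgroup Ω} {σ : Perm Ω} (h1 : Mor (KS F (Tw E K)) P σ)
    (h2 : TC F T (P ⊓ T)) : Mor (Tw E K) (P ⊓ T) σ := by
  have := finite_of_le h.inv.le
  have hT := h.inv.sc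
  refine gen_induction (C := fun P σ => TC F T (P ⊓ T) → Mor (Tw E K) (P ⊓ T) σ)
    (fun P R σ τ _ a2 a3 a4 a5 => ?_) (fun P Q R σ τ a1 a2 a3 a4 a5 => ?_)
    (fun P Q σ a1 a2 a3 => ?_) (fun s hs _ => (h.mor_cj hs).restrict inf_le_right)
    (fun P σ a1 _ _ => a1.2.2) P σ h1 h2
  · exact ((a2 (a5.mono (inf_le_inf_right T a3) inf_le_right)).restrict
      (inf_le_inf_right T a3)).congr fun x hx => a4 x hx.1
  · have b1 := a1.of_sub (ks_sub F _)
    have b2 := sc_maps_inf hT b1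
    exact (a4 (a5.of_iso hT (b1.restrict inf_le_left b2))).mul (a3 a5) fun x hx => b2.mem hx
  · have b1 := a1.of_sub (ks_sub F _)
    have b2 := sc_maps_inf hT b1
    exact (Iso.inv ⟨a2 (a3.of_iso hT (b1.restrict inf_le_left b2).inv), b2⟩).1

theorem KD.nrm_ks (h : KD E F K) : Nrm (KS F (Tw E K)) (AutF F S) := by
  have := finite_of_le h.inv.le
  have hT := h.inv.sc
  intro γ hγ
  have h1 := iso_of_mem_autF le_rfl hγ
  refine ⟨h1.hom, h1.2, gen_conj h1.hom h1.2 fun P σ ⟨a1, a2, a3⟩ _ => ?_⟩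
  have b1 := h1.1.iso_of_le a2.le
  have b2 := sc_maps_inf hT b1
  refine mor_ks (a1.of_iso hT (b1.restrict inf_le_left b2)) ((inv_self F).conj_perm a2 h1) ?_
  rw [← b2.img_eq]
  exact h.inv_tw.conj_perm a3 (h1.restrict hT.1 (sc_maps hT h1.1 hT.1))

theorem KD.inv_ks (hS : IsPGroup p S) (hF : F.IsSaturated p) (h : KD E F K) :
    Inv (KS F (Tw E K)) F := by
  have := finite_of_le h.inv.le
  have hT := h.inv.sc
  have key : F.IsSubsystemOf (Tw (KS F (Tw E K)) (AutF F S)) := by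
    refine alperin_le_cr hS hF fun P σ a1 a2 a3 a4 => ?_
    have b1 := sc_maps_inf hT a4
    obtain ⟨γ, b2, b3⟩ := h.inv_tw.frat_iso (a4.restrict inf_le_left b1) inf_le_right
    obtain ⟨α, b4, k, hk, b5⟩ := exists_top_mul hS hF hT h.le h.normal h.syl b2.rs_mem
    refine h.nrm_ks.mor_iff.2 ⟨rs S α, b4.rs_mem, mor_ks (tc_of_cr hS hF hT a1 a2)
      (b4.rs.inv.1.mul a4.1 fun x hx => a4.1.mem hx) ?_⟩
    have b6 := h.nrm.iso hk
    refine (b6.inv.1.mul b3.1 fun x hx => b3.le' (b3.mem hx)).congr fun x hx => ?_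
    have b7 := b6.inv_mem (b3.le' (b3.mem hx))
    rw [mul_ap, eq_comm, mul_ap, Perm.inv_eq_iff_eq, rs_apply b4.2 (hT.1 b7), b5 _ b7, ap_inv,
      rs_apply b2.2 (b3.le' (b3.mem hx)), mul_ap, ap_inv]
  have := fs_antisymm key (tw_le (ks_sub F _) fun γ hγ => (iso_of_mem_autF le_rfl hγ).1)
  have h1 := h.nrm_ks.inv
  rwa [← this] at h1

theorem KD.saturated_ks (hS : IsPGroup p S) (hF : F.IsSaturated p) (hE : E.IsSaturated p)
    (h : KD E F K) : (KS F (Tw E K)).IsSaturated p := by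
  have := finite_of_le h.inv.le
  have hT := h.inv.sc
  have hI := h.inv_ks hS hF
  refine saturated_of_family hS (H := fun P => TC F T (P ⊓ T)) (fun P hP hPS => ?_)
    (fun D hD => gen_hgen _ D fun P σ a1 a2 => hD P σ a1.1 a2) fun P hP hn => ?_
  · obtain ⟨Q, χ, h1, h2⟩ := exists_fullyNormalized F hPS
    obtain ⟨γ, h3, h4⟩ := hI.frat_iso h1 hPS
    have h5 := (fullyNormalized_img h2 (h3.inv.1.restrict (normalizerIn_le _ _))
      (h3.inv.1.iso_of_le h2.1).2).1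
    refine ⟨_, _, h4, fullyAutomized_iff.2 ⟨h5.1, (sylIn_of_fullyNormalized hS hF h5).mono
      (autBy_le_autF _ h5.1 le_rfl) (autF_mono hI.sub h5.1)⟩,
      receptive_iff.2 ⟨h5.1, fun P' σ hσ => ?_⟩⟩
    obtain ⟨τ, h6, h7⟩ := (receptive_iff.1 (receptive_of_fullyNormalized hS hF h5)).2 P' σ
      (hσ.of_sub hI.sub)
    have h8 := (hσ.inv.mul h4).of_sub hI.sub
    have h9 := hP.of_iso hT (h8.restrict inf_le_left (sc_maps_inf hT h8))
    have h10 := inf_le_inf_right T hσ.1.le_nphi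
    exact ⟨τ, mor_ks (h9.mono h10 inf_le_right) h6 (h.mor_of_le hS hF hE inf_le_right h10 h9
      (h6.restrict inf_le_left) ((h.of_mor_ks hσ.1 h9).congr fun x hx => (h7 x hx.1).symm)), h7⟩
  · by_contra hcon
    refine hn P 1 (iso_one _ hP.1) (tc_of_forall hS hF hT hP.1 fun Q σ hσ => ?_)
    obtain ⟨γ, h1, h2⟩ := hI.frat_iso hσ hP.1
    have h3 := centralizerIn_inf_le_of_op hS (sc_of_sub' hI.sub hT hT.1) h2.le'
      (H13.centric_le (centric_of_iso hP h2)) (by_contra fun h' => hcon ⟨_, _, h2, h'⟩)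
    have h4 := sc_maps_inf hT (h1.inv.1.iso_of_le hσ.le')
    have h5 := sc_maps hT h1.inv.1 hT.1
    exact (((h1.inv.hom.mono hT.1).maps_centralizerIn h5 inf_le_right h4).le_iff h4).2 h3

theorem KD.exists_sys (hS : IsPGroup p S) (hF : F.IsSaturated p) (hE : E.IsSaturated p)
    (h : KD E F K) : ∃ D : FusionSystem S, D.IsSaturated p ∧ Inv D F ∧ E.IsSubsystemOf D ∧
      ∀ (R : Subgroup Ω) (σ : Perm Ω), T ≤ R → (Mor D R σ ↔ Mor F R σ ∧ rs T σ ∈ K) := by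
  have := finite_of_le h.inv.le
  have hT := h.inv.sc
  refine ⟨_, h.saturated_ks hS hF hE, h.inv_ks hS hF,
    alperin_le_cr (hS.to_le hT.1) hE fun P σ a1 _ _ a2 => ?_, fun R σ hR => ?_⟩
  · have e : P ⊓ T = P := inf_eq_left.2 a1.1
    exact mor_ks (e.symm ▸ (tc_iff_centric h.inv).2 a1) (a2.1.of_sub h.inv.sub)
      ((a2.1.of_sub (le_tw E K)).restrict inf_le_left)
  have e : R ⊓ T = T := inf_eq_right.2 hR
  have h1 : TC F T (R ⊓ T) := e.symm ▸ tc_top hT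
  constructor
  · intro a1
    have a2 := a1.of_sub (ks_sub F _)
    refine ⟨a2, h.autF_tw.le (Iso.rs_mem ⟨(h.of_mor_ks a1 h1).restrict e.ge, sc_maps hT a2 hR⟩)⟩
  · rintro ⟨a1, a2⟩
    exact mor_ks h1 a1 (((h.nrm.iso a2).1.congr fun x hx =>
      rs_apply (sc_maps hT a1 hR) hx).restrict inf_le_right)

theorem inv_of_top (hS : IsPGroup p S) {D : FusionSystem T} (hI : Inv E F) (hE : E.IsSaturated p)
    (hD : Inv D E) (hD' : D.IsSaturated p)
    (h : ∀ α γ, Iso F T T α → Iso D T T γ → Mor D T (α * γ * α⁻¹ : Perm Ω)) : Inv D F := by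
  have := finite_of_le hI.le
  have hT := hS.to_le hI.le
  have h1 := inv_opp hT (inv_self E) hE
  have h2 := opp_le_of_inv hT hE (inv_self E) hE hD hD' le_rfl
  have h3 := h1.of_sub hT hD' h2 hD.sub
  have h4 : ∀ γ ∈ AutF D T, Iso D T T γ := fun γ hγ => iso_of_mem_autF le_rfl hγ
  have h5 := nrm_of_inv h3 h4
  have e : Tw (OPp E p) (AutF D T) = D := by
    refine fs_antisymm (tw_le h2 fun γ hγ => (h4 γ hγ).1) (isSubsystemOf_iff_perm.2 fun P σ hσ => ?_)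
    obtain ⟨γ, a1, a2⟩ := h3.frat_iso hσ.iso hσ.le
    refine h5.mor_iff.2 ⟨_, a1.rs_mem, a2.1.congr fun x hx => ?_⟩
    rw [mul_ap, mul_ap, ← rs_inv a1.2, rs_apply a1.2.inv (hσ.mem hx)]
  have := H13.inv_tw (inv_opp hS hI hE) (fun γ hγ => ((h4 γ hγ).of_sub hD.sub).of_sub hI.sub)
    fun α hα γ hγ => e.symm ▸ h α γ hα (h4 γ hγ)
  rwa [e] at this

theorem hyp_le_of_over (hS : IsPGroup p S) (hF : F.IsSaturated p) (hT : F.StronglyClosed T)
    {M : Subgroup Ω} (h1 : T ≤ M) (h2 : M ≤ S) (h : ∀ P, T ≤ P → P ≤ S → ∀ β ∈ AutF F P,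
      (orderOf β).Coprime p → ∀ x ∈ P, x⁻¹ * β x ∈ M) : F.hyperfocalSubgroup p ≤ M := by
  obtain ⟨Ω', _, _, D, θ, hθ, hk⟩ := exists_quot' hS hF hT
  rw [← pre_img_of_le hθ.hom h2 (hk.le.trans h1), le_pre_iff hθ.hom (H13.hyp_le F p), hθ.img_hyp]
  refine H14.Fus.hyp_le_iff.2 fun P' hP' α' hα' hc y hy => ?_
  have hP : pre S θ P' ≤ S := pre_le _ _ _
  have := finite_autF_of_le F hP
  have e1 := hθ.img_ind_autF hP (ker_le_pre hθ.hom P')
  rw [hθ.img_pre hP'] at e1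
  have hh := hθ.fHom.homOn_ind hP
  obtain ⟨α, hα, rfl⟩ := hh.mem_img.1 (e1.ge hα')
  obtain ⟨n, e2, hc'⟩ := exists_coprime_lift hh hα hc
  have hβ := pow_mem hα n
  obtain ⟨x, hx, rfl⟩ := hθ.exists_pre hP' hy
  have hm := maps_of_mem_autF hβ
  rw [← e2, (hθ.fHom.ind_spec hP hβ).2 x hx, ← hθ.hom.map_inv (hP hx),
    ← hθ.hom.map_mul (S.inv_mem (hP hx)) (hP (hm.mem hx))]
  exact mem_img_of_mem θ (h _ (hk.ge.trans (ker_le_pre hθ.hom P')) hP _ hβ hc' x hx)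

theorem sc_nk (hS : IsPGroup p S) (hF : F.IsSaturated p) (hT : F.StronglyClosed T)
    (h1 : AutBy T T ≤ K) (h2 : AutF F T ≤ Subgroup.normalizer (K : Set (Perm Ω))) :
    F.StronglyClosed (NK S T K) := by
  refine sc_of_over hS hF hT (fun t ht => mem_nk.2 ⟨le_normalizerIn hT.1 ht,
    h1 (cr_mem_autBy ht (Subgroup.le_normalizer ht))⟩) (nk_le' _ _ _) fun P f hP hf x hx hxK => ?_
  obtain ⟨σ, a1, a2⟩ := hf.exists_perm
  have a3 := sc_maps hT a1 hP
  have hN := sc_le_normalizer hT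
  rw [← a2 x hx]
  refine mem_nk.2 ⟨⟨a1.mem hx, hN (a1.mem hx)⟩, ?_⟩
  rw [← a1.hom.conj_cr hP a3 hx (hN (a1.le hx)), conj_congr a3 (maps_cr (hN (a1.le hx)))
    (fun y hy => cr_apply_of_not_mem x hy) fun y hy => (rs_apply a3 hy).symm]
  exact conj_mem_of_normalizer (h2 (Iso.rs_mem ⟨a1.restrict hP, a3⟩)) (mem_nk.1 hxK).2

/-- a weakly normal subsystem with prescribed automizer `K` of `T`, containing `F^∞` -/
def Chain (E : FusionSystem T) (F : FusionSystem S) (p : ℕ) (K : Subgroup (Perm Ω)) : Prop :=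
  AutF F T ≤ Subgroup.normalizer (K : Set (Perm Ω)) ∧
  ∃ (R : Subgroup Ω) (D : FusionSystem R), R = NK S T K ∧ D.IsSaturated p ∧ Inv D F ∧
    E.IsSubsystemOf D ∧ AutF D T = K ∧
    ∀ (V : Subgroup Ω) (L : FusionSystem V), Prf L p → Inv L F → L.IsSubsystemOf D

theorem chain_top (hF : F.IsSaturated p) (hI : Inv E F) : Chain E F p (AutF F T) :=
  ⟨Subgroup.le_normalizer, S, F, le_antisymm (fun s hs => mem_nk.2 ⟨⟨hs, sc_le_normalizer hI.sc hs⟩,
    cr_mem_autF F hI.le hs (sc_le_normalizer hI.sc hs)⟩) (nk_le' _ _ _), hF, inv_self F, hI.sub, rfl,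
    fun _ _ _ h => h.sub⟩

theorem Chain.step' (hS : IsPGroup p S) (hI : Inv E F) (hE : E.IsSaturated p) (h : Chain E F p K)
    {K' : Subgroup (Perm Ω)} (h1 : AutF E T ≤ K') (h2 : OUp' p K ≤ K') (h3 : K' ≤ K)
    (h4 : AutF F T ≤ Subgroup.normalizer (K' : Set (Perm Ω))) : Chain E F p K' := by
  obtain ⟨-, R, D, e, a1, a2, a3, rfl, a5⟩ := h
  have := finite_of_le a2.le
  have hR := hS.to_le a2.le
  have b1 := hI.of_sub hS a1 a3 a2.sub
  have b2 : AutBy R T ≤ K' := (fn_syl hR a1 (fullyNormalized_of_normal b1.le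
    (sc_le_normalizer b1.sc))).oUp'.le.trans h2
  obtain ⟨D', c1, c2, c3, c4⟩ := KD.exists_sys hR a1 hE
    ⟨b1, h1, h3, (a2.autF_le b1.le).trans h4, b2⟩
  refine ⟨h4, R, D', le_antisymm (fun r hr => ?_) (fun r hr => ?_), c1,
    inv_of_top hS a2 a1 c2 c1 fun α γ d1 d2 => ?_, c3, le_antisymm (fun α hα => ?_) fun α hα => ?_,
    fun V L d1 d2 => ?_⟩
  · have d1 := sc_le_normalizer hI.sc (a2.le hr)
    exact mem_nk.2 ⟨⟨a2.le hr, d1⟩, b2 (cr_mem_autBy hr d1)⟩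
  · exact e.ge (mem_nk.2 ⟨(mem_nk.1 hr).1, h3 (mem_nk.1 hr).2⟩)
  · obtain ⟨d3, d4⟩ := (c4 R γ b1.le).1 d2.1
    have d5 := sc_maps hI.sc d1.1 b1.le
    refine (c4 R _ b1.le).2 ⟨?_, ?_⟩
    · have := a2.conj_perm d3 d1
      rwa [d1.img_eq] at this
    · rw [rs_conj_of_stab d5 (sc_maps b1.sc d3 b1.le)]
      exact conj_mem_of_normalizer (h4 (d1.restrict b1.le d5).rs_mem) d4
  · have d1 := ((c4 T α le_rfl).1 (iso_of_mem_autF b1.le hα).1).2
    rwa [rs_eq_self (maps_of_mem_autF hα) (fix_of_mem_autF hα)] at d1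
  · have d1 := h3 hα
    exact (mem_autF b1.le).2 ⟨⟨(c4 T α le_rfl).2 ⟨(iso_of_mem_autF b1.le d1).1, by
      rwa [rs_eq_self (maps_of_mem_autF d1) (fix_of_mem_autF d1)]⟩, maps_of_mem_autF d1⟩,
      fix_of_mem_autF d1⟩
  · have d3 := d2.of_sub hS a1 (a5 V L d1 d2) a2.sub
    exact d1.sub_of_inv hR a1 d3 c2 c1 d3.le

theorem Chain.step (hS : IsPGroup p S) (hF : F.IsSaturated p) (hI : Inv E F) (hE : E.IsSaturated p)
    (h : Chain E F p K) {K' : Subgroup (Perm Ω)} (h1 : AutF E T ≤ K') (h2 : OUp p K ≤ K')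
    (h3 : K' ≤ K) (h4 : AutF F T ≤ Subgroup.normalizer (K' : Set (Perm Ω))) : Chain E F p K' := by
  obtain ⟨-, R, D, e, a1, a2, a3, rfl, a5⟩ := h
  have := finite_of_le a2.le
  have hR := hS.to_le a2.le
  have b1 := hI.of_sub hS a1 a3 a2.sub
  have b2 : AutBy T T ≤ K' := (autBy_le_autF E le_rfl le_rfl).trans h1
  have b3 := sc_nk hS hF hI.sc b2 h4
  have b4 : NK S T K' ≤ R := fun r hr => e.ge (mem_nk.2 ⟨(mem_nk.1 hr).1, h3 (mem_nk.1 hr).2⟩)
  have b5 := sc_of_sub' a2.sub b3 b4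
  have b6 : T ≤ NK S T K' := fun t ht => mem_nk.2 ⟨le_normalizerIn hI.le ht,
    b2 (cr_mem_autBy ht (Subgroup.le_normalizer ht))⟩
  obtain ⟨D', c1, c2, c3⟩ := exists_pPowerIndex_of_sc hR a1 b5
    ((hyp_le_nk hR a1 b1.sc h2 b2).trans fun r hr =>
      mem_nk.2 ⟨normalizerIn_mono a2.le T (mem_nk.1 hr).1, (mem_nk.1 hr).2⟩)
  have := finite_of_le b4
  have := finite_autF_of_le D b1.le
  have := finite_autF_of_le D' b6
  have hN := sc_le_normalizer hI.sc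
  refine ⟨h4, _, D', rfl, c1, inv_pPowerIndex hS a2 a1 c1 c2 b5 fun γ hγ => sc_maps b3 hγ.1 b4,
    sub_of_pPowerIndex hR hE a3 c2 b6, le_antisymm (fun α hα => ?_) fun α hα => ?_,
    fun V L d1 d2 => d1.sub_of_pPowerIndex hR (a5 V L d1 d2) c2⟩
  · obtain ⟨r, d1, n, d2, rfl⟩ := (fn_syl (hR.to_le b4) c1 (fullyNormalized_of_normal b6
      ((nk_le' _ _ _).trans hN))).exists_mul_oUp hα
    obtain ⟨s, d3, -, rfl⟩ := mem_autBy.1 d1
    exact mul_mem (mem_nk.1 d3).2 (h2 (oUp_mono p (c3.autF_le b6) d2))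
  · obtain ⟨r, d1, n, d2, rfl⟩ := (fn_syl hR a1 (fullyNormalized_of_normal b1.le
      (a2.le.trans hN))).exists_mul_oUp (h3 hα)
    obtain ⟨s, d3, d4, rfl⟩ := mem_autBy.1 d1
    refine mul_mem (cr_mem_autF D' b6 (mem_nk.2 ⟨⟨a2.le d3, d4⟩, ?_⟩) d4)
      (oUp_le_iff.2 (fun β d5 d6 => (pPowerIndex_iff.1 c2).2.2 T b6 β d5 d6) d2)
    exact (Subgroup.mul_mem_cancel_right _ (h2 d2)).1 hα

theorem exists_chain (hS : IsPGroup p S) (hF : F.IsSaturated p) (hI : Inv E F)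
    (hE : E.IsSaturated p) {Ω' : Type*} [Group Ω'] {f : Perm Ω → Ω'} (hf : HomOn (AutF F T) f)
    (hk : ∀ α ∈ AutF E T, f α = 1) (n : ℕ) : ∃ K, AutF E T ≤ K ∧ K ≤ AutF F T ∧ Chain E F p K ∧
      img f K = (Rstep p)^[n] (img f (AutF F T)) := by
  have h0 := hI.autF_le le_rfl
  have := finite_autF_of_le F hI.le
  have h1 : ∀ X, X ≤ AutF F T → img f (X ⊔ AutF E T) = img f X := fun X hX => by
    rw [(hf.mono (sup_le hX h0)).img_sup, sup_eq_left]
    exact img_le_iff.2 fun α hα => by rw [hk α hα]; exact one_mem _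
  induction n with
  | zero => exact ⟨_, h0, le_rfl, chain_top hF hI, rfl⟩
  | succ n ih =>
    obtain ⟨K, a1, a2, a3, a4⟩ := ih
    have b1 : OUp' p K ⊔ AutF E T ≤ K := sup_le (oUp'_le _ _) a1
    have b2 : OUp p (OUp' p K ⊔ AutF E T) ⊔ AutF E T ≤ OUp' p K ⊔ AutF E T :=
      sup_le (oUp_le _ _) le_sup_right
    have b3 := a3.step' hS hI hE le_sup_right le_sup_left b1 fun α hα => normalizer_sup
      (normalizer_le_normalizer_oUp' p _ (a3.1 hα)) (hI.autF_normal le_rfl hα)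
    have b4 := b3.step hS hF hI hE le_sup_right le_sup_left b2 fun α hα => normalizer_sup
      (normalizer_le_normalizer_oUp p _ (b3.1 hα)) (hI.autF_normal le_rfl hα)
    refine ⟨_, le_sup_right, (b2.trans b1).trans a2, b4, ?_⟩
    have := finite_of_le a2
    have := finite_of_le b1
    rw [h1 _ (((oUp_le _ _).trans b1).trans a2), (hf.mono (b1.trans a2)).img_oUp,
      h1 _ ((oUp'_le _ _).trans a2), (hf.mono a2).img_oUp', a4, Function.iterate_succ_apply']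
    rfl

theorem nk_autF_eq (hS : IsPGroup p S) (hF : F.IsSaturated p) (hI : Inv E F) (hE : E.IsSaturated p) :
    NK S T (AutF E T) = T ⊔ centralizerIn S T := by
  have hN := sc_le_normalizer hI.sc
  refine le_antisymm (fun s hs => ?_) (sup_le (fun t ht => mem_nk.2 ⟨le_normalizerIn hI.le ht,
    cr_mem_autF E le_rfl ht (Subgroup.le_normalizer ht)⟩) fun c hc => mem_nk.2
      ⟨centralizerIn_le_normalizerIn _ _ hc, ?_⟩)
  · obtain ⟨h1, h2⟩ := mem_nk.1 hs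
    obtain ⟨t, h3, h4⟩ := exists_of_cr_mem hI.le h1 (hI.autBy_inf hS hF hE le_rfl
      (fullyNormalized_of_normal hI.le hN) ⟨cr_mem_autBy h1.1 h1.2, h2⟩)
    rw [← mul_inv_cancel_left t s]
    exact mul_mem (Subgroup.mem_sup_left h3.1) (Subgroup.mem_sup_right h4)
  · rw [(cr_eq_one_iff (hN hc.1)).2 hc.2]
    exact one_mem _

theorem chain_of_pSolvable (hS : IsPGroup p S) (hF : F.IsSaturated p) (hI : Inv E F)
    (hE : E.IsSaturated p) [hn : ((E.autGroup T).subgroupOf (F.autGroup T)).Normal]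
    (h : IsPSolvable p (F.autGroup T ⧸ (E.autGroup T).subgroupOf (F.autGroup T))) :
    ∃ D : FusionSystem (T ⊔ centralizerIn S T), D.IsNormalIn F p ∧ E.IsSubsystemOf D ∧
      AutF D T = AutF E T ∧
      ∀ (V : Subgroup Ω) (L : FusionSystem V), Prf L p → Inv L F → L.IsSubsystemOf D := by
  have := finite_of_le hI.le
  obtain ⟨n, hn'⟩ := pSolvable_iff.1 h
  let e := (F.autGroup T).equivMapOfInjective (H13.ext T) (ext_injective T)
  let f : AutF F T →* _ := (QuotientGroup.mk' ((E.autGroup T).subgroupOf (F.autGroup T))).comp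
    e.symm.toMonoidHom
  have h1 : ∀ α (hα : α ∈ AutF F T), fn f α = 1 ↔ α ∈ AutF E T := by
    rintro _ ⟨β, hβ, rfl⟩
    rw [fn_apply f ⟨β, hβ, rfl⟩, ext_mem_autF]
    have : e.symm ⟨_, β, hβ, rfl⟩ = ⟨β, hβ⟩ := e.symm_apply_eq.2 rfl
    exact (QuotientGroup.eq_one_iff _).trans
      (show e.symm ⟨_, β, hβ, rfl⟩ ∈ _ ↔ _ by rw [this]; rfl)
  obtain ⟨K, a1, a2, ⟨-, R, D, a3, a4, a5, a6, a7, a8⟩, a9⟩ := exists_chain hS hF hI hE (homOn_fn f)
    (fun α hα => (h1 α (hI.autF_le le_rfl hα)).2 hα) n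
  have h2 : f.range = ⊤ :=
    MonoidHom.range_eq_top.2 ((QuotientGroup.mk'_surjective _).comp e.symm.surjective)
  rw [img_fn_self, h2, hn'] at a9
  obtain rfl : K = AutF E T := le_antisymm
    (fun α hα => (h1 α (a2 hα)).1 (Subgroup.mem_bot.1 (a9.le (mem_img_of_mem _ hα)))) a1
  rw [nk_autF_eq hS hF hI hE] at a3
  subst a3
  refine ⟨D, normalIn_iff.2 ⟨a4, hF, a5, fun α hα => ?_⟩, a6, a7, a8⟩
  have b1 : centralizerIn S (T ⊔ centralizerIn S T) ≤ T ⊔ centralizerIn S T :=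
    (centralizerIn_mono le_rfl le_sup_left).trans le_sup_right
  exact ⟨α, (hα.1.of_sub a5.sub).restrict (sup_le le_rfl b1), fun _ _ => rfl,
    fun c hc => mul_mem (inv_mem (b1 hc)) (hα.mem (b1 hc))⟩

end H14.Fus
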