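/-
Towards the product of a normal subsystem with a `p`-group: uniqueness of lifts, the constrained case.
-/
import Cfsg.Agent.H14.NModel
import Cfsg.Agent.H14.Res2

set_option autoImplicit false
set_option linter.unusedVariables false
set_option linter.unusedSectionVars false
set_option linter.style.haveILetI false
open Cfsg Cfsg.FusionSystem Equiv H13

namespace H14.Fus
universe u

theorem mem_of_comm_mod {G : Type*} [Group G] {p : ℕ} [Fact p.Prime] {N : Subgroup G} {k d : G}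
    (hk : k ∈ Subgroup.normalizer (N : Set G)) (hd : d ∈ Subgroup.normalizer (N : Set G))
    (h : d * k * d⁻¹ * k⁻¹ ∈ N) {l : ℕ} (hp : k ^ p ^ l = 1) (c1 : (orderOf d).Coprime p)
    (c2 : (orderOf (k * d)).Coprime p) : k ∈ N := by
  let π := QuotientGroup.mk' (N.subgroupOf (Subgroup.normalizer (N : Set G)))
  have hc : Commute (π ⟨k, hk⟩) (π ⟨d, hd⟩) := by
    refine Commute.symm (commutatorElement_eq_one_iff_commute.1 ?_)
    rw [← map_commutatorElement]
    exact (QuotientGroup.eq_one_iff _).2 h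
  have h1 : π ⟨d, hd⟩ ^ orderOf d = 1 := by
    rw [← map_pow, show (⟨d, hd⟩ : Subgroup.normalizer (N : Set G)) ^ orderOf d = 1 from
      Subtype.ext (pow_orderOf_eq_one d), map_one]
  have h2 : (π ⟨k, hk⟩ * π ⟨d, hd⟩) ^ orderOf (k * d) = 1 := by
    rw [← map_mul, ← map_pow, show (⟨k, hk⟩ * ⟨d, hd⟩ : Subgroup.normalizer (N : Set G)) ^ orderOf (k * d) = 1 from
      Subtype.ext (pow_orderOf_eq_one (k * d)), map_one]
  have h3 : π ⟨k, hk⟩ ^ p ^ l = 1 := by
    rw [← map_pow, show (⟨k, hk⟩ : Subgroup.normalizer (N : Set G)) ^ p ^ l = 1 from Subtype.ext hp, map_one]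
  have h4 : π ⟨k, hk⟩ ^ (orderOf (k * d) * orderOf d) = 1 := by
    have : (π ⟨k, hk⟩ * π ⟨d, hd⟩) ^ (orderOf (k * d) * orderOf d) = 1 := by rw [pow_mul, h2, one_pow]
    rwa [hc.mul_pow, mul_comm (orderOf (k * d)), pow_mul (π ⟨d, hd⟩), h1, one_pow, mul_one, mul_comm] at this
  have h5 := pow_gcd_eq_one.2 ⟨h4, h3⟩
  rw [((c2.mul_left c1).pow_right l).gcd_eq_one, pow_one] at h5
  exact (QuotientGroup.eq_one_iff (N := N.subgroupOf (Subgroup.normalizer (N : Set G))) ⟨k, hk⟩).1 h5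

theorem SylIn.sup_normal {G : Type*} [Group G] {p : ℕ} [Fact p.Prime] {T H R : Subgroup G} [Finite H] [Finite R]
    (hT : SylIn p T H) (hR : IsPGroup p R) (hTR : T ≤ R) (hN : R ≤ Subgroup.normalizer (H : Set G)) :
    SylIn p R (R ⊔ H) := by
  obtain ⟨Y, h1, h2⟩ := exists_sylIn_ge hR (le_sup_left (b := H))
  have h3 := hT.eq_of_le (isPGroup_of_le h1.isPGroup inf_le_left) (inf_le_right (a := Y)) (le_inf (hTR.trans h2) hT.le)
  have : Y = R := le_antisymm (fun y hy => by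
    obtain ⟨a, ha, b, hb, rfl⟩ := (mem_sup_of_normalizes hN).1 (h1.le hy)
    exact R.mul_mem ha (hTR (h3.le ⟨(Y.mul_mem_cancel_left (h2 ha)).1 hy, hb⟩))) h2
  rwa [this] at h1

variable {Ω : Type u} [Group Ω] {p : ℕ} [Fact p.Prime]
variable {S T : Subgroup Ω} [Finite S] {F : FusionSystem S} {E : FusionSystem T}

theorem FIso.pPowerIndex {Ω' : Type*} [Group Ω'] {S' T' : Subgroup Ω'} {F' : FusionSystem S'} {E' : FusionSystem T'}
    {θ : Ω → Ω'} (h : FIso F F' θ) (h' : Fac E E' θ) (hE : E.HasPPowerIndexIn F p) : E'.HasPPowerIndexIn F' p := by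
  obtain ⟨h1, h2, h3⟩ := pPowerIndex_iff.1 hE
  have hT := le_of_isSubsystemOf h1
  haveI := finite_of_le hT
  haveI := h.finite
  refine pPowerIndex_iff.2 ⟨h'.sub_of h.1.fHom h1, ?_, fun P hP α hα hc => ?_⟩
  · rw [← h.1.img_hyp, ← h'.img_eq]; exact img_mono θ h2
  · have h4 := pre_le T θ P
    rw [← h'.img_pre hP] at hα ⊢
    rw [← h.1.img_ind_autF (h4.trans hT) (h.ker_le _)] at hα
    obtain ⟨β, hβ, rfl⟩ := (h.1.fHom.homOn_ind (h4.trans hT)).mem_img.1 hα
    rw [homOn_orderOf (h.1.fHom.homOn_ind (h4.trans hT)) (h.injOn_ind (h4.trans hT)) hβ] at hc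
    exact (h'.fHom.ind_spec h4 (h3 _ h4 β hβ hc)).1

theorem comm_inn_of_triv {U P : Subgroup Ω} (hUP : U ≤ P) (hP : P ≤ Subgroup.normalizer (U : Set Ω)) {β : Perm Ω}
    (hβ : HomOn P β) (hm : Maps U U β) (h : ∀ x ∈ P, x⁻¹ * β x ∈ U) {c : Ω} (hc : c ∈ P) :
    rs U β * cr U c * (rs U β)⁻¹ * (cr U c)⁻¹ ∈ AutBy U U := by
  have h1 : β c ∈ P := mem_of_triv hUP hc (h c hc)
  rw [← conj_congr hm (maps_cr (hP hc)) (fun x hx => cr_apply_of_not_mem _ hx) (fun x hx => (rs_apply hm hx).symm),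
    hβ.conj_cr hUP hm hc (hP hc), ← (homOn_cr _).map_inv (hP hc),
    ← (homOn_cr _).map_mul (hP h1) (Subgroup.inv_mem _ (hP hc))]
  have h2 := (inv_mul_mem_iff (hP hc)).1 (h c hc)
  exact cr_mem_autBy h2 (Subgroup.le_normalizer h2)

theorem lg_unique_aux (hS : IsPGroup p S) (hF : F.IsSaturated p) (hE : E.IsNormalIn F p) {U P : Subgroup Ω}
    (hU : TC F T U) (hUP : U ≤ P) (hP : P ≤ normalizerIn S U) (hK : FullyKNorm F P (stab U)) {α β : Perm Ω}
    (hα : α ∈ LG E F U P) (hβ : β ∈ LG E F U P) (c1 : (orderOf α).Coprime p) (c2 : (orderOf β).Coprime p)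
    (e : ∀ x ∈ U, α x = β x) : α * β⁻¹ ∈ AutBy (centralizerIn U U) P := by
  have hI := nrm_inv hE
  have hUS := hU.le.trans hI.le
  have hPS := hP.trans (normalizerIn_le _ _)
  have hPN := hP.trans (normalizerIn_le_normalizer _ _)
  obtain ⟨b1, b2, b3, b4⟩ := mem_lg.1 hβ
  have hPC : P ≤ Subgroup.normalizer ((centralizerIn S U : Subgroup Ω) : Set Ω) := fun g hg =>
    normalizer_centralizerIn (S.le_normalizer (hPS hg)) (hPN hg)
  obtain ⟨γ, g1, g2, g3, g4⟩ := xg_extend hS hF hUS (autF_le_xg hS hF hE U hU b4) (orderOf_rs_coprime b3 c2)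
    (C := P ⊔ centralizerIn S U) (sup_le hP (centralizerIn_le_normalizerIn _ _)) fun c hc => by
      obtain ⟨x, hx, y, hy, rfl⟩ := (mem_sup_of_normalizes hPC).1 hc
      rw [(homOn_cr U).map_mul (hPN hx) (centralizer_le_normalizer' U hy.2),
        (cr_eq_one_iff (centralizer_le_normalizer' U hy.2)).2 hy.2, mul_one]
      exact comm_inn_of_triv hUP hPN (homOn_of_mem_autF b1) b3 b2 hx
  rw [sup_eq_right.2 (hUP.trans le_sup_left)] at g1 g4
  have hWS : P ⊔ centralizerIn S U ≤ S := sup_le hPS (centralizerIn_le _ _)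
  have g5 : Maps U U γ := b3.congr fun x hx => ((g3 x hx).trans (rs_apply b3 hx)).symm
  have g6 : γ ∈ LG E F U (P ⊔ centralizerIn S U) := mem_lg.2 ⟨g1, g4, g5, by rwa [rs_eq_of_mem_autF b4 g3]⟩
  have g7 := lg_iso hWS hUP le_sup_left g6
  have g8 := rs_mem_lg hWS hUP le_sup_left g6
  have hZ : centralizerIn U U ≤ normalizerIn P P := fun z hz => ⟨hUP hz.1, P.le_normalizer (hUP hz.1)⟩
  have nrm : ∀ a ∈ LG E F U P, a ∈ Subgroup.normalizer ((AutBy (centralizerIn U U) P : Subgroup (Perm Ω)) :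
      Set (Perm Ω)) := fun a ha => by
    obtain ⟨a1, -, a3, -⟩ := mem_lg.1 ha
    have a4 := homOn_of_mem_autF a1
    exact maps_cj_iff.1 (a4.maps_autBy ((centralizerIn_le _ _).trans hUP) le_rfl
      ((a4.mono hUP).maps_centralizerIn a3 le_rfl a3) (maps_of_mem_autF a1))
  have key : ∀ a ∈ LG E F U P, (orderOf a).Coprime p → (∀ x ∈ U, a x = β x) →
      a * (rs P γ)⁻¹ ∈ AutBy (centralizerIn U U) P := fun a ha hc ea => by
    have k1 := Subgroup.mul_mem _ ha (Subgroup.inv_mem _ g8)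
    have k2 : ∀ x ∈ U, (a * (rs P γ)⁻¹) x = x := fun x hx => by
      have := (mem_lg.1 g8).2.2.1.inv_mem hx
      rw [mul_ap, ea _ this, ← rs_apply b3 this, ← g3 _ this, ← rs_apply g7.2 (hUP this), ap_inv]
    have k3 := mem_autBy_of_chain hS hF hUP hK k1.1 k2 (mem_lg.1 k1).2.1
    obtain ⟨l, hl⟩ := isPGroup_iff_mem.1 (isPGroup_autBy (isPGroup_of_le hS (centralizerIn_le S U)) P) _ k3
    refine mem_of_comm_mod (nrm _ k1) (nrm _ g8) ?_ hl (orderOf_rs_coprime g7.2 g2) (by simpa using hc)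
    obtain ⟨s, hs, hsN, es⟩ := mem_autBy.1 k3
    have k4 : s ∈ P ⊔ centralizerIn S U := Subgroup.mem_sup_right hs
    have k5 := (iso_of_mem_autF hWS g1).1.mem_centralizerIn (hUP.trans le_sup_left) g5 k4 hs.2
    have k6 := (iso_of_mem_autF hWS g1).1.mem_normalizerIn le_sup_left g7.2 k4 hsN
    rw [← es, ← conj_congr g7.2 (maps_cr hsN) (fun x hx => cr_apply_of_not_mem _ hx)
      (fun x hx => (rs_apply g7.2 hx).symm), (homOn_of_mem_autF g1).conj_cr le_sup_left g7.2 k4 hsN,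
      ← (homOn_cr _).map_inv hsN, ← (homOn_cr _).map_mul k6.2 (Subgroup.inv_mem _ hsN)]
    exact cr_mem_autBy ⟨(inv_mul_mem_iff (centralizer_le_normalizer' U hs.2)).1 (g4 s k4),
      Subgroup.mul_mem _ k5.2 (Subgroup.inv_mem _ hs.2)⟩ (Subgroup.mul_mem _ k6.2 (Subgroup.inv_mem _ hsN))
  have := Subgroup.mul_mem _ (key α hα c1 e) (Subgroup.inv_mem _ (key β hβ c2 fun _ _ => rfl))
  convert this using 1; group

/-- two `p'`-lifts of the same automorphism differ by a central element -/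
theorem lg_unique (hS : IsPGroup p S) (hF : F.IsSaturated p) (hE : E.IsNormalIn F p) {U P : Subgroup Ω}
    (hU : TC F T U) (hUP : U ≤ P) (hP : P ≤ normalizerIn S U) {α β : Perm Ω}
    (hα : α ∈ LG E F U P) (hβ : β ∈ LG E F U P) (c1 : (orderOf α).Coprime p) (c2 : (orderOf β).Coprime p)
    (e : ∀ x ∈ U, α x = β x) : α * β⁻¹ ∈ AutBy (centralizerIn U U) P := by
  have hI := nrm_inv hE
  obtain ⟨P', σ, h1, h2⟩ := exists_pair F hUP (hP.trans (normalizerIn_le _ _))
  have h3 := h1.1.iso_of_le hUP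
  have h4 : img σ U ≤ P' := (h3.2.le_iff h1.2).1 hUP
  have h5 := lg_unique_aux hS hF hE (hU.of_iso hI.sc h3) h4
    (by rw [← h1.img_eq]; exact img_le_iff.2 fun g hg => h1.1.mem_normalizerIn hUP h3.2 hg (hP hg).2) h2
    (hI.conj_lg hU.le hUP h1 h3.2 hα) (hI.conj_lg hU.le hUP h1 h3.2 hβ) (orderOf_conj_coprime c1)
    (orderOf_conj_coprime c2) fun x hx => by simp only [mul_ap]; rw [e _ (h3.inv_mem hx)]
  refine (h1.hom.maps_autBy ((centralizerIn_le _ _).trans hUP) le_rfl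
    (h3.hom.maps_centralizerIn h3.2 le_rfl h3.2) h1.2 _).2 ?_
  convert h5 using 1
  rw [cj_apply]; group

/-- `p'`-lifts lie in every saturated subsystem in which the restriction is normal -/
theorem mem_autF_of_lg (hS : IsPGroup p S) (hF : F.IsSaturated p) (hE : E.IsNormalIn F p) {R T' : Subgroup Ω}
    {D : FusionSystem R} {E' : FusionSystem T'} (hsub : D.IsSubsystemOf F) (hE' : E'.IsNormalIn D p)
    (hEE : E'.IsSubsystemOf E) {U P : Subgroup Ω} (hU : TC F T U) (hU' : U ≤ T') (hUP : U ≤ P)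
    (hP : P ≤ normalizerIn R U) {β : Perm Ω} (hβ : β ∈ LG E F U P) (hc : (orderOf β).Coprime p)
    (h : rs U β ∈ AutF E' U) : β ∈ AutF D P := by
  have hR := le_of_isSubsystemOf hsub
  haveI := finite_of_le hR
  have hp := isPGroup_of_le hS hR
  obtain ⟨b1, b2, b3, b4⟩ := mem_lg.1 hβ
  have hPR := hP.trans (normalizerIn_le _ _)
  have h1 : TC D T' U := ⟨hU', fun U' σ hσ =>
    (centralizerIn_mono (le_of_isSubsystemOf hEE) le_rfl).trans (hU.2 U' σ (hσ.of_sub hsub))⟩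
  obtain ⟨γ, g1, g2, g3, g4⟩ := xg_extend hp (nrm_sat' hE') (hUP.trans hPR) (autF_le_xg hp (nrm_sat' hE') hE' U h1 h)
    (orderOf_rs_coprime b3 hc) hP fun c hc' => comm_inn_of_triv hUP (hP.trans (normalizerIn_le_normalizer _ _))
      (homOn_of_mem_autF b1) b3 b2 hc'
  rw [sup_eq_right.2 hUP] at g1 g4
  have g5 : Maps U U γ := b3.congr fun x hx => ((g3 x hx).trans (rs_apply b3 hx)).symm
  have g6 := lg_unique hS hF hE hU hUP (hP.trans (normalizerIn_mono hR U)) hβ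
    (mem_lg.2 ⟨autF_mono hsub hPR g1, g4, g5, by rwa [rs_eq_of_mem_autF b4 g3]⟩) hc g2
    fun x hx => ((g3 x hx).trans (rs_apply b3 hx)).symm
  have := Subgroup.mul_mem _ (autBy_le_autF D hPR (((centralizerIn_le _ _).trans hUP).trans hPR) g6) g1
  simpa using this

/-- the product of a normal subsystem of a constrained system with a subgroup -/
theorem exists_prod_constrained (hS : IsPGroup p S) (hF : F.IsConstrained p) (hE : E.IsNormalIn F p) {R : Subgroup Ω}
    (hTR : T ≤ R) (hR : R ≤ S) :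
    ∃ D : FusionSystem R, D.IsSaturated p ∧ D.IsSubsystemOf F ∧ E.HasPPowerIndexIn D p := by
  obtain ⟨G, _, _, S', hS', θ, hG, h⟩ := exists_model' hS hF
  have hT := nrm_le hE
  haveI := finite_of_le hT
  haveI := finite_of_le hR
  obtain ⟨E', h1⟩ := exists_fIso E (h.hom.mono hT) (h.2.mono hT) rfl
  obtain ⟨H, -, h2, h3, rfl, -⟩ := exists_normal_model hS' hG (h.normalIn hS h1.1 hE)
  obtain ⟨η, a1, a2, -, a3, -⟩ := h.exists_inv
  have hR' : img θ R ≤ S' := h.1.img_le hR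
  have h4 := SylIn.sup_normal h3 (isPGroup_of_le hS'.isPGroup hR') (img_mono θ hTR) (le_top.trans h2)
  obtain ⟨D, h5⟩ := exists_fIso (fusionSystemOfSubgroup _ _ h4.le) (a1.hom.mono hR') (a1.2.mono hR') (a3 R hR)
  have h6 : OUp p (img θ R ⊔ H) ≤ H := oUp_le_of_pow_mem fun x hx => by
    obtain ⟨a, ha, b, hb, rfl⟩ := (mem_sup_of_normalizes (le_top.trans h2)).1 hx
    obtain ⟨k, hk⟩ := isPGroup_iff_mem.1 h4.isPGroup a ha
    haveI : H.Normal := Subgroup.normalizer_eq_top_iff.1 (top_le_iff.1 h2)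
    refine ⟨k, (QuotientGroup.eq_one_iff _).1 ?_⟩
    rw [QuotientGroup.mk_pow, QuotientGroup.mk_mul_of_mem a hb, ← QuotientGroup.mk_pow, hk, QuotientGroup.mk_one]
  refine ⟨D, h5.1.saturated h4.isPGroup (saturated_ofSubgroup h4), h5.1.sub_of a1.1.fHom
    (isSubsystemOf_iff.2 fun P f hf => ?_), h5.pPowerIndex (h1.inv_fIso fun x hx => a2 x (hT hx)).1
    (pPowerIndex_ofSubgroup h4 le_sup_right h6 (img_mono θ hTR) h3.le ?_)⟩
  · obtain ⟨b1, b2, g, -, e⟩ := mor_ofSubgroup_iff.1 hf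
    exact mor_ofSubgroup_iff.2 ⟨b1.trans hR', fun x hx => hR' (b2 x hx), g, trivial, e⟩
  · exact (h3.eq_of_le (isPGroup_of_le h4.isPGroup inf_le_left) inf_le_right
      (le_inf (img_mono θ hTR) h3.le)).le.trans' (inf_le_inf_left _ h6)

end H14.Fus
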