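/-
Towards the product of a normal subsystem with a `p`-group: local products.
-/
import Cfsg.Agent.H14.ES1

set_option autoImplicit false
set_option linter.unusedVariables false
set_option linter.unusedSectionVars false
set_option linter.style.haveILetI false
open Cfsg Cfsg.FusionSystem Equiv H13

namespace H14.Fus
universe u

variable {Ω : Type u} [Group Ω] {p : ℕ} [Fact p.Prime]
variable {S T : Subgroup Ω} [Finite S] {F : FusionSystem S} {E : FusionSystem T}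

/-- `O^p(E)` is normal in `F` -/
theorem pResidual_normalIn (hS : IsPGroup p S) (hF : F.IsSaturated p) (hE : E.IsNormalIn F p)
    {D : FusionSystem (E.hyperfocalSubgroup p)} (h : E.IsPResidual p D) : D.IsNormalIn F p := by
  have hT := nrm_le hE
  haveI := finite_of_le hT
  have hI := inv_pResidual hS (nrm_inv hE) (nrm_sat hE) h
  have h0 := H13.hyp_le E p
  haveI := finite_of_le h0
  refine normalIn_iff.2 ⟨h.1, hF, hI, extCond_of_coprime (isPGroup_of_le hS hI.le) hI.le h.1 fun α hα hc => ?_⟩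
  obtain ⟨β, b1, b2, b3, b4, b5⟩ := exists_lift_nc hS hF hE h0
    (wc_fc (wc_of_sc hI.sc)) (autF_mono (pPowerIndex_iff.1 h.2).1 le_rfl hα) hc
  have a1 : E.hyperfocalSubgroup p ⊔ centralizerIn S (E.hyperfocalSubgroup p) ≤ S :=
    sup_le hI.le (centralizerIn_le _ _)
  have a2 : E.hyperfocalSubgroup p ⊔ centralizerIn T (E.hyperfocalSubgroup p) ≤ T :=
    sup_le h0 (centralizerIn_le _ _)
  have a3 := sup_le_sup_left (centralizerIn_mono hT (le_refl (E.hyperfocalSubgroup p))) (E.hyperfocalSubgroup p)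
  have a4 := iso_of_triv b5 le_rfl fun x hx => b4 x (a3 hx)
  have a5 := triv_step hS a1 a3 (sup_cent_le_normalizer _ _) b1 b2 b4 fun x hx => by
    have := mem_hyp' a2 a4.rs_mem (orderOf_rs_coprime a4.2 b2) hx
    rwa [rs_apply a4.2 hx] at this
  exact mem_extGrp.2 ⟨maps_of_mem_autF hα, β, (iso_of_mem_autF a1 b1).1, b3, fun c hc => a5 c (Subgroup.mem_sup_right hc)⟩

theorem lg_of_pPowerIndex (hT : F.StronglyClosed T) {R T' : Subgroup Ω} {D : FusionSystem R} {E' : FusionSystem T'}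
    (hsub : D.IsSubsystemOf F) (hEE : E'.IsSubsystemOf E) (h : E'.HasPPowerIndexIn D p) (hT' : R ⊓ T ≤ T')
    {V : Subgroup Ω} (hV : V ≤ R) {α : Perm Ω} (hα : α ∈ AutF D V) (hc : (orderOf α).Coprime p) :
    α ∈ LG E F (V ⊓ T) V ∧ rs (V ⊓ T) α ∈ AutF E' (V ⊓ T) := by
  haveI := finite_of_le (le_of_isSubsystemOf hsub)
  obtain ⟨-, h2, h3⟩ := pPowerIndex_iff.1 h
  have h4 := sc_maps_inf hT ((iso_of_mem_autF hV hα).of_sub hsub)
  have h5 : V ⊓ T ≤ T' := (inf_le_inf_right T hV).trans hT'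
  have h6 := h3 _ h5 _ (rs_mem_autF inf_le_left hV hα h4) (orderOf_rs_coprime h4 hc)
  exact ⟨mem_lg.2 ⟨autF_mono hsub hV hα, fun x hx => ⟨V.mul_mem (V.inv_mem hx) ((maps_of_mem_autF hα).mem hx),
    le_of_isSubsystemOf hEE (h2 (mem_hyp' hV hα hc hx))⟩, h4, autF_mono hEE h5 h6⟩, h6⟩

theorem le_normalizerIn_inf (hT : F.StronglyClosed T) {R P : Subgroup Ω} (hR : R ≤ S) :
    normalizerIn R P ≤ normalizerIn R (P ⊓ T) := fun g hg =>
  ⟨hg.1, normalizer_inf hg.2 (sc_le_normalizer hT (hR hg.1))⟩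

/-- uniqueness of products -/
theorem prod_sub (hS : IsPGroup p S) (hF : F.IsSaturated p) (hE : E.IsNormalIn F p) {R₁ R₂ : Subgroup Ω}
    {D₁ : FusionSystem R₁} {D₂ : FusionSystem R₂} (s₁ : D₁.IsSaturated p) (s₂ : D₂.IsSaturated p)
    (h₁ : D₁.IsSubsystemOf F) (h₂ : D₂.IsSubsystemOf F) (i₁ : E.HasPPowerIndexIn D₁ p)
    (i₂ : E.HasPPowerIndexIn D₂ p) (h : R₁ ≤ R₂) : D₁.IsSubsystemOf D₂ := by
  have hI := nrm_inv hE
  have a1 := le_of_isSubsystemOf h₁
  have a2 := le_of_isSubsystemOf h₂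
  haveI := finite_of_le a1
  haveI := finite_of_le a2
  have p1 := isPGroup_of_le hS a1
  have c1 := sc_of_sub' h₁ hI.sc (le_of_isSubsystemOf i₁.1)
  have n1 := normalIn_of_pPowerIndex p1 s₁ c1 (nrm_sat hE) i₁
  have n2 := normalIn_of_pPowerIndex (isPGroup_of_le hS a2) s₂ (sc_of_sub' h₂ hI.sc (le_of_isSubsystemOf i₂.1))
    (nrm_sat hE) i₂
  refine sub_of_coprime p1 s₁ h fun V b1 b2 _ α hα hc => ?_
  obtain ⟨b3, b4⟩ := lg_of_pPowerIndex hI.sc h₁ (isSubsystemOf_refl E) i₁ inf_le_right b1.1 hα hc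
  have b5 := (tc_iff_centric hI).2 ((tc_iff_centric (nrm_inv n1)).1 (tc_of_cr p1 s₁ c1 b1 b2))
  exact (iso_of_mem_autF (b1.1.trans h) (mem_autF_of_lg hS hF hE h₂ n2 (isSubsystemOf_refl E) b5 inf_le_right
    inf_le_left ((le_normalizerIn (b1.1.trans h)).trans (le_normalizerIn_inf hI.sc a2)) b3 hc b4)).1

theorem exists_ext_cent (hS : IsPGroup p S) (hF : F.IsSaturated p) (hE : E.IsNormalIn F p) {U W : Subgroup Ω}
    (hU : TC F T U) (hUW : U ≤ W) (hW : W ≤ normalizerIn T U) {α : Perm Ω} (hα : α ∈ AutF E W)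
    (hc : (orderOf α).Coprime p) (hm : Maps U U α) : ∃ γ ∈ AutF F (W ⊔ centralizerIn S U), (orderOf γ).Coprime p ∧
      (∀ x ∈ W, γ x = α x) ∧ ∀ x ∈ W ⊔ centralizerIn S U, x⁻¹ * γ x ∈ W := by
  have hI := nrm_inv hE
  haveI := finite_of_le hI.le
  have hWT := hW.trans (normalizerIn_le _ _)
  haveI := finite_of_le hWT
  have h1 := cent_le_normalizer (sc_le_normalizer hI.sc) ((hU.cent hI.le).trans hUW) hW
  refine xg_extend hS hF (hWT.trans hI.le) (autF_le_xg hS hF hE W (hU.mono hUW hWT) hα) hc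
    (fun c hc => ⟨hc.1, h1 hc⟩) fun c hc => ?_
  have h2 : α * cr W c * α⁻¹ * (cr W c)⁻¹ ∈ AutF E W := by
    have := Subgroup.mul_mem _ hα (conj_mem_of_normalizer
      (hI.autF_normal hWT (cr_mem_autF F (hWT.trans hI.le) hc.1 (h1 hc))) (Subgroup.inv_mem _ hα))
    convert this using 1; group
  obtain ⟨z, hz, e⟩ := exists_center_of_fix (isPGroup_of_le hS hI.le) (nrm_sat hE) hUW
    (hW.trans (normalizerIn_le_normalizer _ _)) ((tc_iff_centric hI).1 hU) (iso_of_mem_autF hWT h2)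
    (comm_fix hUW hm hc.2 (h1 hc))
  have h3 := W.le_normalizer (hUW hz.1)
  rw [perm_ext_on (fix_of_mem_autF h2) (fun x hx => cr_apply_of_not_mem z hx)
    fun x hx => (e x hx).trans (cr_apply h3 hx).symm]
  exact cr_mem_autBy (hUW hz.1) h3

theorem sc_normalizerIn (hT : F.StronglyClosed T) {U R : Subgroup Ω} {D : FusionSystem R} (hsub : D.IsSubsystemOf F)
    (h1 : normalizerIn T U ≤ R) (h2 : R ≤ normalizerIn S U) : D.StronglyClosed (normalizerIn T U) :=
  stronglyClosed_iff_fun.2 ⟨h1, fun P f hf x hx hx' => ⟨sc_mem hT (hf.of_sub hsub) hx hx'.1, (h2 (hf.mem hx)).2⟩⟩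

theorem Inv.nsys_conj (hI : Inv E F) {U U' Q : Subgroup Ω} (hU : U ≤ T) {N : FusionSystem (normalizerIn T U)}
    (hN : E.IsNormalizerSystem U N) {N' : FusionSystem (normalizerIn T U')} (hN' : E.IsNormalizerSystem U' N')
    (hQ : Q ≤ T) (hUQ : U ≤ Q) {ψ : Perm Ω} (hψ : Mor F Q ψ) (hm : Maps U U' ψ) {P : Subgroup Ω} {σ : Perm Ω}
    (hσ : Mor N P σ) (h1 : P ≤ Q) (h2 : ∀ x ∈ P, σ x ∈ Q) : Mor N' (img ψ P) (ψ * σ * ψ⁻¹ : Perm Ω) := by
  haveI := finite_of_le hI.le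
  obtain ⟨a1, ρ, a2, a3, a4⟩ := (mor_normalizer_iff hN).1 hσ
  have b0 := (hψ.hom.mono h1).maps_img
  have b1 : P ⊔ U ≤ Q := sup_le h1 hUQ
  have b2 := (hψ.hom.mono b1).maps_sup b0 hm
  have b3 : img ρ (P ⊔ U) ≤ Q := by
    rw [a2.hom.img_sup, a4.img_eq]
    exact sup_le (img_le_iff.2 fun x hx => (a3 x hx).symm ▸ h2 x hx) hUQ
  refine (mor_normalizer_iff hN').2 ⟨img_le_iff.2 fun x hx =>
    sc_mem_normalizerIn hI.sc hψ hUQ hm (h1 hx) (a1 hx), ψ * ρ * ψ⁻¹,
    (hI.conj_iso a2.iso hQ b1 b3 hψ b2 (hψ.hom.mono b3).maps_img).1, fun x hx => ?_, (hm.mul a4).mul hm.inv⟩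
  rw [mul_ap, mul_ap, mul_ap, mul_ap, a3 _ (b0.inv_mem hx)]

theorem Inv.nsys (hS : IsPGroup p S) (hI : Inv E F) {U R : Subgroup Ω} (hU : U ≤ T) {N : FusionSystem (normalizerIn T U)}
    (hN : E.IsNormalizerSystem U N) {D : FusionSystem R} (hD : D.IsSaturated p) (hsub : D.IsSubsystemOf F)
    (h1 : N.IsSubsystemOf D) (h2 : D.IsNormal U) : Inv N D := by
  have hR := le_of_isSubsystemOf hsub
  haveI := finite_of_le hR
  haveI := finite_of_le hI.le
  haveI := finite_of_le (normalizerIn_le T U)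
  refine inv_of_strong (isPGroup_of_le hS hR) hD h1 (sc_normalizerIn hI.sc hsub (le_of_isSubsystemOf h1)
    fun g hg => ⟨hR hg, normal_le_normalizer h2 hg⟩) fun P Q f ψ a1 a2 a3 a4 a5 => ?_
  obtain ⟨σ, b1, b2⟩ := a1.exists_perm
  obtain ⟨τ, b3, b4, b5⟩ := normal_extend h2 a5
  have b6 := hI.nsys_conj hU hN hN (sup_le (a2.trans (normalizerIn_le _ _)) hU) le_sup_right (b3.of_sub hsub) b5 b1
    (a3.trans le_sup_left) fun x hx => Subgroup.mem_sup_left ((b2 x hx).symm ▸ a4 x hx)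
  rw [img_congr fun x hx => b4 x (a3 hx)] at b6
  refine b6.congr fun y hy => ?_
  obtain ⟨x, hx, rfl⟩ := (a5.hom.mono a3).mem_img.1 hy
  rw [inv_ap, mul_ap, mul_ap, ← b4 x (a3 hx), inv_ap, b2 x hx, b4 _ (a4 x hx)]

/-- the local product at a fully normalized subgroup -/
theorem exists_local_fn (hS : IsPGroup p S) (hF : F.IsSaturated p) (hE : E.IsNormalIn F p) {U R : Subgroup Ω}
    (hU : TC F T U) (hn : F.IsFullyNormalized U) {N : FusionSystem (normalizerIn T U)}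
    (hN : E.IsNormalizerSystem U N) (h1 : normalizerIn T U ≤ R) (h2 : R ≤ normalizerIn S U) :
    ∃ D : FusionSystem R, D.IsSaturated p ∧ D.IsSubsystemOf F ∧ N.HasPPowerIndexIn D p := by
  have hI := nrm_inv hE
  haveI := finite_of_le hI.le
  haveI := finite_of_le (normalizerIn_le T U)
  haveI := finite_of_le (normalizerIn_le S U)
  have hT := isPGroup_of_le hS hI.le
  have hS₁ := isPGroup_of_le hS (normalizerIn_le S U)
  have sN := saturated_normalizer hT (nrm_sat hE) (sub_fullyNormalized hS hF hI.sc hI.sub hU.le hn) hN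
  have hN₁ := isNormalizerSystem_nsys F U hn.1
  have s₁ := saturated_nsys hS hF hn
  have u₁ := H13.normalizerSystem_sub hN₁
  have hV : U ⊔ centralizerIn S U ≤ normalizerIn S U :=
    sup_le (le_normalizerIn hn.1) (centralizerIn_le_normalizerIn _ _)
  have hVN : normalizerIn S U ≤ normalizerIn (normalizerIn S U) (U ⊔ centralizerIn S U) := fun g hg =>
    ⟨hg, normalizer_sup_cent (S.le_normalizer hg.1) hg.2⟩
  have hN₂ := isNormalizerSystem_nsys (Nsys F U hn.1) _ hV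
  have u₂ := H13.normalizerSystem_sub hN₂
  have hVc := centric_sup_centralizerIn (fullyCentralized_of_fullyNormalized hS hF hn)
  have c₂ := normalizer_constrained hS₁ s₁ (fullyNormalized_of_normal hV fun g hg => (hVN hg).2)
    (centric_iff.2 ⟨hV, fun Q σ hσ => (centralizerIn_mono (normalizerIn_le _ _) le_rfl).trans
      ((centric_iff.1 hVc).2 Q σ (hσ.of_sub u₁))⟩) hN₂
  haveI := finite_of_le (normalizerIn_le (normalizerIn S U) (U ⊔ centralizerIn S U))
  have hTS : normalizerIn T U ≤ normalizerIn S U := normalizerIn_mono hI.le U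
  have key : ∀ W, U ≤ W → W ≤ normalizerIn T U → ∀ α ∈ AutF N W, (orderOf α).Coprime p →
      ∃ γ : Perm Ω, Mor (Nsys _ _ hV) (W ⊔ centralizerIn S U) γ ∧ (∀ x ∈ W, γ x = α x) ∧
        ∀ x ∈ W ⊔ centralizerIn S U, x⁻¹ * γ x ∈ W := fun W a1 a2 α a3 a4 => by
    have a5 := sc_maps (sc_of_normal (normal_normalizerSystem hU.le hN)) (iso_of_mem_autF a2 a3).1 a1
    obtain ⟨γ, b1, b2, b3, b4⟩ := exists_ext_cent hS hF hE hU a1 a2
      (autF_mono (H13.normalizerSystem_sub hN) a2 a3) a4 a5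
    have b5 : W ⊔ centralizerIn S U ≤ normalizerIn S U := sup_le (a2.trans hTS) (centralizerIn_le_normalizerIn _ _)
    have b6 := iso_of_mem_autF (b5.trans (normalizerIn_le _ _)) b1
    have b7 : Maps U U γ := a5.congr fun x hx => (b3 x (a1 hx)).symm
    have b8 := maps_sup_centralizerIn (b6.1.restrict (sup_le_sup_right a1 _)) b7
    exact ⟨γ, mor_normalizer_of_le hN₂ (sup_le_sup_right a1 _) (b5.trans hVN)
      (mor_normalizer_of_le hN₁ (a1.trans le_sup_left) b5 b6.1 b7) b8.2.2, b3, b4⟩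
  have hsub : N.IsSubsystemOf (Nsys _ _ hV) := sub_of_coprime (isPGroup_of_le hT (normalizerIn_le _ _)) sN
    (hTS.trans hVN) fun W a1 a2 _ α a3 a4 => by
      obtain ⟨γ, b1, b2, -⟩ := key W (le_of_normal_of_cr (isPGroup_of_le hT (normalizerIn_le _ _))
        (normal_normalizerSystem hU.le hN) a1 a2) a1.1 α a3 a4
      exact (b1.restrict le_sup_left).congr b2
  have hU₂ := normal_inf_sub hS₁ s₁ (normalizerIn_le _ _) c₂.1 u₂ (normal_normalizerSystem hn.1 hN₁)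
  rw [inf_eq_left.2 ((le_normalizerIn hn.1).trans hVN)] at hU₂
  have hnrm : N.IsNormalIn (Nsys _ _ hV) p := normalIn_iff.2 ⟨sN, c₂.1,
    hI.nsys hS hU.le hN c₂.1 (isSubsystemOf_trans u₂ u₁) hsub hU₂,
    extCond_of_coprime (isPGroup_of_le hT (normalizerIn_le _ _)) (hTS.trans hVN) sN fun α a1 a2 => by
      obtain ⟨γ, b1, b2, b3⟩ := key _ (le_normalizerIn hU.le) le_rfl α a1 a2
      have b4 := centralizerIn_mono ((normalizerIn_le (normalizerIn S U) (U ⊔ centralizerIn S U)).trans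
        (normalizerIn_le _ _)) (le_normalizerIn hU.le)
      exact mem_extGrp.2 ⟨maps_of_mem_autF a1, γ, b1.restrict (sup_le_sup_left b4 _), b2,
        fun c hc => b3 c (Subgroup.mem_sup_right (b4 hc))⟩⟩
  obtain ⟨D, d1, d2, d3⟩ := exists_prod_constrained (isPGroup_of_le hS₁ (normalizerIn_le _ _)) c₂ hnrm h1 (h2.trans hVN)
  exact ⟨D, d1, isSubsystemOf_trans d2 (isSubsystemOf_trans u₂ u₁), d3⟩

theorem Inv.maps_normalizerIn (hI : Inv E F) {U U' R : Subgroup Ω} (hn : E.IsFullyNormalized U) {χ : Perm Ω}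
    (hχ : Mor F R χ) (hR : normalizerIn T U ≤ R) (hm : Maps U U' χ) :
    Maps (normalizerIn T U) (normalizerIn T U') χ := by
  haveI := finite_of_le hI.le
  haveI := finite_of_le (normalizerIn_le T U')
  have h1 := (le_normalizerIn hn.1).trans hR
  have h2 : Iso F U U' χ := ⟨hχ.restrict h1, hm⟩
  obtain ⟨α, h3, h4⟩ := hI.frat_iso h2 hn.1
  have h5 := sc_iso_le hI.sc h2 hn.1
  refine (hχ.hom.mono hR).maps_of_card (fun g hg => sc_mem_normalizerIn hI.sc hχ h1 hm (hR hg) hg) ?_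
  rw [(h3.inv.hom.maps_normalizerIn h3.inv.2 h5 (h3.inv.hom.mono h5).maps_img).card_eq]
  exact (fullyNormalized_iff.1 hn).2 _ _ h4

theorem exists_pullback {R R' : Subgroup Ω} {χ : Perm Ω} (hχ : Iso F R R' χ) {D' : FusionSystem R'}
    (h : D'.IsSubsystemOf F) : ∃ D : FusionSystem R, D.IsSubsystemOf F ∧ FIso D' D (χ⁻¹ : Perm Ω) := by
  haveI := finite_of_le hχ.le'
  haveI := finite_of_le hχ.le
  obtain ⟨D, h1⟩ := exists_fIso D' hχ.inv.hom (χ⁻¹).injective.injOn hχ.inv.img_eq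
  refine ⟨D, isSubsystemOf_iff.2 fun P f hf => ?_, h1⟩
  obtain ⟨g, a1, a2⟩ := h1.1.up P f hf
  have a3 : ∀ x ∈ P, χ x ∈ pre R' (χ⁻¹ : Perm Ω) P := fun x hx =>
    hχ.inv.hom.mem_pre.2 ⟨hχ.mem (hf.le hx), by rwa [inv_ap]⟩
  refine ((hχ.inv.1.comp (a1.of_sub h) fun x hx => a1.mem hx).comp (hχ.1.restrict hf.le) a3).congr fun x hx => ?_
  rw [← a2 _ (a3 x hx), inv_ap]

/-- the local product -/
theorem exists_local (hS : IsPGroup p S) (hF : F.IsSaturated p) (hE : E.IsNormalIn F p) {U R : Subgroup Ω}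
    (hU : TC F T U) (hn : E.IsFullyNormalized U) {N : FusionSystem (normalizerIn T U)}
    (hN : E.IsNormalizerSystem U N) (h1 : normalizerIn T U ≤ R) (h2 : R ≤ normalizerIn S U) :
    ∃ D : FusionSystem R, D.IsSaturated p ∧ D.IsSubsystemOf F ∧ N.HasPPowerIndexIn D p ∧ N.IsNormalIn D p ∧
      D.IsNormal U := by
  have hI := nrm_inv hE
  haveI := finite_of_le hI.le
  haveI := finite_of_le (normalizerIn_le T U)
  have hRS := h2.trans (normalizerIn_le _ _)
  haveI := finite_of_le hRS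
  have hR := isPGroup_of_le hS hRS
  obtain ⟨U', χ, a1, a2, a3⟩ := exists_mor_normalizer' hS hF (hU.le.trans hI.le)
  have hU' := hU.of_iso hI.sc a3
  have a4 := hI.maps_normalizerIn hn a2 (h1.trans h2) a3.2
  have a5 := a2.iso_of_le h2
  have hN' := isNormalizerSystem_nsys E U' hU'.le
  obtain ⟨D', b1, b2, b3⟩ := exists_local_fn hS hF hE hU' a1 hN' ((a4.le_iff a5.2).1 h1)
    (img_le_iff.2 fun g hg => a2.mem_normalizerIn (le_normalizerIn a3.le) a3.2 (h2 hg) (h2 hg).2)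
  obtain ⟨D, c1, c2⟩ := exists_pullback a5 b2
  haveI := finite_of_le a5.le'
  haveI := finite_of_le (normalizerIn_le T U')
  have a6 : Iso F _ _ χ := ⟨a2.restrict (h1.trans h2), a4⟩
  have c3 : FIso (Nsys E U' hU'.le) N (χ⁻¹ : Perm Ω) := fIso_of_conj a6.inv.hom a6.inv.2
    (fun P σ hσ => hI.nsys_conj hU'.le hN' hN (normalizerIn_le _ _) (le_normalizerIn hU'.le) a6.inv.1 a3.2.inv hσ hσ.le
      fun x hx => hσ.mem hx) fun P σ hσ => by
    simpa only [inv_inv] using hI.nsys_conj hU.le hN hN' (normalizerIn_le _ _) (le_normalizerIn hU.le) a6.1 a3.2 hσ hσ.le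
      fun x hx => hσ.mem hx
  have c4 := c2.1.saturated (isPGroup_of_le hS a5.le') b1
  have c5 := c2.pPowerIndex c3.1 b3
  have c6 := normalIn_of_pPowerIndex hR c4 (sc_normalizerIn hI.sc c1 h1 h2)
    (saturated_normalizer (isPGroup_of_le hS hI.le) (nrm_sat hE) hn hN) c5
  have c7 := normal_normalizerSystem hU.le hN
  refine ⟨D, c4, c1, c5, c6, (nrm_inv c6).normal_of_invariant hR c4 c7 fun α hα => ?_⟩
  haveI := finite_autF_of_le D h1
  obtain ⟨r, hr, n, hn', e⟩ := (sylIn_of_fullyNormalized hR c4 (fullyNormalized_of_normal h1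
    (sc_le_normalizer (nrm_inv c6).sc))).exists_mul_oUp hα.rs_mem
  have d1 : n ∈ stab U := oUp_le_iff.2 (fun β hβ hc => sc_maps (sc_of_normal c7) (iso_of_mem_autF le_rfl
    ((pPowerIndex_iff.1 c5).2.2 _ le_rfl β hβ hc)).1 (le_normalizerIn hU.le)) hn'
  obtain ⟨g, g1, g2, rfl⟩ := mem_autBy.1 hr
  have d2 : Maps U U (cr (normalizerIn T U) g) :=
    (maps_cj_iff.2 (h2 g1).2).congr fun x hx => (cr_apply g2 (le_normalizerIn hU.le hx)).symm
  have d3 := d2.mul d1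
  rw [e] at d3
  exact d3.congr fun x hx => rs_apply hα.2 (le_normalizerIn hU.le hx)

end H14.Fus
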