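/-
The product of a normal subsystem with a `p`-group: definition and the Frattini factorization.
-/
import Cfsg.Agent.H14.ES2

set_option autoImplicit false
set_option linter.unusedVariables false
set_option linter.unusedSectionVars false
set_option linter.style.haveILetI false
open Cfsg Cfsg.FusionSystem Equiv H13

namespace H14.Fus
universe u

variable {Ω : Type u} [Group Ω] {p : ℕ} [Fact p.Prime]
variable {S T : Subgroup Ω} [Finite S] {F : FusionSystem S} {E : FusionSystem T}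

theorem gen_conj' {M : Subgroup Ω → Perm Ω → Prop} {γ : Perm Ω} (hγ : HomOn S γ) {S' : Subgroup Ω}
    {D : FusionSystem S'} (hm : ∀ x ∈ S, γ x ∈ S')
    (h : ∀ (P : Subgroup Ω) (σ : Perm Ω), M P σ → Mor (Gen S M) P σ → Mor D (img γ P) (γ * σ * γ⁻¹ : Perm Ω)) :
    ∀ (P : Subgroup Ω) (σ : Perm Ω), Mor (Gen S M) P σ → Mor D (img γ P) (γ * σ * γ⁻¹ : Perm Ω) := by
  refine gen_induction ?_ ?_ ?_ ?_ h
  · intro P R σ τ h1 h2 h3 e
    refine (h2.restrict (img_mono _ h3)).congr fun y hy => ?_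
    rw [mul_ap, mul_ap, mul_ap, mul_ap, e _ ((hγ.mono (h3.trans h1.le)).maps_img.inv_mem hy)]
  · intro P Q R σ τ h1 _ c1 c2
    have := c2.mul c1 fun y hy => by
      rw [mul_ap, mul_ap]
      exact mem_img_of_mem _ (h1.mem ((hγ.mono h1.le).maps_img.inv_mem hy))
    convert this using 2
    group
  · intro P Q σ h1 c1
    have h2 : Iso D (img γ P) (img γ Q) (γ * σ * γ⁻¹) :=
      ⟨c1, ((hγ.mono h1.le').maps_img.mul h1.2).mul (hγ.mono h1.le).maps_img.inv⟩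
    convert h2.inv.1 using 2
    group
  · intro s hs
    refine (mor_cj _ (img_le_iff.2 hm) (hm s hs)).congr fun y hy => ?_
    rw [mul_ap, mul_ap, cj_apply, cj_apply, hγ.map_conj hs (hγ.maps_img.inv_mem hy), ap_inv]

theorem alperin_perm (hS : IsPGroup p S) (hF : F.IsSaturated p) {C : Subgroup Ω → Perm Ω → Prop}
    (res : ∀ (P R : Subgroup Ω) (σ τ : Perm Ω), Mor F R τ → C R τ → P ≤ R → (∀ x ∈ P, τ x = σ x) → C P σ)
    (mul : ∀ P Q R σ τ, Iso F P Q σ → Iso F Q R τ → C P σ → C Q τ → C P (τ * σ))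
    (inv : ∀ P Q σ, Iso F P Q σ → C P σ → C Q σ⁻¹)
    (base : ∀ U, F.IsFullyNormalized U → F.IsCentric U → F.IsRadical p U →
      (∀ (R : Subgroup Ω) (τ : Perm Ω), Nat.card U < Nat.card R → Mor F R τ → C R τ) → ∀ α, Iso F U U α → C U α) :
    ∀ (P : Subgroup Ω) (σ : Perm Ω), Mor F P σ → C P σ := fun P σ hσ => by
  refine sc_induction hS hF (sc_top F) (fun P R σ τ _ => res P R σ τ) (fun P Q R σ τ _ => mul P Q R σ τ)
    (fun P Q σ _ => inv P Q σ) (fun U _ hn ih α hα => ?_) P hσ.le σ hσ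
  have key : (∃ (R : Subgroup Ω) (τ : Perm Ω), U < R ∧ Mor F R τ ∧ ∀ x ∈ U, τ x = α x) → C U α :=
    fun ⟨R, τ, h1, h2, h3⟩ => by
      haveI := h2.finite
      exact res _ _ _ _ h2 (ih R τ h2.le (card_lt_of_lt h1) h2) h1.le h3
  by_cases hc : F.IsCentric U
  · by_cases hr : F.IsRadical p U
    · exact base U hn hc hr (fun R τ h1 h2 => ih R τ h2.le h1 h2) α hα
    · exact key (extend_of_not_radical hS hF hn hr hα)
  · exact key (extend_of_not_centric hS hF (fn_fc hS hF hn) hc hα)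

/-- generators of the product system -/
def PM (E : FusionSystem T) (F : FusionSystem S) (p : ℕ) (P : Subgroup Ω) (β : Perm Ω) : Prop :=
  TC F T (P ⊓ T) ∧ β ∈ LG E F (P ⊓ T) P ∧ (orderOf β).Coprime p

/-- the product system -/
def PD (E : FusionSystem T) (F : FusionSystem S) (p : ℕ) (Q : Subgroup Ω) : FusionSystem Q := Gen Q (PM E F p)

theorem PM.mem {P Q : Subgroup Ω} {β : Perm Ω} (h : PM E F p P β) (hP : P ≤ Q) : β ∈ AutF (PD E F p Q) P :=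
  have h1 := (mem_lg.1 h.2.1).1
  (mem_autF hP).2 ⟨⟨mor_gen h (mor_univ_perm (homOn_of_mem_autF h1) hP fun x hx => hP ((maps_of_mem_autF h1).mem hx)),
    maps_of_mem_autF h1⟩, fix_of_mem_autF h1⟩

theorem PM.mor {P Q : Subgroup Ω} {β : Perm Ω} (h : PM E F p P β) (hP : P ≤ Q) : Mor (PD E F p Q) P β :=
  (iso_of_mem_autF hP (h.mem hP)).1

theorem pd_sub {Q : Subgroup Ω} (hQ : Q ≤ S) : (PD E F p Q).IsSubsystemOf F :=
  gen_le hQ fun P β h h' => (iso_of_mem_autF (h'.le.trans hQ) (mem_lg.1 h.2.1).1).1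

theorem pd_mono {Q Q' : Subgroup Ω} (h : Q ≤ Q') : (PD E F p Q).IsSubsystemOf (PD E F p Q') :=
  gen_le h fun P β h1 h2 => h1.mor (h2.le.trans h)

theorem pd_le {Q : Subgroup Ω} (hQ : Q ≤ T) : (PD E F p Q).IsSubsystemOf E :=
  gen_le hQ fun P β h h' => by
    obtain ⟨a1, -, a3, a4⟩ := mem_lg.1 h.2.1
    have e : P ⊓ T = P := inf_eq_left.2 (h'.le.trans hQ)
    rw [e] at a3 a4
    exact (iso_of_mem_autF (h'.le.trans hQ) a4).1.congr fun x hx => rs_apply a3 hx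

theorem sub_pd (hS : IsPGroup p S) (hT : F.StronglyClosed T) {R T' Q : Subgroup Ω} {D : FusionSystem R}
    {E' : FusionSystem T'} (hD : D.IsSaturated p) (hsub : D.IsSubsystemOf F) (hEE : E'.IsSubsystemOf E)
    (h : E'.HasPPowerIndexIn D p) (hT' : R ⊓ T ≤ T') (hRQ : R ≤ Q)
    (hc : ∀ V, D.IsCentric V → D.IsRadical p V → TC F T (V ⊓ T)) : D.IsSubsystemOf (PD E F p Q) := by
  have hR := le_of_isSubsystemOf hsub
  haveI := finite_of_le hR
  exact sub_of_coprime (isPGroup_of_le hS hR) hD hRQ fun V a1 a2 _ α a3 a4 =>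
    PM.mor ⟨hc V a1 a2, (lg_of_pPowerIndex hT hsub hEE h hT' a1.1 a3 a4).1, a4⟩ (a1.1.trans hRQ)

theorem le_pd (hS : IsPGroup p S) (hI : Inv E F) (hE : E.IsSaturated p) {Q : Subgroup Ω} (hQ : T ≤ Q) :
    E.IsSubsystemOf (PD E F p Q) := by
  haveI := finite_of_le hI.le
  exact sub_pd hS hI.sc hE hI.sub (isSubsystemOf_refl E) (pPowerIndex_self E p) inf_le_right hQ fun V a1 _ => by
    rw [inf_eq_left.2 a1.1]; exact (tc_iff_centric hI).2 a1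

theorem PM.conj (hI : Inv E F) {P P' : Subgroup Ω} {β ν : Perm Ω} (h : PM E F p P β) (hν : Iso F P P' ν) :
    PM E F p P' (ν * β * ν⁻¹) :=
  have h1 := sc_maps_inf hI.sc hν
  ⟨h.1.of_iso hI.sc (hν.restrict inf_le_left h1), hI.conj_lg inf_le_right inf_le_left hν h1 h.2.1,
    orderOf_conj_coprime h.2.2⟩

theorem pd_conj (hI : Inv E F) {Q Q' P : Subgroup Ω} {ν σ : Perm Ω} (hν : Mor F Q ν) (hm : ∀ x ∈ Q, ν x ∈ Q')
    (hσ : Mor (PD E F p Q) P σ) : Mor (PD E F p Q') (img ν P) (ν * σ * ν⁻¹ : Perm Ω) := by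
  haveI := hν.finite
  exact gen_conj' hν.hom hm (fun P β h h' => (h.conj hI (hν.iso_of_le h'.le)).mor
    (img_le_iff.2 fun x hx => hm x (h'.le hx))) P σ hσ

/-- maps of the product system which are trivial modulo `T` -/
structure Sp (E : FusionSystem T) (F : FusionSystem S) (p : ℕ) (P : Subgroup Ω) (σ : Perm Ω) : Prop where
  le : P ≤ S
  mor : Mor (PD E F p (P ⊔ T)) P σ
  triv : ∀ x ∈ P, x⁻¹ * σ x ∈ T

theorem Sp.congr {P : Subgroup Ω} {σ τ : Perm Ω} (h : Sp E F p P σ) (e : ∀ x ∈ P, σ x = τ x) : Sp E F p P τ :=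
  ⟨h.le, h.mor.congr e, fun x hx => e x hx ▸ h.triv x hx⟩

theorem sp_one {P : Subgroup Ω} (hP : P ≤ S) : Sp E F p P 1 :=
  ⟨hP, mor_one _ le_sup_left, fun x _ => by simp⟩

theorem Sp.sup_eq {P : Subgroup Ω} {σ : Perm Ω} (h : Sp E F p P σ) : img σ P ⊔ T = P ⊔ T :=
  le_antisymm (sup_le h.mor.img_le le_sup_right) (sup_le (fun x hx => by
    have := Subgroup.mul_mem _ (Subgroup.mem_sup_left (T := T) (mem_img_of_mem σ hx))
      (Subgroup.mem_sup_right (T.inv_mem (h.triv x hx)))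
    simpa using this) le_sup_right)

/-- Frattini factorization data -/
def SpF (E : FusionSystem T) (F : FusionSystem S) (p : ℕ) (P : Subgroup Ω) (ν ψ : Perm Ω) : Prop :=
  Mor F (P ⊔ T) ν ∧ Sp E F p P (ν⁻¹ * ψ)

theorem Sp.conj (hI : Inv E F) {P P' : Subgroup Ω} {σ ν : Perm Ω} (h : Sp E F p P σ) (hν : Mor F (P ⊔ T) ν)
    (hm : Maps P P' ν) : Sp E F p P' (ν * σ * ν⁻¹) := by
  have h1 := hν.hom.maps_sup hm (sc_maps hI.sc hν le_sup_right)
  refine ⟨fun x hx => by simpa using hν.mem (h1.inv_mem (Subgroup.mem_sup_left hx)),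
    hm.img_eq ▸ pd_conj hI hν (fun x hx => hm.img_eq.symm ▸ h1.mem hx) h.mor, fun x hx => ?_⟩
  have h2 := hm.inv_mem hx
  have h3 := h.triv _ h2
  have := sc_mem hI.sc hν (Subgroup.mem_sup_right h3) h3
  rwa [hν.hom.map_mul (Subgroup.mem_sup_left (P.inv_mem h2)) (h.mor.mem h2),
    hν.hom.map_inv (Subgroup.mem_sup_left h2), ap_inv] at this

theorem Sp.mul {P P' : Subgroup Ω} {σ τ : Perm Ω} (h' : Sp E F p P' τ) (h : Sp E F p P σ) (hm : Maps P P' σ) :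
    Sp E F p P (τ * σ) := by
  refine ⟨h.le, (h'.mor.of_sub (pd_mono ?_)).mul h.mor fun x hx => hm.mem hx, fun x hx => ?_⟩
  · rw [← hm.img_eq, h.sup_eq]
  · have := T.mul_mem (h.triv x hx) (h'.triv _ (hm.mem hx))
    simpa using this

theorem Sp.inv (hT : T ≤ S) {P P' : Subgroup Ω} {σ : Perm Ω} (h : Sp E F p P σ) (hm : Maps P P' σ) :
    Sp E F p P' σ⁻¹ := by
  have h1 : Iso (PD E F p (P ⊔ T)) P P' σ := ⟨h.mor, hm⟩
  refine ⟨h1.le'.trans (sup_le h.le hT), h1.inv.1.of_sub (pd_mono ?_), fun x hx => ?_⟩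
  · rw [← hm.img_eq, h.sup_eq]
  · have := T.inv_mem (h.triv _ (hm.inv_mem hx))
    simpa using this

theorem SpF.iso (hI : Inv E F) {P P' : Subgroup Ω} {ν ψ : Perm Ω} (h : SpF E F p P ν ψ) (hm : Maps P P' ψ) :
    Iso F (P ⊔ T) (P' ⊔ T) ν ∧ Maps (img (ν⁻¹ * ψ : Perm Ω) P) P' ν := by
  have h1 : Maps (img (ν⁻¹ * ψ : Perm Ω) P) P' ν := by
    simpa using hm.mul h.2.mor.hom.maps_img.inv
  have h2 := h.1
  rw [← h.2.sup_eq] at h2
  have h3 := h2.hom.maps_sup h1 (sc_maps hI.sc h2 le_sup_right)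
  rw [h.2.sup_eq] at h3
  exact ⟨⟨h.1, h3⟩, h1⟩

theorem SpF.mul (hI : Inv E F) {P P' : Subgroup Ω} {ν ψ ν' ψ' : Perm Ω} (h' : SpF E F p P' ν' ψ')
    (h : SpF E F p P ν ψ) (hm : Maps P P' ψ) : SpF E F p P (ν' * ν) (ψ' * ψ) := by
  obtain ⟨h1, h2⟩ := h.iso hI hm
  refine ⟨h'.1.mul h.1 fun x hx => h1.mem hx, ?_⟩
  have := (h'.2.conj hI h1.inv.1 h2.inv).mul h.2 h.2.mor.hom.maps_img
  convert this using 1; group

theorem SpF.inv (hI : Inv E F) {P P' : Subgroup Ω} {ν ψ : Perm Ω} (h : SpF E F p P ν ψ) (hm : Maps P P' ψ) :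
    SpF E F p P' ν⁻¹ ψ⁻¹ := by
  obtain ⟨h1, h2⟩ := h.iso hI hm
  refine ⟨h1.inv.1, ?_⟩
  have := (h.2.inv hI.le h.2.mor.hom.maps_img).conj hI (h.1.restrict h.2.sup_eq.le) h2
  convert this using 1; group

theorem SpF.congr {P : Subgroup Ω} {ν ψ ψ' : Perm Ω} (h : SpF E F p P ν ψ) (e : ∀ x ∈ P, ψ x = ψ' x) :
    SpF E F p P ν ψ' :=
  ⟨h.1, h.2.congr fun x hx => by rw [mul_ap, mul_ap, e x hx]⟩

theorem Sp.spF (hT : T ≤ S) {P : Subgroup Ω} {σ : Perm Ω} (h : Sp E F p P σ) : SpF E F p P 1 σ :=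
  ⟨mor_one F (sup_le h.le hT), by simpa using h⟩

theorem PM.sp {P P' : Subgroup Ω} {β : Perm Ω} (h : PM E F p P β) (hP : P ≤ S) (hP' : P' ≤ P) : Sp E F p P' β := by
  have h1 : P' ⊔ P ⊓ T ≤ P := sup_le hP' inf_le_left
  have h2 : (P' ⊔ P ⊓ T) ⊓ T = P ⊓ T :=
    le_antisymm (inf_le_inf_right T h1) (le_inf le_sup_right inf_le_right)
  have h3 := lg_iso hP le_sup_right h1 h.2.1
  have h4 : PM E F p (P' ⊔ P ⊓ T) (rs (P' ⊔ P ⊓ T) β) :=
    ⟨h2.symm ▸ h.1, h2.symm ▸ rs_mem_lg hP le_sup_right h1 h.2.1, orderOf_rs_coprime h3.2 h.2.2⟩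
  exact ⟨hP'.trans hP, ((h4.mor (sup_le_sup_left inf_le_right _)).restrict le_sup_left).congr
    fun x hx => rs_apply h3.2 (Subgroup.mem_sup_left hx), fun x hx => ((mem_lg.1 h.2.1).2.1 x (hP' hx)).2⟩

theorem pd_factor (hI : Inv E F) {Q : Subgroup Ω} (hQ : Q ≤ S) {P : Subgroup Ω} {σ : Perm Ω}
    (hσ : Mor (PD E F p Q) P σ) : ∀ P', P' ≤ P → ∃ x ∈ Q, SpF E F p P' (cj x) σ := by
  haveI := finite_of_le hQ
  refine gen_induction (C := fun P σ => ∀ P', P' ≤ P → ∃ x ∈ Q, SpF E F p P' (cj x) σ) ?_ ?_ ?_ ?_ ?_ P σ hσ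
  · intro P R σ τ h1 h2 h3 e P' h4
    obtain ⟨x, hx, h5⟩ := h2 P' (h4.trans h3)
    exact ⟨x, hx, h5.congr fun y hy => e y (h4 hy)⟩
  · intro P P₁ R σ τ h1 h2 c1 c2 P' h3
    have h4 := (h1.1.iso_of_le h3).2
    obtain ⟨x, hx, h5⟩ := c1 P' h3
    obtain ⟨y, hy, h6⟩ := c2 _ ((h4.le_iff h1.2).1 h3)
    exact ⟨y * x, Q.mul_mem hy hx, map_mul (cj (Ω := Ω)) y x ▸ h6.mul hI h5 h4⟩
  · intro P P₁ σ h1 c1 P' h3
    have h4 := (h1.inv.1.iso_of_le h3).2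
    obtain ⟨x, hx, h5⟩ := c1 _ ((h4.le_iff h1.inv.2).1 h3)
    exact ⟨x⁻¹, Q.inv_mem hx, map_inv (cj (Ω := Ω)) x ▸ h5.inv hI (by simpa using h4.inv)⟩
  · intro s hs P' h
    exact ⟨s, hs, mor_cj F (sup_le (h.trans hQ) hI.le) (hQ hs), by simpa using sp_one (h.trans hQ)⟩
  · intro P β h1 h2 P' h3
    exact ⟨1, Q.one_mem, map_one (cj (Ω := Ω)) ▸ (h1.sp (h2.le.trans hQ) h3).spF hI.le⟩

theorem SpF.restrict (hI : Inv E F) {P P' : Subgroup Ω} {ν ψ : Perm Ω} (h : SpF E F p P ν ψ) (hP : P' ≤ P) :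
    ∃ x ∈ P ⊔ T, SpF E F p P' (ν * cj x) ψ := by
  obtain ⟨x, hx, h1, h2⟩ := pd_factor hI h.1.le h.2.mor P' hP
  refine ⟨x, hx, h.1.mul h1 fun y hy => (maps_cj_self hx).mem (sup_le_sup_right hP T hy), ?_⟩
  convert h2 using 1; group

theorem sp_of_coprime (hS : IsPGroup p S) (hI : Inv E F) {Q P : Subgroup Ω} (hQ : Q ≤ S) (hP : P ≤ Q) {α : Perm Ω}
    (hα : α ∈ AutF (PD E F p Q) P) (hc : (orderOf α).Coprime p) : Sp E F p P α := by
  have h1 := iso_of_mem_autF hP hα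
  obtain ⟨x, hx, h2⟩ := pd_factor hI hQ h1.1 P le_rfl
  have key : ∀ n : ℕ, SpF E F p P (cj x ^ n) (α ^ n) := fun n => by
    induction n with
    | zero => simpa using (sp_one (hP.trans hQ)).spF hI.le
    | succ n ih => rw [pow_succ, pow_succ]; exact ih.mul hI h2 h1.2
  obtain ⟨k, hk⟩ := isPGroup_iff_mem.1 hS x (hQ hx)
  have h3 := (key (p ^ k)).2
  rw [← map_pow, hk, map_one, inv_one, one_mul] at h3
  have h4 : α ∈ AutF (PD E F p (P ⊔ T)) P ⊓ H13.trivMod P T := mem_of_pow_mem_of_coprime (hc.pow_right k)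
    ⟨(mem_autF le_sup_left).2 ⟨⟨h3.mor, h1.2.pow _⟩, fix_of_mem_autF (Subgroup.pow_mem _ hα _)⟩,
      H13.mem_trivMod.2 ⟨h1.2.pow _, h3.triv⟩⟩
  exact ⟨hP.trans hQ, (iso_of_mem_autF le_sup_left h4.1).1, (H13.mem_trivMod.1 h4.2).2⟩

theorem pd_pPowerIndex (hS : IsPGroup p S) (hI : Inv E F) (hE : E.IsSaturated p) {Q : Subgroup Ω} (hT : T ≤ Q)
    (hQ : Q ≤ S) : E.HasPPowerIndexIn (PD E F p Q) p := by
  haveI := finite_of_le hQ
  refine pPowerIndex_iff.2 ⟨le_pd hS hI hE hT, H13.hyp_le_iff'.2 fun P hP α hα hc =>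
    (sp_of_coprime hS hI hQ hP hα hc).triv, fun P hP α hα hc => ?_⟩
  exact (mem_autF hP).2 ⟨⟨(sp_of_coprime hS hI hQ (hP.trans hT) hα hc).mor.of_sub (pd_le (sup_le hP le_rfl)),
    maps_of_mem_autF hα⟩, fix_of_mem_autF hα⟩

theorem fn_local (hT : F.StronglyClosed T) {R R' P : Subgroup Ω} {D : FusionSystem R} {D' : FusionSystem R'} [Finite R]
    (h : D'.IsSubsystemOf D) (hP : D.IsFullyNormalized P) (h1 : normalizerIn R P ≤ R') : D'.IsFullyNormalized P := by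
  have h2 := le_of_isSubsystemOf h
  haveI := finite_of_le h2
  refine fullyNormalized_iff.2 ⟨(le_normalizerIn hP.1).trans h1, fun Q σ hσ => ?_⟩
  haveI := finite_of_le (normalizerIn_le R Q)
  haveI := finite_of_le (normalizerIn_le R' P)
  exact ((card_le_of_le (normalizerIn_mono h2 Q)).trans ((fullyNormalized_iff.1 hP).2 Q σ (hσ.of_sub h))).trans
    (card_le_of_le fun g hg => ⟨h1 hg, hg.2⟩)

theorem autBy_local {R R' P : Subgroup Ω} (h1 : normalizerIn R P ≤ R') : AutBy R P ≤ AutBy R' P :=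
  autBy_normalizerIn R P ▸ autBy_mono h1 P

theorem ff_base (hS : IsPGroup p S) (hF : F.IsSaturated p) (hE : E.IsNormalIn F p) {R : Subgroup Ω}
    (hn : F.IsFullyNormalized R) (hU : TC F T (R ⊓ T)) (hn' : F.IsFullyNormalized (R ⊓ T)) {α : Perm Ω}
    (hα : Iso F R R α) : ∃ n τ : Perm Ω, Sp E F p R n ∧ Maps R R n ∧ Mor F (R ⊔ normalizerIn T R) τ ∧
      ∀ x ∈ R, τ x = α (n x) := by
  have hI := nrm_inv hE
  haveI := finite_of_le hI.le
  haveI := finite_of_le (normalizerIn_le S (R ⊓ T))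
  haveI := finite_autF_of_le F hn.1
  have hN := isNormalizerSystem_nsys E _ hU.le
  obtain ⟨D, d1, d2, d3, d4, -⟩ := exists_local hS hF hE hU (sub_fullyNormalized hS hF hI.sc hI.sub hU.le hn') hN
    (normalizerIn_mono hI.le _) le_rfl
  have h1 : normalizerIn S R ≤ normalizerIn S (R ⊓ T) := le_normalizerIn_inf hI.sc le_rfl
  have h2 := (le_normalizerIn hn.1).trans h1
  have h3 : LG E F (R ⊓ T) R ≤ AutF F R := lg_le.trans inf_le_left
  have h4 : AutBy T R ≤ LG E F (R ⊓ T) R := fun β hβ => by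
    obtain ⟨t, t1, t2, rfl⟩ := mem_autBy.1 hβ
    have t3 := (h1 ⟨hI.le t1, t2⟩).2
    refine mem_lg.2 ⟨cr_mem_autF F hn.1 (hI.le t1) t2, fun x hx => ⟨R.mul_mem (R.inv_mem hx) ((maps_cr t2).mem hx), ?_⟩,
      (maps_cj_iff.2 t3).congr fun x hx => (cr_apply t2 hx.1).symm, ?_⟩
    · rw [cr_apply t2 hx, show x⁻¹ * (t * x * t⁻¹) = x⁻¹ * t * x⁻¹⁻¹ * t⁻¹ by group]
      exact T.mul_mem (sc_conj_mem hI.sc (S.inv_mem (hn.1 hx)) t1) (T.inv_mem t1)
    · rw [rs_cr inf_le_left t3 t2]; exact cr_mem_autF E hU.le t1 t3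
  obtain ⟨s1, s2⟩ := syl_sup_oUp hS hF hI.sc hn h3 (le_trans (le_inf le_rfl fun β hβ =>
    sc_maps_inf hI.sc (iso_of_mem_autF hn.1 hβ)) (lg_normal hI hU.le inf_le_left hn.1)) h4
    (le_trans (inf_le_inf (autBy_local h1) (oUp_le_iff.2 fun β hβ hc => mem_oUp_of_coprime
      (mem_autF_of_lg hS hF hE d2 d4 (H13.normalizerSystem_sub hN) hU (le_normalizerIn hU.le) inf_le_left
        (fun g hg => ⟨h2 hg, (h2 hg).2⟩) hβ hc ((autF_normalizerSystem hU.le hN).symm ▸ (mem_lg.1 hβ).2.2.2)) hc))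
      ((autBy_inf_oUp_le (isPGroup_of_le hS (normalizerIn_le _ _)) d1 d3.2.1 (fn_local hI.sc d2 hn h1)).trans
        (autBy_mono (normalizerIn_le _ _) R)))
  have h5 : AutBy T R ⊔ OUp p (LG E F (R ⊓ T) R) ≤ LG E F (R ⊓ T) R := sup_le h4 (oUp_le _ _)
  haveI := finite_of_le (h5.trans h3)
  obtain ⟨n, n1, n2⟩ := s1.frattini' (s2 hα.rs_mem)
  have n3 := iso_of_mem_autF hn.1 (h3 (h5 n1))
  obtain ⟨τ, a1, a2⟩ := receptive_extend_of_conj (fn_rec hS hF hn) (hα.rs.mul n3) (normalizerIn_mono hI.le R)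
    fun g hg => autBy_mono hI.le R (conj_mem_of_normalizer n2 (cr_mem_autBy hg.1 hg.2))
  have n4 : n ∈ AutF (PD E F p (R ⊔ T)) R := (sup_le (autBy_le_autF _ le_sup_left le_sup_right)
    (oUp_le_iff.2 fun β hβ hc => PM.mem ⟨hU, hβ, hc⟩ le_sup_left) : _ ≤ AutF (PD E F p (R ⊔ T)) R) n1
  exact ⟨n, τ, ⟨hn.1, (iso_of_mem_autF le_sup_left n4).1, fun x hx => ((mem_lg.1 (h5 n1)).2.1 x hx).2⟩, n3.2, a1,
    fun x hx => by rw [a2 x hx, mul_ap, rs_apply hα.2 (n3.mem hx)]⟩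

/-- the Frattini factorization -/
theorem exists_spF (hS : IsPGroup p S) (hF : F.IsSaturated p) (hE : E.IsNormalIn F p) {P : Subgroup Ω} {ψ : Perm Ω}
    (hψ : Mor F P ψ) : ∃ ν, SpF E F p P ν ψ := by
  have hI := nrm_inv hE
  have res : ∀ (P R : Subgroup Ω) (σ τ : Perm Ω), (∃ ν, SpF E F p R ν τ) → P ≤ R → (∀ x ∈ P, τ x = σ x) →
      ∃ ν, SpF E F p P ν σ := fun P R σ τ ⟨ν, h1⟩ h2 e => by
    obtain ⟨x, -, h3⟩ := h1.restrict hI h2
    exact ⟨_, h3.congr e⟩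
  refine alperin_perm hS hF (C := fun P ψ => ∃ ν, SpF E F p P ν ψ) (fun P R σ τ _ => res P R σ τ)
    (fun P Q R σ τ h1 _ ⟨ν, c1⟩ ⟨ν', c2⟩ => ⟨_, c2.mul hI c1 h1.2⟩) (fun P Q σ h1 ⟨ν, c1⟩ => ⟨_, c1.inv hI h1.2⟩)
    (fun R hn hc hr ih α hα => ?_) P ψ hψ
  by_cases hT : T ≤ R
  · exact ⟨α, hα.1.restrict (sup_le le_rfl hT), by simpa using sp_one hn.1⟩
  have hU := tc_of_cr hS hF hI.sc hc hr
  obtain ⟨U', χ, a1, a2, a3⟩ := exists_mor_normalizer' hS hF (hU.le.trans hI.le)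
  have h1 : normalizerIn S R ≤ normalizerIn S (R ⊓ T) := le_normalizerIn_inf hI.sc le_rfl
  have h2 := (H13.lt_normalizerIn hS le_rfl (lt_of_le_of_ne hn.1 fun e => hT (e ▸ hI.le))).trans_le h1
  have a4 := a2.iso_of_le h2.le
  have a5 := sc_maps_inf hI.sc a4
  obtain rfl := a3.2.eq_of_maps a5
  haveI := a2.finite
  obtain ⟨ν, c1⟩ := res _ _ χ χ (ih _ χ (card_lt_of_lt h2) a2) h2.le fun _ _ => rfl
  have a6 := (a4.mul hα).mul a4.inv
  obtain ⟨n, τ, b1, b2, b3, b4⟩ := ff_base hS hF hE (fullyNormalized_img hn (a2.restrict h1) a4.2).1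
    (hU.of_iso hI.sc a3) a1 a6
  haveI := b3.finite
  have h3 : ¬ normalizerIn T (img χ R) ≤ img χ R := fun h => by
    have h3 := le_of_normalizerIn_le hS a4.le' hI.le (a4.le'.trans (sc_le_normalizer hI.sc)) h
    exact hT (((sc_maps hI.sc a4.inv.1 h3).le_iff a4.inv.2).1 h3)
  obtain ⟨ν', c2⟩ := res _ _ (χ * α * χ⁻¹ * n) τ (ih _ τ (a4.card_eq ▸ card_lt_of_lt (left_lt_sup.2 h3)) b3)
    le_sup_left b4
  have := (c1.inv hI a4.2).mul hI ((c2.mul hI ((b1.inv hI.le b2).spF hI.le) b2.inv).mul hI c1 a4.2)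
    (((a6.2.mul b2).mul b2.inv).mul a4.2)
  exact ⟨_, this.congr fun x hx => by simp⟩

end H14.Fus
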