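/-
The product of a normal subsystem with a `p`-group: saturation.
-/
import Cfsg.Agent.H14.ES3

set_option autoImplicit false
set_option linter.unusedVariables false
set_option linter.unusedSectionVars false
set_option linter.style.haveILetI false
open Cfsg Cfsg.FusionSystem Equiv H13

namespace H14.Fus
universe u

variable {Ω : Type u} [Group Ω] {p : ℕ} [Fact p.Prime]
variable {S T : Subgroup Ω} [Finite S] {F : FusionSystem S} {E : FusionSystem T}

theorem hf_le_of_aut {M : Subgroup Ω → Perm Ω → Prop} {P₀ : Subgroup Ω} (hS : IsPGroup p S) (D : StepData F p M P₀)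
    (hP : F.IsFullyNormalized P₀) {K : Subgroup (Perm Ω)}
    (hK : ∀ Q α, P₀ < Q → Q ≤ normalizerIn S P₀ → FullyKAut F p Q (stab P₀) → α ∈ AutF F Q → Maps P₀ P₀ α →
      rs P₀ α ∈ K) : HF F P₀ ≤ K := by
  have key : ∀ Q, Q ≤ S → ∀ φ : Perm Ω, P₀ < Q → Q ≤ normalizerIn S P₀ → Mor F Q φ →
      Maps P₀ P₀ φ → rs P₀ φ ∈ K := by
    refine down_induction fun Q hQ ih2 φ h1 h2 h3 h4 => ?_
    have h5 := h3.iso
    have h6 : img φ Q ≤ normalizerIn S P₀ :=
      img_le_iff.2 fun g hg => h3.mem_normalizerIn h1.le h4 hg (h2 hg).2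
    have h7 : P₀ < img φ Q := (h4.lt_iff h5.2).1 h1
    obtain ⟨Q', σ, h8, h9, h10⟩ := D.exists_pair_inside hS hP h7.le h6
    have := finite_of_le hQ
    obtain ⟨h11, h12⟩ := ((D.good P₀ Q 1 (iso_one F hP.1) h1 hQ).of_iso (h8.mul h5)).aut_and_receptive hS h10
    have h13 : P₀ < Q' := (h9.lt_iff h8.2).1 h7
    have h14 : Q' ≤ normalizerIn S P₀ := by
      rw [← h8.img_eq]
      exact img_le_iff.2 fun g hg => h8.1.mem_normalizerIn h7.le h9 hg (h6 hg).2
    have key : ∀ (Y : Subgroup Ω) (ψ : Perm Ω), P₀ < Y → Y ≤ normalizerIn S P₀ →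
        Nat.card Y = Nat.card Q → Iso F Y Q' ψ → Maps P₀ P₀ ψ → rs P₀ ψ ∈ K := by
      intro Y ψ a1 a2 a3 a4 a5
      rcases a2.eq_or_lt with rfl | a6
      · have := finite_of_le (normalizerIn_le S P₀)
        obtain rfl : Q' = normalizerIn S P₀ := eq_of_le_of_card_le h14 a4.card_eq.le
        rw [← rs_rs_of_le a1.le a5 a4.2]
        exact hK _ _ a1 le_rfl h11 a4.rs_mem (a5.congr fun x hx => (rs_apply a4.2 (a1.le hx)).symm)
      obtain ⟨χ, hχ, τ, b1, b2, -, -⟩ := exists_extend_nk hS h11 h12 a4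
      rw [(maps_stab a5.inv).img_eq, nk_stab a1.le] at b1
      have a8 := H13.lt_normalizerIn hS (normalizerIn_le S P₀) a6
      rw [sup_eq_right.2 a8.le] at b1
      have := b1.finite
      have a9 : Maps P₀ P₀ (χ * ψ) := Maps.mul hχ.2 a5
      have a10 := ih2 _ b1.le (a3 ▸ card_lt_of_lt a8) τ (a1.trans a8) (normalizerIn_le _ _) b1
        (a9.congr fun x hx => (b2 x (a1.le hx)).symm)
      rw [← rs_congr a9 fun x hx => (b2 x (a1.le hx)).symm, rs_mul hχ.2 a5] at a10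
      have := K.mul_mem (K.inv_mem (hK Q' χ h13 h14 h11 hχ.1 hχ.2)) a10
      rwa [inv_mul_cancel_left] at this
    have := K.mul_mem (K.inv_mem (key _ σ h7 h6 h5.card_eq.symm h8 h9)) (key Q _ h1 h2 rfl (h8.mul h5) (h9.mul h4))
    rwa [rs_mul h9 h4, inv_mul_cancel_left] at this
  refine (Subgroup.closure_le _).2 fun α ⟨h1, R, τ, h2, h3, h4⟩ => ?_
  have h5 := (maps_of_mem_autF h1).congr fun x hx => (h4 x hx).symm
  have := key _ ((normalizerIn_le R P₀).trans h3.le) τ (H13.lt_normalizerIn hS h3.le h2)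
    (normalizerIn_mono h3.le P₀) (h3.restrict (normalizerIn_le _ _)) h5
  rwa [rs_congr h5 h4, rs_eq_self (maps_of_mem_autF h1) (fix_of_mem_autF h1)] at this

theorem autF_gen_top {M : Subgroup Ω → Perm Ω → Prop} {K : Subgroup (Perm Ω)} (h1 : AutBy S S ≤ K)
    (h2 : ∀ β, M S β → rs S β ∈ K) : AutF (Gen S M) S ≤ K := fun α hα => by
  have key := gen_induction (S := S) (M := M) (C := fun P σ => P = S → rs S σ ∈ K)
    (fun P R σ τ h1 h2 h3 e hP => by
      subst hP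
      obtain rfl := le_antisymm h3 h1.le
      rw [← rs_congr h1.iso_top.2 e]
      exact h2 rfl)
    (fun P Q R σ τ h1 h2 c1 c2 hP => by
      subst hP
      obtain rfl := h1.2.eq_of_maps h1.1.iso_top.2
      rw [rs_mul h2.1.iso_top.2 h1.2]
      exact Subgroup.mul_mem _ (c2 rfl) (c1 rfl))
    (fun P Q σ h1 c1 hQ => by
      subst hQ
      obtain rfl := h1.inv.2.eq_of_maps h1.inv.1.iso_top.2
      rw [rs_inv h1.2]
      exact Subgroup.inv_mem _ (c1 rfl))
    (fun s hs _ => h1 (cr_mem_autBy hs (Subgroup.le_normalizer hs)))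
    (fun P σ h _ hP => h2 σ (hP ▸ h))
  have := key S α (iso_of_mem_autF le_rfl hα).1 rfl
  rwa [rs_eq_self (maps_of_mem_autF hα) (fix_of_mem_autF hα)] at this

theorem Sp.mor_pd {P R : Subgroup Ω} {σ : Perm Ω} (h : Sp E F p P σ) (hP : P ≤ R) (hT : T ≤ R) :
    Mor (PD E F p R) P σ := h.mor.of_sub (pd_mono (sup_le hP hT))

theorem SpF.top (hI : Inv E F) {P : Subgroup Ω} {ν ψ : Perm Ω} (h : SpF E F p P ν ψ) : Iso F T T ν :=
  ⟨h.1.restrict le_sup_right, sc_maps hI.sc h.1 le_sup_right⟩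

theorem pd_choice (hS : IsPGroup p S) (hF : F.IsSaturated p) (hE : E.IsNormalIn F p) {R P : Subgroup Ω} (hT : T ≤ R)
    (hR : R ≤ S) (hP : P ≤ R) : ∃ P₀ σ, Iso (PD E F p R) P P₀ σ ∧ (PD E F p R).IsFullyNormalized P₀ ∧
      E.IsFullyNormalized (P₀ ⊓ T) := by
  have hI := nrm_inv hE
  haveI := finite_of_le hR
  haveI := finite_of_le hI.le
  obtain ⟨P₁, σ, h1, h2⟩ := exists_fullyNormalized (PD E F p R) hP
  obtain ⟨U', χ, a1, a2, a3⟩ := exists_mor_normalizer' hS hF (inf_le_right.trans hI.le : P₁ ⊓ T ≤ S)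
  obtain ⟨ν, c⟩ := exists_spF hS hF hE (a2.restrict (normalizerIn_mono hR _))
  have h3 := le_normalizerIn_inf (P := P₁) hI.sc hR
  have h4 := c.2.mor_pd (normalizerIn_le _ _) hT
  have h5 := h4.iso_of_le ((le_normalizerIn h2.1).trans h3)
  refine ⟨_, _, h5.mul h1, (fullyNormalized_img h2 (h4.restrict h3) h5.2).1, ?_⟩
  have h6 := (c.top hI).inv
  have h7 := sc_iso_le hI.sc a3 inf_le_right
  rw [← ((h6.hom.mono h7).maps_img.mul a3.2).eq_of_maps (sc_maps_inf hI.sc (h5.of_sub (pd_sub hR)))]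
  exact ((hI.fIso h6).fn_iff h7).2 (sub_fullyNormalized hS hF hI.sc hI.sub h7 a1)

theorem pd_good (hS : IsPGroup p S) (hF : F.IsSaturated p) (hE : E.IsNormalIn F p) {R : Subgroup Ω} (hT : T ≤ R)
    (hR : R ≤ S) : ∀ P, P ≤ R → TC F T (P ⊓ T) → Good (PD E F p R) p P := by
  have hI := nrm_inv hE
  haveI := finite_of_le hR
  haveI := finite_of_le hI.le
  have hp := isPGroup_of_le hS hR
  have tc : ∀ {P Q σ}, Iso (PD E F p R) P Q σ → TC F T (P ⊓ T) → TC F T (Q ⊓ T) := fun h h' =>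
    have h1 := h.of_sub (pd_sub hR)
    h'.of_iso hI.sc (h1.restrict inf_le_left (sc_maps_inf hI.sc h1))
  refine down_induction fun P hP ih hU => ?_
  obtain ⟨P₀, σ, h1, hn, hn'⟩ := pd_choice hS hF hE hT hR hP
  have hU₀ := tc h1 hU
  have hN := isNormalizerSystem_nsys E _ hU₀.le
  have uN := H13.normalizerSystem_sub hN
  obtain ⟨D, d1, d2, d3, d4, d5⟩ := exists_local hS hF hE hU₀ hn' hN (normalizerIn_mono hT _) (normalizerIn_mono hR _)
  haveI := finite_of_le (normalizerIn_le R (P₀ ⊓ T))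
  have hp' := isPGroup_of_le hp (normalizerIn_le R (P₀ ⊓ T))
  have d6 : D.IsSubsystemOf (PD E F p R) := sub_pd hS hI.sc d1 d2 uN d3 (fun g hg => ⟨hg.2, hg.1.2⟩)
    (normalizerIn_le _ _) fun V a1 a2 => hU₀.mono (le_inf (le_of_normal_of_cr hp' d5 a1 a2) hU₀.le) inf_le_right
  have h2 : normalizerIn R P₀ ≤ normalizerIn R (P₀ ⊓ T) := le_normalizerIn_inf hI.sc hR
  have h3 := (le_normalizerIn hn.1).trans h2
  have d7 := fn_local hI.sc d6 hn h2
  have lg : ∀ β ∈ LG E F (P₀ ⊓ T) P₀, (orderOf β).Coprime p → β ∈ AutF D P₀ := fun β hβ hc =>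
    mem_autF_of_lg hS hF hE d2 d4 uN hU₀ (le_normalizerIn hU₀.le) inf_le_left (fun g hg => ⟨h3 hg, (h3 hg).2⟩) hβ hc
      ((autF_normalizerSystem hU₀.le hN).symm ▸ (mem_lg.1 hβ).2.2.2)
  have pm : ∀ β, PM E F p P₀ β → rs P₀ β ∈ AutF D P₀ := fun β h => by
    have := (mem_lg.1 h.2.1).1
    rw [rs_eq_self (maps_of_mem_autF this) (fix_of_mem_autF this)]; exact lg β h.2.1 h.2.2
  have inn : AutBy R P₀ ≤ AutF D P₀ := (autBy_local h2).trans (autBy_le_autF D h3 le_rfl)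
  suffices h : AutF (PD E F p R) P₀ ≤ AutF D P₀ ∧ (PD E F p R).IsReceptive P₀ from
    ⟨P₀, σ, h1, fullyAutomized_iff.2 ⟨hn.1, by
      rw [le_antisymm h.1 (autF_mono d6 h3), le_antisymm (autBy_local h2) (autBy_mono (normalizerIn_le _ _) _)]
      exact sylIn_of_fullyNormalized hp' d1 d7⟩, h.2⟩
  rcases hn.1.eq_or_lt with rfl | hlt
  · refine ⟨autF_gen_top inn pm, receptive_iff.2 ⟨le_rfl, fun P τ hτ => ?_⟩⟩
    obtain rfl := eq_of_le_of_card_le hτ.le hτ.card_eq.ge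
    exact ⟨τ, hτ.1.restrict (nphi_le _ _ _), fun _ _ => rfl⟩
  have St : StepData (PD E F p R) p (PM E F p) P₀ :=
    ⟨gen_hgen _, fun P σ _ _ h => maps_of_mem_autF (mem_lg.1 h.2.1).1, hlt, fun P Q τ a1 a2 a3 => by
      haveI := finite_of_le a3
      exact ih Q a3 (by rw [h1.card_eq, a1.card_eq]; exact card_lt_of_lt a2)
        ((tc a1 hU₀).mono (inf_le_inf_right T a2.le) inf_le_right)⟩
  have h4 : AutF (PD E F p R) P₀ ≤ AutF D P₀ := by
    refine St.autF_le hp hn (hf_le_of_aut hp St hn fun Q α a1 a2 a3 a4 a5 => ?_)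
      fun P σ χ a1 a2 a3 => pm _ (a1.conj hI (a3.of_sub (pd_sub hR)))
    have a6 := a2.trans (normalizerIn_le _ _)
    haveI := finite_autF_of_le (PD E F p R) a6
    haveI := finite_of_le (inf_le_left : AutF (PD E F p R) Q ⊓ stab P₀ ≤ _)
    obtain ⟨r, hr, n, hn, rfl⟩ := SylIn.exists_mul_oUp a3 (⟨a4, a5⟩ : α ∈ AutF (PD E F p R) Q ⊓ stab P₀)
    have b1 : n ∈ Kres P₀ (AutF D P₀) := oUp_le_iff.2 (fun β hβ hc => by
      have b2 := rs_mem_autF a1.le a6 hβ.1 hβ.2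
      have b3 := orderOf_rs_coprime hβ.2 hc
      exact mem_kres.2 ⟨hβ.2, lg _ (lg_of_pPowerIndex hI.sc (pd_sub hR) (isSubsystemOf_refl E)
        (pd_pPowerIndex hS hI (nrm_sat hE) hT hR) inf_le_right (a1.le.trans a6) b2 b3).1 b3⟩) hn
    obtain ⟨g, g1, g2, rfl⟩ := mem_autBy.1 hr.1
    have g3 := normalizer_of_maps_cr a1.le g2 hr.2
    rw [rs_mul hr.2 (mem_kres.1 b1).1, rs_cr a1.le g3 g2]
    exact Subgroup.mul_mem _ (inn (cr_mem_autBy g1 g3)) (mem_kres.1 b1).2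
  refine ⟨h4, St.receptive hp hn fun α hα R' hR' h => ?_⟩
  obtain ⟨τ, a1, a2⟩ := receptive_extend_of_conj (fn_rec hp' d1 d7) (iso_of_mem_autF h3 (h4 hα))
    (fun g hg => ⟨h2 (hR' hg), (hR' hg).2⟩) fun g hg => autBy_local h2 (h g hg)
  exact ⟨τ, a1.of_sub d6, a2⟩

/-- the product system is saturated -/
theorem pd_saturated (hS : IsPGroup p S) (hF : F.IsSaturated p) (hE : E.IsNormalIn F p) {R : Subgroup Ω} (hT : T ≤ R)
    (hR : R ≤ S) : (PD E F p R).IsSaturated p := by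
  have hI := nrm_inv hE
  haveI := finite_of_le hR
  haveI := finite_of_le hI.le
  have hp := isPGroup_of_le hS hR
  refine saturated_of_family hp (H := fun P => TC F T (P ⊓ T)) (fun P h1 h2 => pd_good hS hF hE hT hR P h2 h1)
    (fun D hD => gen_hgen _ D fun P σ a1 a2 => hD P σ a1.1 a2) fun P hP hn => ?_
  by_contra hcon
  refine hn P 1 (iso_one _ hP.1) (tc_of_forall hS hF hI.sc (hP.1.trans hR) fun Q ψ hψ => ?_)
  obtain ⟨ν, c⟩ := exists_spF hS hF hE hψ.1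
  have h2 := (c.2.mor_pd hP.1 hT).iso
  have h3 := centralizerIn_inf_le_of_op hp (sc_of_sub' (pd_sub hR) hI.sc hT) h2.le'
    (H13.centric_le (centric_of_iso hP h2)) (by_contra fun h' => hcon ⟨_, _, h2, h'⟩)
  have h4 := (c.iso hI hψ.2).2.inf (c.top hI).2
  exact (((c.top hI).hom.maps_centralizerIn (c.top hI).2 inf_le_right h4).le_iff h4).1 h3

end H14.Fus
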