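import Mathlib

/-! An abstract commutation argument for three conjugate involutions. -/

set_option autoImplicit false

namespace H14.H11b

theorem abs {G : Type*} [Group G] {t u ui y k ki z h1 h2 h3 g1 g2 g3 : G} (t2 : t * t = 1)
    (y3 : y * y * y = 1) (hu : u * ui = 1) (hk : k * ki = 1)
    (c1 : Commute t h1) (c2 : Commute t h2) (c3 : Commute t h3)
    (d1 : Commute t g1) (d2 : Commute t g2) (d3 : Commute t g3)
    (e1 : u * k * ui = g1 * (u * y⁻¹ * ui) * h1) (e2 : u * y⁻¹ * k * ui = g2 * (u * y⁻¹ * ui) * h2)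
    (e3 : u * y * k * ui = g3 * (u * y⁻¹ * ui) * h3) (zz : z * z = 1)
    (tz : t * (u * z * ui) * t = u * z * ui)
    (nv : t * (u * ki * z * k * ui) * t ≠ u * ki * z * k * ui) : (y * (u⁻¹ * t * u)) ^ 3 ≠ z := by
  obtain rfl : ui = u⁻¹ := eq_inv_of_mul_eq_one_right hu
  obtain rfl : ki = k⁻¹ := eq_inv_of_mul_eq_one_right hk
  intro hc
  have ti : t⁻¹ = t := inv_eq_of_mul_eq_one_right t2
  have yy : y * y = y⁻¹ := eq_inv_of_mul_eq_one_left y3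
  have i2 : ∀ g : G, g⁻¹ * t * g * (g⁻¹ * t * g) = 1 := fun g => by
    calc g⁻¹ * t * g * (g⁻¹ * t * g) = g⁻¹ * (t * t) * g := by group
      _ = 1 := by rw [t2]; group
  have hz : (u * y⁻¹)⁻¹ * t * (u * y⁻¹) * ((u * y)⁻¹ * t * (u * y)) * (u⁻¹ * t * u) = z := by
    rw [← hc]
    calc (u * y⁻¹)⁻¹ * t * (u * y⁻¹) * ((u * y)⁻¹ * t * (u * y)) * (u⁻¹ * t * u)
        = y * (u⁻¹ * t * u) * (y * y)⁻¹ * (u⁻¹ * t * u) * y * (u⁻¹ * t * u) := by group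
      _ = _ := by rw [yy, inv_inv, pow_succ, pow_two]; group
  have a1 : u⁻¹ * t * u * z * (u⁻¹ * t * u) = z := by
    calc u⁻¹ * t * u * z * (u⁻¹ * t * u) = u⁻¹ * (t * (u * z * u⁻¹) * t) * u := by group
      _ = z := by rw [tz]; group
  have a2 : (u * y⁻¹)⁻¹ * t * (u * y⁻¹) * ((u * y)⁻¹ * t * (u * y)) = z * (u⁻¹ * t * u) := by
    rw [← hz, mul_assoc _ (u⁻¹ * t * u), i2, mul_one]
  have a3 : Commute ((u * y⁻¹)⁻¹ * t * (u * y⁻¹)) ((u * y)⁻¹ * t * (u * y)) := by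
    have ib := inv_eq_of_mul_eq_one_right (i2 (u * y⁻¹))
    have ic := inv_eq_of_mul_eq_one_right (i2 (u * y))
    have : z * (u⁻¹ * t * u) * (z * (u⁻¹ * t * u)) = 1 := by
      rw [mul_assoc, ← mul_assoc (u⁻¹ * t * u), a1, zz]
    rw [← a2] at this
    have := inv_eq_of_mul_eq_one_right this
    rw [mul_inv_rev, ib, ic] at this
    exact this.symm
  have a4 : Commute t ((u * y⁻¹ * u⁻¹)⁻¹ * t * (u * y⁻¹ * u⁻¹)) := by
    have := a3.conj (u * y⁻¹)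
    convert this using 1
    · group
    · symm
      calc u * y⁻¹ * ((u * y)⁻¹ * t * (u * y)) * (u * y⁻¹)⁻¹
          = u * (y * y)⁻¹ * u⁻¹ * t * u * (y * y) * u⁻¹ := by
            simp only [mul_inv_rev, inv_inv, mul_assoc]
        _ = _ := by rw [yy]; simp only [mul_inv_rev, inv_inv, mul_assoc]
  have key : ∀ {p g h : G}, Commute t h → Commute t g → p = g * (u * y⁻¹ * u⁻¹) * h →
      Commute t (p⁻¹ * t * p) := by
    intro p g h c d e
    have : p⁻¹ * t * p = h⁻¹ * ((u * y⁻¹ * u⁻¹)⁻¹ * t * (u * y⁻¹ * u⁻¹)) * h := by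
      rw [e]
      calc (g * (u * y⁻¹ * u⁻¹) * h)⁻¹ * t * (g * (u * y⁻¹ * u⁻¹) * h)
          = h⁻¹ * (u * y⁻¹ * u⁻¹)⁻¹ * g⁻¹ * (t * g) * (u * y⁻¹ * u⁻¹) * h := by group
        _ = _ := by rw [d.eq]; group
    rw [this]
    exact (c.inv_right.mul_right a4).mul_right c
  have := ((key c2 d2 e2).mul_right (key c3 d3 e3)).mul_right (key c1 d1 e1)
  apply nv
  have e : u * k⁻¹ * z * k * u⁻¹ = (u * y⁻¹ * k * u⁻¹)⁻¹ * t * (u * y⁻¹ * k * u⁻¹) *
      ((u * y * k * u⁻¹)⁻¹ * t * (u * y * k * u⁻¹)) * ((u * k * u⁻¹)⁻¹ * t * (u * k * u⁻¹)) := by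
    rw [← hz]; group
  rw [e, this.eq, mul_assoc, t2, mul_one]

end H14.H11b
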