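import Cfsg.Agent.H14.H11a
import Cfsg.Agent.H29.U1

/-! Exclusion of the central value in a relation of order three. -/

set_option autoImplicit false
set_option linter.style.longLine false

namespace H14.H11b
open Cfsg H7.J4 H29 H29.J4m H29.U Subgroup

variable {G : Type*} [Group G] {M : Model G} {x y e t : G}

def cw : ℕ := nat_lit 0xe5fe721e7ffffbc7ffbcffc33cffeffffafefddfefd6df3eebebbebefd3a7e7fffcffff6de3cffffffff100008e0c120102920c1141441417dfe739e7ff3e7f7ffbcc3ffff3c0196a0480006000d80009999000015f66898c1130c10010228288282eaf397673ee3f3ee3efd28d77d7dfb751fbffff8fffffffff0f0ffff013a6060000c0006c0003c3c000014acc8b0c1160c1481028d8d8282158b08a0c11b0c11c10227d8828203d41f24108a306029d30606c5c5edbbe8dacd578f1fc70edbdbb2b2fdcffe3fcf7c9fcfe7bffcf3fcf3026010c06006489008100909060651b01a8102a01020010227278d8dbd1bf2dfdf71d7aff66cf5f53939be1ae29bdff1d75fce6cf5fa3639584f105e0eb44a61fb8ede1bb41866d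3fdbe023963a9d43e81b2f96fc077165cf514573ef28a9a6ce1db1a90806072158ff6417f8ec0ff416a92ebbee74e460f7632632bbec560c76f5ddb3b42e9178ccacc00c5d9c67c1a5cca40173477d6eccefb02dfaf95da5dc98b6b586a721766d6966647029b17d6d881de11a0605cbbb129c6239653a1637a97088c9ab798652b94a1a73930537899185c525077e6512ab594d8a972dba51a750f4630ccb7000e3f5491bfb6cca5cff63f26330b8515b68c7c7a13788566b2dc88292682e4e88d7e7113dc97bdff04c56c2ec0c6cf5f86cf5a6f0020decb66d0ba64fd86a0ed73f9fea190c1a770bdc0c0bd59067201b38700cfc1f0c33ff3cc10c8d40e9e27947dbae62329f73ee3dd2957648c23b20a612e7e96f536a4c66c9819d35310030053d81dc9394c4beb98b4eb3970f98b8dcc24756720ce03bc9f2fbd2dc0a327cbeda9641afe1eac660fa66ab7b78377f1757dd0e456f0e8dd188e222c1bfd0d3558ee4a66452de74e2ecaa8d548137810bc55f72114847d99ea7d4257bd99a617f31e242e1bc915acfaf4700c4c0e1fe6738f4fc8388243b0753aab6a2ced7e48b43e33fa4bee057147b54cfc4190813dd34ccd1c1c09a95176605f95905089ddf40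4b43bb8ea08e93880fdb3f1733c9d3e9c3c46c1d2eeb848907be6670b1e132026f4da2f1f73478746e6283cbabd7c5dfff04ed72e6d662331092e3abb2656124296738f382476f98914a38ee40a88607d9cb2e2943cd3bdde515ea8268c170328f4488791c39ac44e81509670bbba3b475e57ea410a479cf27afab57ca66ea4b41a734d27a16985de834a9cca4faf6c21a39c6b62091205908fe53e80bcce671a5b480f969b3ddd1dd5abc513b26aad65f4d0154d531b5e67eceff2b09c17cec63c322b7bfed53509ffac6eccc1dd107a388381c69c2ed5290329696966fcd130cc1aa8b957f1a87a799e524a8ddac60357bdd0d5c05fe9de126e7deeb81c8951e02d7771b1b008325c2009c3095639af6d9133d51b0fa50cc7fa70b790751cd94cc80cc310c4d1ad3e6fcc7876ccfdc77837e01b97c8db9116b300c47b499d2ade66fcf12c1167eab58c89d5a1a6cf8afbcb66355ea4d18bc43a01f319b7e7d7dea8feb9e92c19d2cbd80e2954398fb8c5904ff8de2fc891126b1b2f3878fff5b8e139795ef3fec96730b4154dc6b959ac9b73dd1ba05f72bf0648de08a9a942af353a4dcd933c9a5ef605cce3002aea388d6b9431ba60c7401f7ebc4de04a148c3cc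19ceaa4770b8c8ef459b9eecb7493843c4a14ee14a00c34f5269805c66d92790a4c0d60659f7d654b38f76b9872fbb3c437bc44ba617ab3ee9cc429a5e7bb416eacb676410d886cd70a4c5ef264c333ebd939bc8fb0544308396d53d4e0993a4b18514506b112ba3c8c1b036114a3018ee477087456e8c86b8f096055b2c0437a20fa9880606b2895b59a03c38921daf66a846704ccb6670692492cdef7f5b02ad6feeff4068ac76928ac069a7c93936da0285fdcbabb17fb996ead45d232acc6f785ecf3728aa78a2e8fbee3c897dd4afd8345ca519fe85f070946866b458f263ca30c850ab8ce6974d162107ffd071ac2a71dbf6bc3d06b5a59fea48807f6551b16777233d6bef2c704a230b9429ff5a112a0db2a24a1845fe6e95eb387dee998aef73406bec454acef7b729c765a6bdf77a46381ff5176cd66b810192bbce72871384291a39ee9bffd1243154d49141a35281ca1f49252e996953f86f2be953b0897c91960473a6db348de5121abb98e984fecb1ac66174f4d5bbc549c4fd5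
def wu : Ex := (.m (.m (.m (.m (.m (.m (.m (.v 1) (.v 0)) (.v 2)) (.v 0)) (.v 1)) (.v 0)) (.v 2)) (.v 0))
def wui : Ex := (.m (.m (.m (.m (.m (.m (.m (.v 0) (.v 1)) (.v 0)) (.v 2)) (.v 0)) (.v 1)) (.v 0)) (.v 2))
def wk : Ex := (.m (.m (.m (.m (.m (.m (.m (.m (.m (.m (.v 0) (.v 1)) (.v 0)) (.v 2)) (.v 0)) (.v 1)) (.v 0)) (.v 2)) (.v 0)) (.v 2)) (.v 0))
def wki : Ex := (.m (.m (.m (.m (.m (.m (.m (.m (.m (.m (.v 0) (.v 1)) (.v 0)) (.v 1)) (.v 0)) (.v 2)) (.v 0)) (.v 1)) (.v 0)) (.v 2)) (.v 0))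
def g1 : Ex := (.m (.m (.m (.m (.m (.m (.m (.m (.m (.m (.m (.m (.m (.m (.m (.m (.m (.m (.m (.m (.m (.m (.m (.m (.m (.m (.v 0) (.v 4)) (.v 0)) (.v 4)) (.v 4)) (.v 4)) (.v 0)) (.v 4)) (.v 0)) (.v 4)) (.v 0)) (.v 4)) (.v 4)) (.v 0)) (.v 4)) (.v 4)) (.v 4)) (.v 0)) (.v 4)) (.v 0)) (.v 4)) (.v 0)) (.v 4)) (.v 4)) (.v 0)) (.v 4)) (.v 4))
def h1 : Ex := (.m (.m (.m (.m (.m (.m (.v 0) (.v 4)) (.v 0)) (.v 4)) (.v 0)) (.v 4)) (.v 4))
def g2 : Ex := (.m (.m (.m (.m (.m (.m (.m (.m (.m (.m (.m (.m (.m (.m (.m (.m (.m (.m (.m (.m (.m (.m (.v 0) (.v 4)) (.v 4)) (.v 0)) (.v 4)) (.v 0)) (.v 4)) (.v 4)) (.v 0)) (.v 4)) (.v 0)) (.v 4)) (.v 4)) (.v 0)) (.v 4)) (.v 0)) (.v 4)) (.v 4)) (.v 4)) (.v 0)) (.v 4)) (.v 4)) (.v 0))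
def h2 : Ex := (.m (.m (.m (.m (.m (.v 4) (.v 4)) (.v 0)) (.v 4)) (.v 0)) (.v 4))
def g3 : Ex := (.m (.m (.m (.m (.m (.m (.m (.m (.m (.m (.m (.m (.m (.m (.m (.m (.m (.m (.m (.m (.m (.v 0) (.v 4)) (.v 0)) (.v 4)) (.v 4)) (.v 0)) (.v 4)) (.v 0)) (.v 4)) (.v 4)) (.v 0)) (.v 4)) (.v 0)) (.v 4)) (.v 0)) (.v 4)) (.v 0)) (.v 4)) (.v 4)) (.v 0)) (.v 4)) (.v 4))
def h3 : Ex := (.m (.m (.m (.m (.m (.m (.v 0) (.v 4)) (.v 4)) (.v 0)) (.v 4)) (.v 4)) (.v 4))

/-- words in the letters `0` and `4` -/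
def xa : Ex → Bool
  | .v i => i == 0 || i == 4
  | .m a b => xa a && xa b
  | .p a _ => xa a

theorem cxa {a z : G} (hx : Commute t x) (ha : Commute t a) (w : Ex) (h : xa w = true) :
    Commute t (w.g [x, y, y⁻¹, e, a, z]) := by
  induction w with
  | v i =>
    simp only [xa, Bool.or_eq_true, beq_iff_eq] at h
    rcases h with rfl | rfl
    · exact hx
    · exact ha
  | m a b iha ihb =>
    simp only [xa, Bool.and_eq_true] at h
    exact (iha h.1).mul_right (ihb h.2)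
  | p a k ih => exact (ih h).pow_right k

theorem gm (l : List G) (a b : Ex) : (Ex.m a b).g l = a.g l * b.g l := rfl

noncomputable def L6 : List ℕ := [cx, cy, cY, ce, cw, em [1, 2, 4, 6, 10]]

theorem k0 : Nat.beq (wa.c kmul kone L4) cw = true := by decide +kernel
theorem k1 : Nat.beq ((Ex.m (.m (.v 1) (.v 1)) (.v 1)).c kmul kone L6) ((Ex.v 9).c kmul kone L6) = true := by
  decide +kernel
theorem k2 : Nat.beq ((Ex.m wu wui).c kmul kone L6) ((Ex.v 9).c kmul kone L6) = true := by decide +kernel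
theorem k3 : Nat.beq ((Ex.m wk wki).c kmul kone L6) ((Ex.v 9).c kmul kone L6) = true := by decide +kernel
theorem k4 : Nat.beq ((Ex.m (.m wu wk) wui).c kmul kone L6)
    ((Ex.m (.m g1 (.m (.m wu (.v 2)) wui)) h1).c kmul kone L6) = true := by decide +kernel
theorem k5 : Nat.beq ((Ex.m (.m (.m wu (.v 2)) wk) wui).c kmul kone L6)
    ((Ex.m (.m g2 (.m (.m wu (.v 2)) wui)) h2).c kmul kone L6) = true := by decide +kernel
theorem k6 : Nat.beq ((Ex.m (.m (.m wu (.v 1)) wk) wui).c kmul kone L6)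
    ((Ex.m (.m g3 (.m (.m wu (.v 2)) wui)) h3).c kmul kone L6) = true := by decide +kernel
theorem k7 : Nat.beq ((Ex.m (.v 5) (.v 5)).c kmul kone L6) ((Ex.v 9).c kmul kone L6) = true := by
  decide +kernel
theorem k8 : Nat.beq (kmul (kmul (kmul (em [2, 5]) (em [2, 6])) (em [2, 8])) (em [0, 10]))
    ((Ex.m (.m wu (.v 5)) wui).c kmul kone L6) = true := by decide +kernel
theorem k9 : Nat.beq (kmul (kmul (kmul (kmul (kmul ct (em [2, 5])) ct) (kmul (kmul ct (em [2, 6])) ct))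
    (kmul (kmul ct (em [2, 8])) ct)) (kmul (kmul ct (em [0, 10])) ct))
    (kmul (kmul (kmul (em [2, 5]) (em [2, 6])) (em [2, 8])) (em [0, 10])) = true := by decide +kernel
theorem k10 : Nat.beq (em [0, 1]) ((Ex.m (.m (.m (.m wu wki) (.v 5)) wk) wui).c kmul kone L6) = true := by
  decide +kernel
theorem k11 : Nat.beq (kmul (kmul ct (em [0, 1])) ct) (em [0, 1]) = false := by decide +kernel

theorem aux (s : Std M) (g : Gd M x y e t) {a z : G} (ta : Commute t a)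
    (h : List.Forall₂ M.R L6 [x, y, y⁻¹, e, a, z]) :
    (y * ((wu.g [x, y, y⁻¹, e, a, z])⁻¹ * t * wu.g [x, y, y⁻¹, e, a, z])) ^ 3 ≠ z := by
  have c := fun w hw => cxa (y := y) (e := e) (z := z) g.tx ta w hw
  have m := s.1
  have o := s.2.1
  have q := s.2.2
  have e1 := s.eq h _ _ k1
  have e2 := s.eq h _ _ k2
  have e3 := s.eq h _ _ k3
  have e4 := s.eq h _ _ k4
  have e5 := s.eq h _ _ k5
  have e6 := s.eq h _ _ k6
  have e7 := s.eq h _ _ k7
  simp only [gm] at e1 e2 e3 e4 e5 e6 e7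
  refine abs g.t2 e1 e2 e3 (c h1 rfl) (c h2 rfl) (c h3 rfl) (c g1 rfl) (c g2 rfl) (c g3 rfl) e4 e5 e6 e7
    ?_ ?_
  · obtain ⟨v, v1, v2⟩ := (((g.tv [2, 5] (by decide)).mul g.t2 (g.tv [2, 6] (by decide))).mul g.t2
      (g.tv [2, 8] (by decide))).mul g.t2 (g.tv [0, 10] (by decide))
    have r := Ex.R h (.m (.m wu (.v 5)) wui)
    have e1 := M.eq_of v1 r (by rw [m, o, q]; exact k8)
    have e2 := M.eq_of v2 v1 (by rw [m, q]; exact k9)
    rw [e1] at e2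
    simp only [gm] at e2
    exact e2
  · obtain ⟨v, v1, v2⟩ := g.tv [0, 1] (by decide)
    have r := Ex.R h (.m (.m (.m (.m wu wki) (.v 5)) wk) wui)
    have e1 := M.eq_of v1 r (by rw [m, o, q]; exact k10)
    have e2 := M.ne_of v2 v1 (by rw [q]; exact k11)
    rw [e1] at e2
    simp only [gm] at e2
    exact e2

theorem h11b (f : Fr M x y e) (g : Gd M x y e t) {z : G} (hz : M.R (em [1, 2, 4, 6, 10]) z) :
    (y * ((y * x * (y⁻¹) * x * y * x * (y⁻¹) * x)⁻¹ * t * (y * x * (y⁻¹) * x * y * x * (y⁻¹) * x))) ^ 3 ≠ z := by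
  have ha : M.R cw (wa.g [x, y, y⁻¹, e]) := f.s.lit f.h wa k0
  have := f.h
  simp only [L4, List.forall₂_cons] at this
  exact aux f.s g g.ta (.cons this.1 (.cons this.2.1 (.cons this.2.2.1 (.cons this.2.2.2.1
    (.cons ha (.cons hz .nil))))))

end H14.H11b
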