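import Cfsg.Agent.H14.KaA
import Cfsg.Agent.S0215
import Cfsg.Agent.H2.P2

/-! Conjugates of `z` commuting with `a` lie on the line `V`. -/

set_option autoImplicit false
open Subgroup Equiv H7J Cfsg

namespace H14.Ka

variable {G : Type*} [Group G] {ψ : P →* G}

theorem eE (h : H2 ψ) {p q : P} : ψ p = ψ q ↔ E p q := by
  rw [← inv_mul_eq_one.trans eq_comm, ← map_inv, ← map_mul, h.ker, E, inv_mul_eq_one,
    inv_mul_eq_iff_eq_mul, eq_comm]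

theorem nv3 (h : H2 ψ) {i j k : Fin 5} (a : i ≠ j) (b : i ≠ k) (c : j ≠ k) :
    ∃ (n : G) (σ : Perm (Fin 5)), (∀ l, n * ψ (pt l) * n⁻¹ = ψ (pt (σ l))) ∧
      n * ψ (pt 0) * n⁻¹ = ψ (pt i) ∧ n * ψ (pt 1) * n⁻¹ = ψ (pt j) ∧
      n * ψ (pt 2) * n⁻¹ = ψ (pt k) := by
  obtain ⟨σ, s, rfl, rfl, rfl⟩ := sg i j k a b c
  obtain ⟨n, hn⟩ := h.nv σ s
  exact ⟨n, σ, hn, hn 0, hn 1, hn 2⟩

theorem cm (h : H2 ψ) (i j : Fin 5) : ψ (pt i) * ψ (pt j) = ψ (pt j) * ψ (pt i) := by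
  rw [← map_mul, ← map_mul]; exact (eE h).2 (dc i j)

theorem sq (h : H2 ψ) (i : Fin 5) : ψ (pt i) * ψ (pt i) = 1 := by
  rw [← map_mul, ← map_one ψ]; exact (eE h).2 (ds i)

theorem n1 (h : H2 ψ) (i : Fin 5) : ψ (pt i) ≠ 1 := fun e =>
  dn1 i ((eE h).1 (e.trans (map_one ψ).symm))

theorem n2 (h : H2 ψ) (i j k : Fin 5) : ψ (pt i) * ψ (pt j) ≠ ψ (pt k) := fun e =>
  dn2 i j k ((eE h).1 ((map_mul ψ _ _).trans e))

theorem cj (h : H2 ψ) (i : Fin 5) : IsConj (ψ (pt 0)) (ψ (pt i)) := by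
  obtain ⟨j, a, -⟩ := th i i
  obtain ⟨k, b, c⟩ := th i j
  obtain ⟨n, -, -, e, -⟩ := nv3 h a.symm b.symm c.symm
  exact isConj_iff.2 ⟨n, e⟩

theorem L1 (h : H2 ψ) {i j : Fin 5} (a : i ≠ j) : ¬ IsConj (ψ (pt 0)) (ψ (pt i) * ψ (pt j)) := by
  obtain ⟨k, b, c⟩ := th i j
  obtain ⟨n, -, -, -, e1, e2⟩ := nv3 h b c a
  refine fun e => h.na (e.trans (isConj_iff.2 ⟨n, ?_⟩).symm)
  rw [a0, map_mul, ← e1, ← e2]; group

theorem x2 (h : H2 ψ) {x : G} (hx : IsConj (ψ (pt 0)) x) : x * x = 1 := by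
  obtain ⟨c, rfl⟩ := isConj_iff.1 hx
  calc c * ψ (pt 0) * c⁻¹ * (c * ψ (pt 0) * c⁻¹) = c * (ψ (pt 0) * ψ (pt 0)) * c⁻¹ := by group
    _ = 1 := by rw [sq h]; group

theorem LA (h : H2 ψ) {x : G} (hx : IsConj (ψ (pt 0)) x) (c0 : x * ψ (pt 0) = ψ (pt 0) * x)
    (c1 : x * ψ (pt 1) = ψ (pt 1) * x) : ∃ k, x = ψ (pt k) := by
  have xx := x2 h hx
  obtain ⟨q, rfl⟩ := (h.cz x).1 c0
  rw [← map_mul, ← map_mul, eE h] at c1
  rw [← map_mul, ← map_one ψ, eE h] at xx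
  rcases dA q c1 xx with e | ⟨i, e⟩ | ⟨i, j, a, e⟩
  · rw [(eE h).2 e, map_one, isConj_one_left] at hx
    exact absurd hx (n1 h 0)
  · exact ⟨i, (eE h).2 e⟩
  · rw [(eE h).2 e, map_mul] at hx
    exact absurd hx (L1 h a)

theorem LB (h : H2 ψ) {w : G} (hw : IsConj (ψ (pt 0)) w) (e0 : w * ψ (pt 0) * w⁻¹ = ψ (pt 1)) :
    False := by
  have ww := x2 h hw
  have wi : w⁻¹ = w := inv_eq_of_mul_eq_one_right ww
  have iv : ∀ x, w * (w * x * w⁻¹) * w⁻¹ = x := fun x => by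
    rw [wi, ← mul_assoc, ← mul_assoc, ww, one_mul, mul_assoc, ww, mul_one]
  have e1 : w * ψ (pt 1) * w⁻¹ = ψ (pt 0) := by rw [← e0, iv]
  have cc : ∀ i j, w * ψ (pt i) * w⁻¹ * (w * ψ (pt j) * w⁻¹) =
      w * ψ (pt j) * w⁻¹ * (w * ψ (pt i) * w⁻¹) := fun i j => by
    calc w * ψ (pt i) * w⁻¹ * (w * ψ (pt j) * w⁻¹) = w * (ψ (pt i) * ψ (pt j)) * w⁻¹ := by group
      _ = _ := by rw [cm h]; group
  have : ∀ j, ∃ k, w * ψ (pt j) * w⁻¹ = ψ (pt k) := fun j =>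
    LA h ((cj h j).trans (isConj_iff.2 ⟨w, rfl⟩)) (by have := cc j 1; rwa [e1] at this)
      (by have := cc j 0; rwa [e0] at this)
  choose τ hτ using this
  obtain ⟨j, hj⟩ := fx τ fun i => dn _ _ ((eE h).1 (by rw [← hτ, ← hτ, iv]))
  have ej := hτ j
  rw [hj] at ej
  have j0 : j ≠ 0 := by
    rintro rfl
    exact absurd (dn _ _ ((eE h).1 (e0.symm.trans ej))) (by decide)
  have j1 : j ≠ 1 := by
    rintro rfl
    exact absurd (dn _ _ ((eE h).1 (e1.symm.trans ej))) (by decide)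
  obtain ⟨n, -, -, f0, f1, f2⟩ := nv3 h j0 j1 (by decide : (0 : Fin 5) ≠ 1)
  have hw' : IsConj (ψ (pt 0)) (n⁻¹ * w * n⁻¹⁻¹) := hw.trans (isConj_iff.2 ⟨n⁻¹, rfl⟩)
  have c0 : n⁻¹ * w * n⁻¹⁻¹ * ψ (pt 0) = ψ (pt 0) * (n⁻¹ * w * n⁻¹⁻¹) := by
    calc n⁻¹ * w * n⁻¹⁻¹ * ψ (pt 0) = n⁻¹ * (w * (n * ψ (pt 0) * n⁻¹) * w⁻¹) * w * n := by group
      _ = _ := by rw [f0, ej, ← f0]; group
  have c1 : n⁻¹ * w * n⁻¹⁻¹ * ψ (pt 1) = ψ (pt 2) * (n⁻¹ * w * n⁻¹⁻¹) := by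
    calc n⁻¹ * w * n⁻¹⁻¹ * ψ (pt 1) = n⁻¹ * (w * (n * ψ (pt 1) * n⁻¹) * w⁻¹) * w * n := by group
      _ = _ := by rw [f1, e0, ← f2]; group
  have xx := x2 h hw'
  obtain ⟨q, hq⟩ := (h.cz _).1 c0
  rw [← hq] at c1 xx hw'
  rw [← map_mul, ← map_mul, eE h] at c1
  rw [← map_mul, ← map_one ψ, eE h] at xx
  obtain ⟨r, e | e⟩ := dB q xx ⟨1, 2, by decide, c1⟩
  · rw [(eE h).2 e, map_mul, map_mul, map_inv] at hw'
    exact h.na (hw'.trans (isConj_iff.2 ⟨_, rfl⟩).symm)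
  · rw [(eE h).2 e, map_mul, map_mul ψ r, map_inv] at hw'
    exact h.nb (hw'.trans (isConj_iff.2 ⟨_, rfl⟩).symm)

theorem LC (h : H2 ψ) {g : G} {j : Fin 5} (j0 : j ≠ 0) (j1 : j ≠ 1)
    (cb : g * (ψ (pt 0) * ψ (pt 1)) = ψ (pt 0) * ψ (pt 1) * g)
    (c : g * ψ (pt j) = ψ (pt j) * g) : g ^ 16 = 1 := by
  obtain ⟨n, -, -, f0, f1, f2⟩ := nv3 h j0 j1 (by decide : (0 : Fin 5) ≠ 1)
  have c0 : n⁻¹ * g * n⁻¹⁻¹ * ψ (pt 0) = ψ (pt 0) * (n⁻¹ * g * n⁻¹⁻¹) := by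
    calc n⁻¹ * g * n⁻¹⁻¹ * ψ (pt 0) = n⁻¹ * (g * (n * ψ (pt 0) * n⁻¹)) * n := by group
      _ = _ := by rw [f0, c, ← f0]; group
  have c1 : n⁻¹ * g * n⁻¹⁻¹ * ψ a0 = ψ a0 * (n⁻¹ * g * n⁻¹⁻¹) := by
    rw [a0, map_mul]
    calc n⁻¹ * g * n⁻¹⁻¹ * (ψ (pt 1) * ψ (pt 2))
        = n⁻¹ * (g * ((n * ψ (pt 1) * n⁻¹) * (n * ψ (pt 2) * n⁻¹))) * n := by group
      _ = _ := by rw [f1, f2, cb]; nth_rw 1 [← f2]; rw [← f1]; group
  obtain ⟨q, hq⟩ := (h.cz _).1 c0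
  rw [← hq, ← map_mul, ← map_mul, eE h] at c1
  have := congrArg ψ (dC q c1)
  rwa [map_pow, hq, conj_pow, map_one, conj_eq_one_iff] at this

theorem zb (h : H2 ψ) : ψ (pt 0) * (ψ (pt 0) * ψ (pt 1)) = ψ (pt 1) := by
  rw [← mul_assoc, sq h, one_mul]

theorem c1' (h : H2 ψ) {w : G} (cb : w * (ψ (pt 0) * ψ (pt 1)) = ψ (pt 0) * ψ (pt 1) * w)
    (c0 : w * ψ (pt 0) = ψ (pt 0) * w) : w * ψ (pt 1) = ψ (pt 1) * w :=
  mul_left_cancel (a := ψ (pt 0)) (by rw [← mul_assoc, ← c0, mul_assoc, cb, mul_assoc])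

theorem LD (h : H2 ψ) {y : G} (cb : y * (ψ (pt 0) * ψ (pt 1)) = ψ (pt 0) * ψ (pt 1) * y)
    (cw : y * ψ (pt 0) * y⁻¹ * (ψ (pt 0) * ψ (pt 1)) = ψ (pt 0) * ψ (pt 1) * (y * ψ (pt 0) * y⁻¹))
    (c0 : y * ψ (pt 0) * y⁻¹ * ψ (pt 0) = ψ (pt 0) * (y * ψ (pt 0) * y⁻¹)) :
    y * ψ (pt 0) * y⁻¹ = ψ (pt 0) ∨ y * ψ (pt 0) * y⁻¹ = ψ (pt 1) := by
  obtain ⟨k, e⟩ := LA h (isConj_iff.2 ⟨y, rfl⟩) c0 (c1' h cw c0)
  obtain ⟨j, l, rfl | rfl | ⟨a, e2⟩⟩ := d3 k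
  · exact .inl e
  · exact .inr e
  · refine absurd ((cj h 1).trans (isConj_iff.2 ⟨y, ?_⟩)) (L1 h a)
    have e3 := (eE h).2 e2
    rw [map_mul, map_mul, map_mul] at e3
    rw [← e3, ← e]
    nth_rw 1 [← zb h]
    calc y * (ψ (pt 0) * (ψ (pt 0) * ψ (pt 1))) * y⁻¹
        = y * ψ (pt 0) * y⁻¹ * (y * (ψ (pt 0) * ψ (pt 1))) * y⁻¹ := by group
      _ = _ := by rw [cb]; group

theorem kb [Finite G] (h : H2 ψ) {x : G} (hx : IsConj (ψ (pt 0)) x)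
    (cx : x * (ψ (pt 0) * ψ (pt 1)) = ψ (pt 0) * ψ (pt 1) * x) : ∃ k, x = ψ (pt k) := by
  have : Fact (Nat.Prime 2) := ⟨Nat.prime_two⟩
  set b := ψ (pt 0) * ψ (pt 1) with hb
  have bb : b * b = 1 := by
    rw [hb, mul_assoc, ← mul_assoc (ψ (pt 1)), cm h 1 0, mul_assoc, sq h, mul_one, sq h]
  set Y : Subgroup G := centralizer {b} with hY
  have mY : ∀ y : Y, (y : G) * b = b * y := fun y => mem_centralizer_singleton_iff.1 y.2
  have pY : ∀ i, ψ (pt i) ∈ Y := fun i => mem_centralizer_singleton_iff.2 (by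
    rw [hb, ← mul_assoc, cm h i 0, mul_assoc, cm h i 1, mul_assoc])
  let C : Subgroup Y := (zpowers b).subgroupOf Y
  have hC : ∀ x : Y, x ∈ C ↔ (x : G) = 1 ∨ (x : G) = b := fun x => H6.mem_zpowers_ord2 bb
  haveI : C.Normal := ⟨fun x hx y => by
    rw [hC] at hx ⊢
    refine hx.imp (fun e => ?_) (fun e => ?_)
    · show (y : G) * x * (y : G)⁻¹ = 1
      rw [e]; group
    · show (y : G) * x * (y : G)⁻¹ = b
      rw [e, mY, mul_inv_cancel_right]⟩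
  have eq : ∀ u v : Y, QuotientGroup.mk' C u = QuotientGroup.mk' C v ↔
      (v : G) = u ∨ (v : G) = u * b := fun u v => by
    rw [QuotientGroup.mk'_apply, QuotientGroup.mk'_apply, QuotientGroup.eq, hC]
    show (u : G)⁻¹ * v = 1 ∨ (u : G)⁻¹ * v = b ↔ _
    rw [inv_mul_eq_one, inv_mul_eq_iff_eq_mul, eq_comm]
  have q1 : ∀ i, QuotientGroup.mk' C ⟨_, pY i⟩ ≠ 1 := fun i e => by
    rw [← map_one (QuotientGroup.mk' C), eq_comm, eq] at e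
    rcases e with e | e
    · exact n1 h i e
    · exact n2 h 0 1 i (e.trans (one_mul b)).symm
  have q2 : ∀ i, QuotientGroup.mk' C ⟨_, pY i⟩ * QuotientGroup.mk' C ⟨_, pY i⟩ = 1 := fun i => by
    rw [← map_mul, ← map_one (QuotientGroup.mk' C)]
    exact congrArg _ (Subtype.ext (sq h i))
  have key : ∀ w : Y, IsConj (ψ (pt 0)) w → QuotientGroup.mk' C w * QuotientGroup.mk' C ⟨_, pY 0⟩ =
      QuotientGroup.mk' C ⟨_, pY 0⟩ * QuotientGroup.mk' C w → (w : G) * ψ (pt 0) = ψ (pt 0) * w := by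
    intro w hw e
    rw [← map_mul, ← map_mul, eq_comm, eq] at e
    refine e.resolve_right fun e => LB h hw ?_
    have e' : (w : G) * ψ (pt 0) = ψ (pt 0) * w * b := e
    rw [e', mul_assoc (ψ (pt 0)), mY, ← mul_assoc, mul_inv_cancel_right, zb h]
  have hI : IsIsolatedInvolution (QuotientGroup.mk' C ⟨_, pY 0⟩) := by
    refine ⟨orderOf_eq_prime (by rw [pow_two, q2]) (q1 0), fun g hg => ?_⟩
    obtain ⟨y, rfl⟩ := QuotientGroup.mk'_surjective C g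
    rw [← map_inv, ← map_mul, ← map_mul] at hg ⊢
    have c0 := key (y * ⟨_, pY 0⟩ * y⁻¹) (isConj_iff.2 ⟨y, rfl⟩) hg.symm.eq
    rw [eq_comm, eq]
    exact (LD h (mY y) (mY (y * ⟨_, pY 0⟩ * y⁻¹)) c0).imp_right fun e => e.trans (zb h).symm
  have od : Odd (Nat.card (pPrimeCore 2 (Y ⧸ C))) :=
    Nat.coprime_two_right.mp (H1.coprime_card_pPrimeCore 2 (G := Y ⧸ C))
  have fj : ∀ j : Fin 5, j ≠ 0 → j ≠ 1 →
      pPrimeCore 2 (Y ⧸ C) ⊓ centralizer {QuotientGroup.mk' C ⟨_, pY j⟩} ≤ ⊥ := by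
    rintro j j0 j1 g ⟨g1, g2⟩
    obtain ⟨n, rfl⟩ := QuotientGroup.mk'_surjective C g
    have e := mem_centralizer_singleton_iff.1 g2
    rw [← map_mul, ← map_mul, eq_comm, eq] at e
    have e2 : (n : G) * n * ψ (pt j) = ψ (pt j) * (n * n) := by
      rcases e with e | e
      · have e' : (n : G) * ψ (pt j) = ψ (pt j) * n := e
        rw [mul_assoc, e', ← mul_assoc, e', mul_assoc]
      · have e' : (n : G) * ψ (pt j) = ψ (pt j) * n * b := e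
        have m := mY n
        clear_value b
        rw [mul_assoc, e', ← mul_assoc, ← mul_assoc, e', mul_assoc (ψ (pt j) * n) b, ← m,
          mul_assoc, mul_assoc, mul_assoc, bb, mul_one]
    have e3 := LC h j0 j1 (mY (n * n)) e2
    have e4 : QuotientGroup.mk' C n ^ 32 = 1 := by
      rw [← map_pow, ← map_one (QuotientGroup.mk' C)]
      refine congrArg _ (Subtype.ext ?_)
      show (n : G) ^ (2 * 16) = 1
      rw [pow_mul, pow_two]; exact e3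
    have o1 := orderOf_dvd_of_pow_eq_one e4
    have o2 := (od.of_dvd_nat (orderOf_dvd_natCard _ g1)).coprime_two_right.pow_right 5
    exact orderOf_eq_one_iff.1 (Nat.Coprime.eq_one_of_dvd o2 o1)
  have e4 : QuotientGroup.mk' C ⟨_, pY 2⟩ * QuotientGroup.mk' C ⟨_, pY 3⟩ =
      QuotientGroup.mk' C ⟨_, pY 4⟩ := by
    rw [← map_mul, eq_comm, eq]
    right
    have := (eE h).2 dp
    rwa [map_mul, map_mul, map_mul] at this
  have hO : pPrimeCore 2 (Y ⧸ C) = ⊥ := by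
    refine le_bot_iff.1 (H2.P2.fgen od (q2 2) (q2 3) ?_ (q1 2) (q1 3) ?_
      (by rw [normalizer_eq_top]; trivial) (by rw [normalizer_eq_top]; trivial) ?_)
    · rw [← map_mul, ← map_mul]
      exact congrArg _ (Subtype.ext (cm h 2 3))
    · intro e
      rw [← e, q2] at e4
      exact q1 4 e4.symm
    · rw [e4]
      intro y hy
      simp only [List.mem_cons, List.not_mem_nil, or_false] at hy
      rcases hy with rfl | rfl | rfl <;> exact fj _ (by decide) (by decide)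
  have hz := mem_center_iff.1 (H19.zstar_center hI hO)
    (QuotientGroup.mk' C ⟨x, mem_centralizer_singleton_iff.2 cx⟩)
  have c0 := key _ hx hz
  exact LA h hx c0 (c1' h cx c0)

theorem ka [Finite G] (h : H2 ψ) : KA ψ := by
  intro x hx cx
  obtain ⟨n, σ, f, -, f1, f2⟩ := nv3 h (i := 2) (j := 0) (k := 1) (by decide) (by decide) (by decide)
  obtain ⟨k, e⟩ := kb h (x := n * x * n⁻¹) (hx.trans (isConj_iff.2 ⟨n, rfl⟩)) (by
    rw [a0, map_mul] at cx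
    have e : ψ (pt 0) * ψ (pt 1) = n * ψ (pt 1) * n⁻¹ * (n * ψ (pt 2) * n⁻¹) := by rw [f1, f2]
    rw [e]
    calc n * x * n⁻¹ * (n * ψ (pt 1) * n⁻¹ * (n * ψ (pt 2) * n⁻¹))
        = n * (x * (ψ (pt 1) * ψ (pt 2))) * n⁻¹ := by group
      _ = _ := by rw [cx]; group)
  refine ⟨σ.symm k, ?_⟩
  have := f (σ.symm k)
  rw [apply_symm_apply, ← e] at this
  exact (mul_left_cancel (mul_right_cancel this)).symm

end H14.Ka
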