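import Cfsg.Agent.H7.Jh



/-! Finite checks in the wreath product. -/

set_option autoImplicit false
open Subgroup Equiv H7J

namespace H14.Ka

def E (p q : P) : Prop := p = q ∨ p = q * k0
instance (p q : P) : Decidable (E p q) := inferInstanceAs (Decidable (_ ∨ _))


theorem dA : ∀ p : P, E (p * pt 1) (pt 1 * p) → E (p * p) 1 → E p 1 ∨ (∃ i, E p (pt i)) ∨
    (∃ i j, i ≠ j ∧ E p (pt i * pt j)) := by decide +kernel

theorem dC : ∀ p : P, E (p * a0) (a0 * p) → p ^ 16 = 1 := by decide +kernel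

theorem dB : ∀ p : P, E (p * p) 1 → (∃ i j, i ≠ j ∧ E (p * pt i) (pt j * p)) →
    ∃ q : P, E p (q * a0 * q⁻¹) ∨ E p (q * (pt 1 * z0) * q⁻¹) := by decide +kernel

theorem dc : ∀ i j, E (pt i * pt j) (pt j * pt i) := by decide +kernel
theorem ds : ∀ i, E (pt i * pt i) 1 := by decide +kernel
theorem dn : ∀ i j, E (pt i) (pt j) → i = j := by decide +kernel
theorem dn1 : ∀ i, ¬ E (pt i) 1 := by decide +kernel
theorem dn2 : ∀ i j k, ¬ E (pt i * pt j) (pt k) := by decide +kernel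
theorem dp : E (pt 2 * pt 3) (pt 4 * (pt 0 * pt 1)) := by decide +kernel
theorem d3 : ∀ i : Fin 5, ∃ j k, i = 0 ∨ i = 1 ∨ j ≠ k ∧ E (pt i * (pt 0 * pt 1)) (pt j * pt k) := by
  decide +kernel
theorem sg : ∀ i j k : Fin 5, i ≠ j → i ≠ k → j ≠ k →
    ∃ σ : Perm (Fin 5), Perm.sign σ = 1 ∧ σ 0 = i ∧ σ 1 = j ∧ σ 2 = k := by decide +kernel
theorem th : ∀ j k : Fin 5, ∃ i, i ≠ j ∧ i ≠ k := by decide
theorem fx : ∀ τ : Fin 5 → Fin 5, (∀ i, τ (τ i) = i) → ∃ j, τ j = j := by decide +kernel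

end H14.Ka
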