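/-
Unbundled API for fusion systems: a morphism with source `P` is recorded as a function on the ambient group.
-/
import Mathlib
import Cfsg.Prelude.Def_FusionReduction
import Cfsg.Prelude.Def_FusionFitting

set_option autoImplicit false
open Cfsg Cfsg.FusionSystem
open scoped commutatorElement

namespace H14

section HomOn
variable {Ω Ω' Ω'' : Type*} [Group Ω] [Group Ω'] [Group Ω'']

/-- `f` is multiplicative on `P`. -/
def HomOn (P : Subgroup Ω) (f : Ω → Ω') : Prop := ∀ x ∈ P, ∀ y ∈ P, f (x * y) = f x * f y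

/-- extension of a function on a subgroup to the ambient type (junk value `1`). -/
noncomputable def ext {P : Subgroup Ω} (φ : P → Ω') : Ω → Ω' := fun x => by
  classical exact if h : x ∈ P then φ ⟨x, h⟩ else 1

theorem ext_apply {P : Subgroup Ω} (φ : P → Ω') {x : Ω} (h : x ∈ P) : ext φ x = φ ⟨x, h⟩ := by
  simp [ext, h]

@[simp] theorem ext_coe {P : Subgroup Ω} (φ : P → Ω') (x : P) : ext φ (x : Ω) = φ x := by
  simp [ext]

theorem homOn_ext {P : Subgroup Ω} (φ : P →* Ω') : HomOn P (ext φ) := by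
  intro x hx y hy
  rw [ext_apply _ hx, ext_apply _ hy, ext_apply _ (P.mul_mem hx hy), ← map_mul]; rfl

theorem homOn_hom (P : Subgroup Ω) (φ : Ω →* Ω') : HomOn P φ := fun x _ y _ => map_mul φ x y

/-- bundled homomorphism attached to a function multiplicative on `P`. -/
def HomOn.toHom {P : Subgroup Ω} {f : Ω → Ω'} (h : HomOn P f) : P →* Ω' :=
  MonoidHom.mk' (fun x => f x) (fun x y => h x x.2 y y.2)

@[simp] theorem HomOn.toHom_apply {P : Subgroup Ω} {f : Ω → Ω'} (h : HomOn P f) (x : P) :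
    h.toHom x = f x := rfl

theorem HomOn.mono {P Q : Subgroup Ω} {f : Ω → Ω'} (h : HomOn Q f) (hPQ : P ≤ Q) : HomOn P f :=
  fun x hx y hy => h x (hPQ hx) y (hPQ hy)

theorem HomOn.congr {P : Subgroup Ω} {f g : Ω → Ω'} (h : HomOn P f) (hfg : ∀ x ∈ P, f x = g x) :
    HomOn P g := by
  intro x hx y hy
  rw [← hfg x hx, ← hfg y hy, ← hfg _ (P.mul_mem hx hy), h x hx y hy]

theorem HomOn.map_mul {P : Subgroup Ω} {f : Ω → Ω'} (h : HomOn P f) {x y : Ω} (hx : x ∈ P) (hy : y ∈ P) :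
    f (x * y) = f x * f y := h x hx y hy

theorem HomOn.map_one {P : Subgroup Ω} {f : Ω → Ω'} (h : HomOn P f) : f 1 = 1 :=
  _root_.map_one h.toHom

theorem HomOn.map_inv {P : Subgroup Ω} {f : Ω → Ω'} (h : HomOn P f) {x : Ω} (hx : x ∈ P) :
    f x⁻¹ = (f x)⁻¹ := _root_.map_inv h.toHom ⟨x, hx⟩

theorem HomOn.map_pow {P : Subgroup Ω} {f : Ω → Ω'} (h : HomOn P f) {x : Ω} (hx : x ∈ P) (n : ℕ) :
    f (x ^ n) = (f x) ^ n := _root_.map_pow h.toHom ⟨x, hx⟩ n

theorem HomOn.map_zpow {P : Subgroup Ω} {f : Ω → Ω'} (h : HomOn P f) {x : Ω} (hx : x ∈ P) (n : ℤ) :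
    f (x ^ n) = (f x) ^ n := _root_.map_zpow h.toHom ⟨x, hx⟩ n

theorem HomOn.map_conj {P : Subgroup Ω} {f : Ω → Ω'} (h : HomOn P f) {g x : Ω} (hg : g ∈ P) (hx : x ∈ P) :
    f (g * x * g⁻¹) = f g * f x * (f g)⁻¹ := by
  rw [h.map_mul (P.mul_mem hg hx) (P.inv_mem hg), h.map_mul hg hx, h.map_inv hg]

theorem HomOn.map_commutatorElement {P : Subgroup Ω} {f : Ω → Ω'} (h : HomOn P f) {g x : Ω} (hg : g ∈ P)
    (hx : x ∈ P) : f ⁅g, x⁆ = ⁅f g, f x⁆ := by
  rw [commutatorElement_def, commutatorElement_def,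
    h.map_mul (P.mul_mem (P.mul_mem hg hx) (P.inv_mem hg)) (P.inv_mem hx), h.map_conj hg hx, h.map_inv hx]

theorem HomOn.comp {P : Subgroup Ω} {Q : Subgroup Ω'} {f : Ω → Ω'} {g : Ω' → Ω''} (hf : HomOn P f)
    (hg : HomOn Q g) (h : ∀ x ∈ P, f x ∈ Q) : HomOn P (fun x => g (f x)) := by
  intro x hx y hy
  show g (f (x * y)) = g (f x) * g (f y)
  rw [hf x hx y hy, hg _ (h x hx) _ (h y hy)]

/-- two maps multiplicative on `P ⊔ Q` that agree on `P` and on `Q` agree on `P ⊔ Q`. -/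
theorem HomOn.eq_on_closure {P : Subgroup Ω} {f g : Ω → Ω'} (hf : HomOn P f) (hg : HomOn P g) {A : Set Ω}
    (hA : Subgroup.closure A ≤ P) (h : ∀ x ∈ A, f x = g x) : ∀ x ∈ Subgroup.closure A, f x = g x := by
  intro x hx
  induction hx using Subgroup.closure_induction with
  | mem x hx => exact h x hx
  | one => rw [hf.map_one, hg.map_one]
  | mul x y hx hy ihx ihy => rw [hf.map_mul (hA hx) (hA hy), hg.map_mul (hA hx) (hA hy), ihx, ihy]
  | inv x hx ih => rw [hf.map_inv (hA hx), hg.map_inv (hA hx), ih]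

theorem HomOn.eq_on_sup {P Q : Subgroup Ω} {f g : Ω → Ω'} (hf : HomOn (P ⊔ Q) f) (hg : HomOn (P ⊔ Q) g)
    (h₁ : ∀ x ∈ P, f x = g x) (h₂ : ∀ x ∈ Q, f x = g x) : ∀ x ∈ P ⊔ Q, f x = g x := by
  have : P ⊔ Q = Subgroup.closure ((P : Set Ω) ∪ Q) := by
    rw [Subgroup.closure_union, Subgroup.closure_eq, Subgroup.closure_eq]
  intro x hx
  refine HomOn.eq_on_closure hf hg (A := (P : Set Ω) ∪ Q) (this ▸ le_rfl) ?_ x (this ▸ hx)
  rintro y (hy | hy)
  exacts [h₁ y hy, h₂ y hy]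

/-- the image of `P` under `f` (the subgroup generated by the set image). -/
def img (f : Ω → Ω') (P : Subgroup Ω) : Subgroup Ω' := Subgroup.closure (f '' (P : Set Ω))

theorem mem_img_of_mem (f : Ω → Ω') {P : Subgroup Ω} {x : Ω} (hx : x ∈ P) : f x ∈ img f P :=
  Subgroup.subset_closure ⟨x, hx, rfl⟩

theorem img_le_iff {f : Ω → Ω'} {P : Subgroup Ω} {Q : Subgroup Ω'} : img f P ≤ Q ↔ ∀ x ∈ P, f x ∈ Q := by
  rw [img, Subgroup.closure_le]
  constructor
  · intro h x hx; exact h ⟨x, hx, rfl⟩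
  · rintro h _ ⟨x, hx, rfl⟩; exact h x hx

theorem img_mono (f : Ω → Ω') {P Q : Subgroup Ω} (h : P ≤ Q) : img f P ≤ img f Q :=
  img_le_iff.2 fun _ hx => mem_img_of_mem f (h hx)

theorem img_congr {f g : Ω → Ω'} {P : Subgroup Ω} (h : ∀ x ∈ P, f x = g x) : img f P = img g P := by
  apply le_antisymm <;> rw [img_le_iff] <;> intro x hx
  · rw [h x hx]; exact mem_img_of_mem g hx
  · rw [← h x hx]; exact mem_img_of_mem f hx

theorem HomOn.img_eq_range {P : Subgroup Ω} {f : Ω → Ω'} (h : HomOn P f) : img f P = h.toHom.range := by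
  apply le_antisymm
  · rw [img_le_iff]; intro x hx; exact ⟨⟨x, hx⟩, rfl⟩
  · rintro _ ⟨x, rfl⟩; exact mem_img_of_mem f x.2

theorem HomOn.mem_img {P : Subgroup Ω} {f : Ω → Ω'} (h : HomOn P f) {y : Ω'} :
    y ∈ img f P ↔ ∃ x ∈ P, f x = y := by
  rw [h.img_eq_range]
  constructor
  · rintro ⟨x, rfl⟩; exact ⟨x, x.2, rfl⟩
  · rintro ⟨x, hx, rfl⟩; exact ⟨⟨x, hx⟩, rfl⟩

theorem img_ext {P : Subgroup Ω} (φ : P →* Ω') : img (ext φ) P = φ.range := by
  ext y
  rw [(homOn_ext φ).mem_img]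
  constructor
  · rintro ⟨x, hx, rfl⟩; exact ⟨⟨x, hx⟩, (ext_apply _ hx).symm⟩
  · rintro ⟨x, rfl⟩; exact ⟨x, x.2, ext_coe _ _⟩

theorem img_of_eq {P : Subgroup Ω} (φ : P →* Ω') {f : Ω → Ω'} (h : ∀ x : P, φ x = f x) : img f P = φ.range := by
  rw [← img_ext]; apply img_congr; intro x hx; rw [ext_apply _ hx, h]

theorem img_eq_map_subgroupOf {P Q : Subgroup Ω} (hQP : Q ≤ P) (φ : P →* Ω') {f : Ω → Ω'}
    (h : ∀ x : P, φ x = f x) : img f Q = (Q.subgroupOf P).map φ := by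
  apply le_antisymm
  · rw [img_le_iff]; intro x hx; exact ⟨⟨x, hQP hx⟩, hx, h _⟩
  · rintro _ ⟨x, hx, rfl⟩; rw [h]; exact mem_img_of_mem f hx

theorem img_hom (φ : Ω →* Ω') (P : Subgroup Ω) : img φ P = P.map φ := by
  ext y; rw [(homOn_hom P φ).mem_img]; rfl

@[simp] theorem img_id (P : Subgroup Ω) : img (fun x => x) P = P := img_hom (MonoidHom.id Ω) P |>.trans (by simp)

theorem img_bot {f : Ω → Ω'} (h : f 1 = 1) : img f ⊥ = ⊥ := by
  rw [eq_bot_iff, img_le_iff]; intro x hx; rw [Subgroup.mem_bot.1 hx, h]; exact Subgroup.one_mem _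

theorem HomOn.img_comp {P : Subgroup Ω} {f : Ω → Ω'} {g : Ω' → Ω''} (hf : HomOn P f) :
    img (fun x => g (f x)) P = img g (img f P) := by
  apply le_antisymm
  · rw [img_le_iff]; intro x hx; exact mem_img_of_mem g (mem_img_of_mem f hx)
  · rw [img_le_iff]; intro y hy
    obtain ⟨x, hx, rfl⟩ := hf.mem_img.1 hy
    exact mem_img_of_mem (fun x => g (f x)) hx

theorem HomOn.img_closure {P : Subgroup Ω} {f : Ω → Ω'} (hf : HomOn P f) {A : Set Ω}
    (hA : Subgroup.closure A ≤ P) : img f (Subgroup.closure A) = Subgroup.closure (f '' A) := by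
  apply le_antisymm
  · rw [img_le_iff]
    intro x hx
    induction hx using Subgroup.closure_induction with
    | mem x hx => exact Subgroup.subset_closure ⟨x, hx, rfl⟩
    | one => rw [hf.map_one]; exact Subgroup.one_mem _
    | mul x y hx hy ihx ihy => rw [hf.map_mul (hA hx) (hA hy)]; exact Subgroup.mul_mem _ ihx ihy
    | inv x hx ih => rw [hf.map_inv (hA hx)]; exact Subgroup.inv_mem _ ih
  · rw [Subgroup.closure_le]; rintro _ ⟨x, hx, rfl⟩; exact mem_img_of_mem f (Subgroup.subset_closure hx)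

theorem HomOn.img_sup {P Q : Subgroup Ω} {f : Ω → Ω'} (hf : HomOn (P ⊔ Q) f) :
    img f (P ⊔ Q) = img f P ⊔ img f Q := by
  have h : P ⊔ Q = Subgroup.closure ((P : Set Ω) ∪ Q) := by
    rw [Subgroup.closure_union, Subgroup.closure_eq, Subgroup.closure_eq]
  have := hf.img_closure (A := (P : Set Ω) ∪ Q) (h ▸ le_rfl)
  rw [← h] at this
  rw [this, Set.image_union, Subgroup.closure_union]; rfl

theorem HomOn.img_commutator {P A B : Subgroup Ω} {f : Ω → Ω'} (hf : HomOn P f) (hA : A ≤ P) (hB : B ≤ P) :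
    img f ⁅A, B⁆ = ⁅img f A, img f B⁆ := by
  have e : ∀ C : Subgroup Ω, C ≤ P → img f C = (C.subgroupOf P).map hf.toHom := fun C hC =>
    img_eq_map_subgroupOf hC _ (fun _ => rfl)
  have hAB : ⁅A, B⁆ ≤ P := (Subgroup.commutator_mono hA hB).trans (Subgroup.commutator_le_self P)
  rw [e _ hAB, e _ hA, e _ hB, ← Subgroup.map_commutator]
  congr 1
  apply Subgroup.map_injective P.subtype_injective
  rw [Subgroup.map_commutator, Subgroup.map_subgroupOf_eq_of_le hA, Subgroup.map_subgroupOf_eq_of_le hB,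
    Subgroup.map_subgroupOf_eq_of_le hAB]

theorem HomOn.img_zpowers {P : Subgroup Ω} {f : Ω → Ω'} (hf : HomOn P f) {x : Ω} (hx : x ∈ P) :
    img f (Subgroup.zpowers x) = Subgroup.zpowers (f x) := by
  rw [Subgroup.zpowers_eq_closure, Subgroup.zpowers_eq_closure,
    hf.img_closure (by simpa using hx), Set.image_singleton]

theorem HomOn.card_img {P : Subgroup Ω} {f : Ω → Ω'} (hf : HomOn P f) (hi : Set.InjOn f P) :
    Nat.card (img f P) = Nat.card P := by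
  rw [hf.img_eq_range]
  exact (Nat.card_congr (MonoidHom.ofInjective (f := hf.toHom)
    (fun a b hab => Subtype.ext (hi a.2 b.2 hab))).toEquiv).symm

theorem HomOn.finite_img {P : Subgroup Ω} [Finite P] {f : Ω → Ω'} (hf : HomOn P f) : Finite (img f P) := by
  rw [hf.img_eq_range]; exact Finite.of_surjective _ hf.toHom.rangeRestrict_surjective

theorem HomOn.card_img_le {P : Subgroup Ω} [Finite P] {f : Ω → Ω'} (hf : HomOn P f) :
    Nat.card (img f P) ≤ Nat.card P := by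
  rw [hf.img_eq_range]
  exact Nat.card_le_card_of_surjective _ hf.toHom.rangeRestrict_surjective

theorem HomOn.img_inf {P A B : Subgroup Ω} {f : Ω → Ω'} (hf : HomOn P f) (hi : Set.InjOn f P) (hA : A ≤ P)
    (hB : B ≤ P) : img f (A ⊓ B) = img f A ⊓ img f B := by
  apply le_antisymm (le_inf (img_mono f inf_le_left) (img_mono f inf_le_right))
  rintro y ⟨h1, h2⟩
  obtain ⟨a, ha, rfl⟩ := (hf.mono hA).mem_img.1 h1
  obtain ⟨b, hb, hab⟩ := (hf.mono hB).mem_img.1 h2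
  have := hi (hB hb) (hA ha) hab
  subst this
  exact mem_img_of_mem f ⟨ha, hb⟩

theorem HomOn.orderOf_eq {P : Subgroup Ω} {f : Ω → Ω'} (hf : HomOn P f) (hi : Set.InjOn f P) {x : Ω}
    (hx : x ∈ P) : orderOf (f x) = orderOf x := by
  have := orderOf_injective hf.toHom (fun a b hab => Subtype.ext (hi a.2 b.2 hab)) ⟨x, hx⟩
  rw [← Subgroup.orderOf_coe] at this
  exact this

end HomOn

section finite
variable {Ω : Type*} [Group Ω]

theorem finite_of_le {P S : Subgroup Ω} [Finite S] (h : P ≤ S) : Finite P :=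
  Finite.of_injective _ (Subgroup.inclusion_injective h)

theorem eq_of_le_of_card_le {P Q : Subgroup Ω} [Finite Q] (h : P ≤ Q) (hc : Nat.card Q ≤ Nat.card P) : P = Q :=
  Subgroup.eq_of_le_of_card_ge h hc

theorem card_lt_of_lt {P Q : Subgroup Ω} [Finite Q] (h : P < Q) : Nat.card P < Nat.card Q := by
  by_contra hc
  exact h.ne (eq_of_le_of_card_le h.le (not_lt.1 hc))

theorem card_le_of_le {P Q : Subgroup Ω} [Finite Q] (h : P ≤ Q) : Nat.card P ≤ Nat.card Q :=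
  Subgroup.card_le_of_le h

end finite

variable {Ω : Type*} [Group Ω] {S : Subgroup Ω}

/-- `f`, restricted to `P`, is a map of the fusion system `F`. -/
def Mor (F : FusionSystem S) (P : Subgroup Ω) (f : Ω → Ω) : Prop := ∃ φ ∈ F.Hom P, ∀ x : P, φ x = f x

theorem mor_of_mem {F : FusionSystem S} {P : Subgroup Ω} {φ : P →* Ω} (h : φ ∈ F.Hom P) : Mor F P (ext φ) :=
  ⟨φ, h, fun x => (ext_coe _ x).symm⟩

theorem mem_Hom_of_mor {F : FusionSystem S} {P : Subgroup Ω} {f : Ω → Ω} (h : Mor F P f) {φ : P →* Ω}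
    (hφ : ∀ x : P, φ x = f x) : φ ∈ F.Hom P := by
  obtain ⟨ψ, hψ, e⟩ := h
  have : φ = ψ := MonoidHom.ext fun x => (hφ x).trans (e x).symm
  rwa [this]

theorem mem_Hom_iff {F : FusionSystem S} {P : Subgroup Ω} {φ : P →* Ω} : φ ∈ F.Hom P ↔ Mor F P (ext φ) :=
  ⟨mor_of_mem, fun h => mem_Hom_of_mor h fun x => (ext_coe _ x).symm⟩

namespace Mor
variable {F : FusionSystem S} {P Q : Subgroup Ω} {f g : Ω → Ω}

theorem le (h : Mor F P f) : P ≤ S := by
  obtain ⟨φ, hφ, -⟩ := h; exact (F.le_of_mem hφ).1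

theorem mem (h : Mor F P f) {x : Ω} (hx : x ∈ P) : f x ∈ S := by
  obtain ⟨φ, hφ, e⟩ := h
  have := (F.le_of_mem hφ).2 ⟨x, hx⟩
  rwa [e] at this

theorem hom (h : Mor F P f) : HomOn P f := by
  obtain ⟨φ, -, e⟩ := h
  intro x hx y hy
  have := map_mul φ ⟨x, hx⟩ ⟨y, hy⟩
  rw [e, e, e] at this
  exact this

theorem injOn (h : Mor F P f) : Set.InjOn f P := by
  obtain ⟨φ, hφ, e⟩ := h
  intro x hx y hy hxy
  have := F.injective_of_mem hφ (a₁ := ⟨x, hx⟩) (a₂ := ⟨y, hy⟩) (by rw [e, e]; exact hxy)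
  exact congrArg Subtype.val this

theorem inj (h : Mor F P f) {x y : Ω} (hx : x ∈ P) (hy : y ∈ P) (hxy : f x = f y) : x = y :=
  h.injOn hx hy hxy

theorem toHom_mem (h : Mor F P f) : h.hom.toHom ∈ F.Hom P := mem_Hom_of_mor h fun _ => rfl

theorem congr (h : Mor F P f) (hfg : ∀ x ∈ P, f x = g x) : Mor F P g := by
  obtain ⟨φ, hφ, e⟩ := h
  exact ⟨φ, hφ, fun x => (e x).trans (hfg x x.2)⟩

theorem comp (hf : Mor F P f) (hg : Mor F Q g) (h : ∀ x ∈ P, f x ∈ Q) : Mor F P (fun x => g (f x)) := by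
  obtain ⟨φ, hφ, e⟩ := hf
  obtain ⟨ψ, hψ, e'⟩ := hg
  have h' : ∀ x : P, φ x ∈ Q := fun x => by rw [e]; exact h x x.2
  refine ⟨_, F.comp_mem hφ hψ h', fun x => ?_⟩
  show ψ (φ.codRestrict Q h' x) = _
  rw [e']
  show g (φ x) = _
  rw [e]

theorem conj (F : FusionSystem S) (hP : P ≤ S) {s : Ω} (hs : s ∈ S) : Mor F P (fun x => s * x * s⁻¹) :=
  ⟨conjHom P s, F.conj_mem hP hs, fun _ => rfl⟩

theorem conj' (F : FusionSystem S) (hP : P ≤ S) {s : Ω} (hs : s ∈ S) : Mor F P (fun x => s⁻¹ * x * s) := by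
  simpa using conj F hP (S.inv_mem hs)

theorem id (F : FusionSystem S) (hP : P ≤ S) : Mor F P (fun x => x) := by
  simpa using conj F hP S.one_mem

theorem mono (h : Mor F Q f) (hPQ : P ≤ Q) : Mor F P f :=
  (id F (hPQ.trans h.le)).comp h fun _ hx => hPQ hx

theorem img_le (h : Mor F P f) : img f P ≤ S := img_le_iff.2 fun _ hx => h.mem hx

theorem mem_img (h : Mor F P f) {y : Ω} : y ∈ img f P ↔ ∃ x ∈ P, f x = y := h.hom.mem_img

theorem card_img (h : Mor F P f) : Nat.card (img f P) = Nat.card P := h.hom.card_img h.injOn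

theorem map_mul (h : Mor F P f) {x y : Ω} (hx : x ∈ P) (hy : y ∈ P) : f (x * y) = f x * f y := h.hom x hx y hy
theorem map_one (h : Mor F P f) : f 1 = 1 := h.hom.map_one
theorem map_inv (h : Mor F P f) {x : Ω} (hx : x ∈ P) : f x⁻¹ = (f x)⁻¹ := h.hom.map_inv hx
theorem map_pow (h : Mor F P f) {x : Ω} (hx : x ∈ P) (n : ℕ) : f (x ^ n) = f x ^ n := h.hom.map_pow hx n
theorem map_zpow (h : Mor F P f) {x : Ω} (hx : x ∈ P) (n : ℤ) : f (x ^ n) = f x ^ n := h.hom.map_zpow hx n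
theorem map_conj (h : Mor F P f) {g x : Ω} (hg : g ∈ P) (hx : x ∈ P) :
    f (g * x * g⁻¹) = f g * f x * (f g)⁻¹ := h.hom.map_conj hg hx
theorem orderOf_eq (h : Mor F P f) {x : Ω} (hx : x ∈ P) : orderOf (f x) = orderOf x :=
  h.hom.orderOf_eq h.injOn hx
theorem eq_one_iff (h : Mor F P f) {x : Ω} (hx : x ∈ P) : f x = 1 ↔ x = 1 :=
  ⟨fun e => h.inj hx P.one_mem (e.trans h.map_one.symm), fun e => e ▸ h.map_one⟩

theorem exists_inv (h : Mor F P f) : ∃ g, Mor F (img f P) g ∧ ∀ x ∈ P, g (f x) = x := by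
  obtain ⟨φ, hφ, e⟩ := h
  obtain ⟨ψ, hψ, e'⟩ := F.inv_mem hφ
  rw [img_of_eq φ e]
  refine ⟨ext ψ, mor_of_mem hψ, fun x hx => ?_⟩
  have := e' ⟨x, hx⟩
  rw [← e ⟨x, hx⟩, ext_apply _ (show φ ⟨x, hx⟩ ∈ φ.range from ⟨⟨x, hx⟩, rfl⟩)]
  exact this

/-- a morphism from a finite `P` into `P` is onto. -/
theorem img_eq_of_le [Finite Q] (h : Mor F P f) (hQ : ∀ x ∈ P, f x ∈ Q) (hc : Nat.card Q ≤ Nat.card P) :
    img f P = Q :=
  eq_of_le_of_card_le (img_le_iff.2 hQ) (by rwa [h.card_img])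

theorem img_self [Finite S] (h : Mor F P f) (hP : ∀ x ∈ P, f x ∈ P) : img f P = P :=
  haveI := finite_of_le h.le
  h.img_eq_of_le hP le_rfl

end Mor

/-- an isomorphism of `F` from `P` onto `Q` together with its inverse. -/
structure Iso (F : FusionSystem S) (P Q : Subgroup Ω) (f g : Ω → Ω) : Prop where
  mor : Mor F P f
  mor' : Mor F Q g
  maps : ∀ x ∈ P, f x ∈ Q
  maps' : ∀ y ∈ Q, g y ∈ P
  left : ∀ x ∈ P, g (f x) = x
  right : ∀ y ∈ Q, f (g y) = y

namespace Iso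
variable {F : FusionSystem S} {P Q R : Subgroup Ω} {f g f' g' : Ω → Ω}

theorem symm (h : Iso F P Q f g) : Iso F Q P g f := ⟨h.mor', h.mor, h.maps', h.maps, h.right, h.left⟩

theorem trans (h : Iso F P Q f g) (h' : Iso F Q R f' g') : Iso F P R (fun x => f' (f x)) (fun x => g (g' x)) :=
  ⟨h.mor.comp h'.mor h.maps, h'.mor'.comp h.mor' h'.maps', fun x hx => h'.maps _ (h.maps x hx),
    fun x hx => h.maps' _ (h'.maps' x hx),
    fun x hx => by show g (g' (f' (f x))) = x; rw [h'.left _ (h.maps x hx), h.left x hx],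
    fun x hx => by show f' (f (g (g' x))) = x; rw [h.right _ (h'.maps' x hx), h'.right x hx]⟩

theorem img_eq (h : Iso F P Q f g) : img f P = Q := by
  apply le_antisymm (img_le_iff.2 h.maps)
  intro y hy
  rw [← h.right y hy]; exact mem_img_of_mem f (h.maps' y hy)

theorem card_eq (h : Iso F P Q f g) : Nat.card P = Nat.card Q := by rw [← h.img_eq, h.mor.card_img]

theorem refl (F : FusionSystem S) (hP : P ≤ S) : Iso F P P (fun x => x) (fun x => x) :=
  ⟨Mor.id F hP, Mor.id F hP, fun _ h => h, fun _ h => h, fun _ _ => rfl, fun _ _ => rfl⟩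

/-- restriction of an isomorphism to a subgroup of its source. -/
theorem restrict (h : Iso F P Q f g) {A : Subgroup Ω} (hA : A ≤ P) : Iso F A (img f A) f g := by
  have hm := h.mor.mono hA
  have hle : img f A ≤ Q := img_le_iff.2 fun x hx => h.maps x (hA hx)
  refine ⟨hm, h.mor'.mono hle, fun x hx => mem_img_of_mem f hx, fun y hy => ?_, fun x hx => h.left x (hA hx),
    fun y hy => h.right y (hle hy)⟩
  obtain ⟨x, hx, rfl⟩ := hm.mem_img.1 hy
  rw [h.left x (hA hx)]; exact hx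

theorem restrict' (h : Iso F P Q f g) {A B : Subgroup Ω} (hA : A ≤ P) (hB : img f A = B) : Iso F A B f g :=
  hB ▸ h.restrict hA

theorem mem_iff (h : Iso F P Q f g) {A : Subgroup Ω} (hA : A ≤ P) {x : Ω} (hx : x ∈ P) :
    f x ∈ img f A ↔ x ∈ A := by
  refine ⟨fun hy => ?_, mem_img_of_mem f⟩
  have := (h.restrict hA).maps' _ hy
  rwa [h.left x hx] at this

theorem img_img (h : Iso F P Q f g) {A : Subgroup Ω} (hA : A ≤ P) : img g (img f A) = A :=
  (h.restrict hA).symm.img_eq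

end Iso

theorem Mor.exists_iso {F : FusionSystem S} {P : Subgroup Ω} {f : Ω → Ω} (h : Mor F P f) :
    ∃ g, Iso F P (img f P) f g := by
  obtain ⟨g, hg, e⟩ := h.exists_inv
  refine ⟨g, h, hg, fun x hx => mem_img_of_mem f hx, fun y hy => ?_, e, fun y hy => ?_⟩
  · obtain ⟨x, hx, rfl⟩ := h.mem_img.1 hy
    rw [e x hx]; exact hx
  · obtain ⟨x, hx, rfl⟩ := h.mem_img.1 hy
    rw [e x hx]

theorem Mor.exists_iso' {F : FusionSystem S} {P Q : Subgroup Ω} {f : Ω → Ω} (h : Mor F P f) (hQ : img f P = Q) :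
    ∃ g, Iso F P Q f g := hQ ▸ h.exists_iso

theorem isConj_iff {F : FusionSystem S} {P Q : Subgroup Ω} : F.IsConj P Q ↔ ∃ f, Mor F P f ∧ img f P = Q := by
  constructor
  · rintro ⟨φ, hφ, rfl⟩; exact ⟨ext φ, mor_of_mem hφ, img_ext φ⟩
  · rintro ⟨f, hf, rfl⟩; exact ⟨_, hf.toHom_mem, hf.hom.img_eq_range.symm⟩

theorem isConj_iff_iso {F : FusionSystem S} {P Q : Subgroup Ω} : F.IsConj P Q ↔ ∃ f g, Iso F P Q f g := by
  rw [isConj_iff]
  constructor
  · rintro ⟨f, hf, e⟩; obtain ⟨g, hg⟩ := hf.exists_iso' e; exact ⟨f, g, hg⟩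
  · rintro ⟨f, g, h⟩; exact ⟨f, h.mor, h.img_eq⟩

theorem Iso.isConj {F : FusionSystem S} {P Q : Subgroup Ω} {f g : Ω → Ω} (h : Iso F P Q f g) : F.IsConj P Q :=
  isConj_iff_iso.2 ⟨f, g, h⟩

theorem Mor.isConj {F : FusionSystem S} {P : Subgroup Ω} {f : Ω → Ω} (h : Mor F P f) : F.IsConj P (img f P) :=
  isConj_iff.2 ⟨f, h, rfl⟩

theorem isConj_refl (F : FusionSystem S) {P : Subgroup Ω} (hP : P ≤ S) : F.IsConj P P := (Iso.refl F hP).isConj

theorem isConj_symm {F : FusionSystem S} {P Q : Subgroup Ω} (h : F.IsConj P Q) : F.IsConj Q P := by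
  obtain ⟨f, g, h⟩ := isConj_iff_iso.1 h; exact h.symm.isConj

theorem isConj_trans {F : FusionSystem S} {P Q R : Subgroup Ω} (h : F.IsConj P Q) (h' : F.IsConj Q R) :
    F.IsConj P R := by
  obtain ⟨f, g, h⟩ := isConj_iff_iso.1 h
  obtain ⟨f', g', h'⟩ := isConj_iff_iso.1 h'
  exact (h.trans h').isConj

theorem isConj_le_left {F : FusionSystem S} {P Q : Subgroup Ω} (h : F.IsConj P Q) : P ≤ S := by
  obtain ⟨f, g, h⟩ := isConj_iff_iso.1 h; exact h.mor.le

theorem isConj_le_right {F : FusionSystem S} {P Q : Subgroup Ω} (h : F.IsConj P Q) : Q ≤ S := by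
  obtain ⟨f, g, h⟩ := isConj_iff_iso.1 h; exact h.mor'.le

theorem isConj_card {F : FusionSystem S} {P Q : Subgroup Ω} (h : F.IsConj P Q) : Nat.card P = Nat.card Q := by
  obtain ⟨f, g, h⟩ := isConj_iff_iso.1 h; exact h.card_eq

theorem isConjElt_iff {F : FusionSystem S} {x y : Ω} :
    F.IsConjElt x y ↔ ∃ f, Mor F (Subgroup.zpowers x) f ∧ f x = y := by
  constructor
  · rintro ⟨φ, hφ, rfl⟩; exact ⟨ext φ, mor_of_mem hφ, ext_apply _ _⟩
  · rintro ⟨f, hf, rfl⟩; exact ⟨_, hf.toHom_mem, rfl⟩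

theorem Mor.isConjElt {F : FusionSystem S} {P : Subgroup Ω} {f : Ω → Ω} (h : Mor F P f) {x : Ω} (hx : x ∈ P) :
    F.IsConjElt x (f x) :=
  isConjElt_iff.2 ⟨f, h.mono (by simpa using hx), rfl⟩

/-! ### comparison of systems -/

theorem hom_subset_iff {T : Subgroup Ω} {E : FusionSystem T} {F : FusionSystem S} {P : Subgroup Ω} :
    E.Hom P ⊆ F.Hom P ↔ ∀ f, Mor E P f → Mor F P f :=
  ⟨fun h _ ⟨φ, hφ, e⟩ => ⟨φ, h hφ, e⟩, fun h _ hφ => mem_Hom_iff.2 (h _ (mor_of_mem hφ))⟩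

theorem isSubsystemOf_iff {T : Subgroup Ω} {E : FusionSystem T} {F : FusionSystem S} :
    E.IsSubsystemOf F ↔ ∀ P f, Mor E P f → Mor F P f :=
  forall_congr' fun _ => hom_subset_iff

theorem le_iff {E F : FusionSystem S} : E ≤ F ↔ ∀ P f, Mor E P f → Mor F P f := isSubsystemOf_iff

theorem hom_eq_iff {T : Subgroup Ω} {E : FusionSystem T} {F : FusionSystem S} {P : Subgroup Ω} :
    E.Hom P = F.Hom P ↔ ∀ f, Mor E P f ↔ Mor F P f := by
  rw [Set.Subset.antisymm_iff, hom_subset_iff, hom_subset_iff]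
  exact ⟨fun h f => ⟨h.1 f, h.2 f⟩, fun h => ⟨fun f => (h f).1, fun f => (h f).2⟩⟩

theorem fs_ext {E F : FusionSystem S} (h : ∀ P, E.Hom P = F.Hom P) : E = F := by
  cases E; cases F; congr; funext P; exact h P

theorem fs_ext_mor {E F : FusionSystem S} (h : ∀ P f, Mor E P f ↔ Mor F P f) : E = F :=
  fs_ext fun P => hom_eq_iff.2 (h P)

theorem Mor.sub {T : Subgroup Ω} {E : FusionSystem T} {F : FusionSystem S} (h : E.IsSubsystemOf F)
    {P : Subgroup Ω} {f : Ω → Ω} (hf : Mor E P f) : Mor F P f := isSubsystemOf_iff.1 h P f hf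

theorem le_of_isSubsystemOf {T : Subgroup Ω} {E : FusionSystem T} {F : FusionSystem S} (h : E.IsSubsystemOf F) :
    T ≤ S := ((Mor.id E le_rfl).sub h).le

theorem Iso.sub {T : Subgroup Ω} {E : FusionSystem T} {F : FusionSystem S} (h : E.IsSubsystemOf F)
    {P Q : Subgroup Ω} {f g : Ω → Ω} (hf : Iso E P Q f g) : Iso F P Q f g :=
  ⟨hf.mor.sub h, hf.mor'.sub h, hf.maps, hf.maps', hf.left, hf.right⟩

/-- the source subgroup is determined by the maps. -/
theorem eq_of_hom_eq {T : Subgroup Ω} {E : FusionSystem T} {F : FusionSystem S} (h : ∀ P, E.Hom P = F.Hom P) :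
    T = S :=
  le_antisymm (le_of_isSubsystemOf fun P => (h P).le) (le_of_isSubsystemOf fun P => (h P).ge)

/-! ### building a fusion system from an unbundled predicate -/

/-- data of a fusion system in unbundled form. -/
structure PreFS (S : Subgroup Ω) where
  M : Subgroup Ω → (Ω → Ω) → Prop
  le : ∀ {P f}, M P f → P ≤ S
  mem : ∀ {P f}, M P f → ∀ x ∈ P, f x ∈ S
  hom : ∀ {P f}, M P f → HomOn P f
  inj : ∀ {P f}, M P f → Set.InjOn f P
  congr : ∀ {P f g}, M P f → (∀ x ∈ P, f x = g x) → M P g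
  conj : ∀ {P s}, P ≤ S → s ∈ S → M P (fun x => s * x * s⁻¹)
  comp : ∀ {P Q f g}, M P f → M Q g → (∀ x ∈ P, f x ∈ Q) → M P (fun x => g (f x))
  inv : ∀ {P f}, M P f → ∃ g, M (img f P) g ∧ ∀ x ∈ P, g (f x) = x

/-- the fusion system attached to unbundled data. -/
def PreFS.toFS (D : PreFS S) : FusionSystem S where
  Hom P := {φ | D.M P (ext φ)}
  le_of_mem := fun {P φ} h => ⟨D.le h, fun x => by simpa using D.mem h x x.2⟩
  injective_of_mem := fun {P φ} h a b hab => Subtype.ext (D.inj h a.2 b.2 (by simpa using hab))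
  conj_mem := fun {P g} hP hg => D.congr (D.conj hP hg) fun x hx => by rw [ext_apply _ hx]; rfl
  comp_mem := fun {P Q φ ψ} hφ hψ h => by
    refine D.congr (D.comp hφ hψ fun x hx => ?_) fun x hx => ?_
    · rw [ext_apply _ hx]; exact h _
    · rw [ext_apply _ hx, ext_apply _ hx, ext_apply _ (h _)]; rfl
  inv_mem := fun {P φ} hφ => by
    obtain ⟨g, hg, e⟩ := D.inv hφ
    rw [img_ext] at hg
    refine ⟨(D.hom hg).toHom, D.congr hg fun x hx => by rw [ext_apply _ hx]; rfl, fun x => ?_⟩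
    have := e x x.2
    rw [ext_coe] at this
    exact this

theorem PreFS.mor_iff (D : PreFS S) {P : Subgroup Ω} {f : Ω → Ω} : Mor D.toFS P f ↔ D.M P f := by
  constructor
  · rintro ⟨φ, hφ, e⟩
    exact D.congr hφ fun x hx => by rw [ext_apply _ hx, e]
  · intro h
    exact ⟨(D.hom h).toHom, D.congr h fun x hx => by rw [ext_apply _ hx]; rfl, fun _ => rfl⟩

/-- existence form: a subsystem of `F` over `T` from a predicate. -/
theorem exists_sub (F : FusionSystem S) (T : Subgroup Ω) (M : Subgroup Ω → (Ω → Ω) → Prop)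
    (hsub : ∀ {P f}, M P f → Mor F P f) (hle : ∀ {P f}, M P f → P ≤ T)
    (hmem : ∀ {P f}, M P f → ∀ x ∈ P, f x ∈ T)
    (hcongr : ∀ {P f g}, M P f → (∀ x ∈ P, f x = g x) → M P g)
    (hconj : ∀ {P s}, P ≤ T → s ∈ T → M P (fun x => s * x * s⁻¹))
    (hcomp : ∀ {P Q f g}, M P f → M Q g → (∀ x ∈ P, f x ∈ Q) → M P (fun x => g (f x)))
    (hinv : ∀ {P f g}, M P f → Iso F P (img f P) f g → M (img f P) g) :
    ∃ E : FusionSystem T, ∀ P f, Mor E P f ↔ M P f := by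
  let D : PreFS T := ⟨M, hle, hmem, fun h => (hsub h).hom, fun h => (hsub h).injOn, hcongr, hconj, hcomp,
    fun h => by
      obtain ⟨g, hg⟩ := (hsub h).exists_iso
      exact ⟨g, hinv h hg, hg.left⟩⟩
  exact ⟨D.toFS, fun P f => D.mor_iff⟩

/-! ### the standard systems -/

theorem mor_inner {P : Subgroup Ω} {f : Ω → Ω} :
    Mor (innerFusionSystem S) P f ↔ P ≤ S ∧ ∃ s ∈ S, ∀ x ∈ P, f x = s * x * s⁻¹ := by
  constructor
  · rintro ⟨φ, ⟨hP, s, hs, h⟩, e⟩
    exact ⟨hP, s, hs, fun x hx => (e ⟨x, hx⟩).symm.trans (h ⟨x, hx⟩)⟩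
  · rintro ⟨hP, s, hs, h⟩
    exact (Mor.conj _ hP hs).congr fun x hx => (h x hx).symm

theorem mor_group {P : Subgroup Ω} {f : Ω → Ω} :
    Mor (groupFusionSystem S) P f ↔ P ≤ S ∧ (∀ x ∈ P, f x ∈ S) ∧ ∃ g : Ω, ∀ x ∈ P, f x = g * x * g⁻¹ := by
  constructor
  · rintro ⟨φ, ⟨hP, hm, s, h⟩, e⟩
    exact ⟨hP, fun x hx => (e ⟨x, hx⟩) ▸ hm ⟨x, hx⟩, s, fun x hx => (e ⟨x, hx⟩).symm.trans (h ⟨x, hx⟩)⟩
  · rintro ⟨hP, hm, s, h⟩
    exact ⟨conjHom P s, ⟨hP, fun x => by have := hm x x.2; rw [h x x.2] at this; exact this, s, fun _ => rfl⟩,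
      fun x => (h x x.2).symm⟩

theorem mor_ofSubgroup {H : Subgroup Ω} (hSH : S ≤ H) {P : Subgroup Ω} {f : Ω → Ω} :
    Mor (fusionSystemOfSubgroup H S hSH) P f ↔
      P ≤ S ∧ (∀ x ∈ P, f x ∈ S) ∧ ∃ g ∈ H, ∀ x ∈ P, f x = g * x * g⁻¹ := by
  constructor
  · rintro ⟨φ, ⟨hP, hm, s, hs, h⟩, e⟩
    exact ⟨hP, fun x hx => (e ⟨x, hx⟩) ▸ hm ⟨x, hx⟩, s, hs, fun x hx => (e ⟨x, hx⟩).symm.trans (h ⟨x, hx⟩)⟩
  · rintro ⟨hP, hm, s, hs, h⟩
    exact ⟨conjHom P s, ⟨hP, fun x => by have := hm x x.2; rw [h x x.2] at this; exact this, s, hs,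
      fun _ => rfl⟩, fun x => (h x x.2).symm⟩

theorem inner_sub (F : FusionSystem S) : (innerFusionSystem S).IsSubsystemOf F := by
  rw [isSubsystemOf_iff]
  intro P f hf
  obtain ⟨hP, s, hs, h⟩ := mor_inner.1 hf
  exact (Mor.conj F hP hs).congr fun x hx => (h x hx).symm

/-- `F` has only inner maps. -/
theorem hom_eq_inner_iff {F : FusionSystem S} : (∀ P, F.Hom P = (innerFusionSystem S).Hom P) ↔
    ∀ P f, Mor F P f → ∃ s ∈ S, ∀ x ∈ P, f x = s * x * s⁻¹ := by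
  constructor
  · intro h P f hf
    exact (mor_inner.1 ((hom_eq_iff.1 (h P) f).1 hf)).2
  · intro h P
    rw [hom_eq_iff]
    exact fun f => ⟨fun hf => mor_inner.2 ⟨hf.le, h P f hf⟩, fun hf => hf.sub (inner_sub F)⟩

end H14
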