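import Cfsg.Agent.H14.CharP
import Cfsg.Agent.H3.FStab

/-! `p`-stability of fusion systems is local. -/

set_option autoImplicit false
set_option linter.unusedSectionVars false
set_option linter.unusedVariables false

namespace H14.Fus

open Equiv Cfsg Cfsg.FusionSystem H13

variable {Ω : Type*} [Group Ω] {S T : Subgroup Ω} {F : FusionSystem S} {E : FusionSystem T} {p : ℕ}
  [Finite S] [Fact p.Prime]

/-- automorphisms of a fully normalized subgroup extend to the preimage of `O_p(Aut_F(Q))` -/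
theorem exists_ext_nk_op (hS : IsPGroup p S) (hF : F.IsSaturated p) {Q : Subgroup Ω}
    (hQ : F.IsFullyNormalized Q) {σ : Perm Ω} (hσ : Iso F Q Q σ) :
    ∃ τ, Iso F (NK S Q (Op p (AutF F Q))) (NK S Q (Op p (AutF F Q))) τ ∧ ∀ x ∈ Q, τ x = σ x := by
  obtain ⟨τ, h1, h2⟩ := extend_of_normalizes hS hF (fullyCentralized_of_fullyNormalized hS hF hQ)
    hσ.rs (fn_syl hS hF hQ).op_le (le_normalizer_op p _ hσ.rs_mem)
  have h3 : ∀ x ∈ Q, τ x = σ x := fun x hx => by rw [h2 x hx, rs_apply hσ.maps hx]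
  have h4 := h1.restrict (le_sup_right : NK S Q (Op p (AutF F Q)) ≤ _)
  exact ⟨τ, h4.iso_self fun x hx => h4.mem_nk_op (le_nk_op hS hQ.1)
    (hσ.maps.congr fun y hy => (h3 y hy).symm) hx hx, h3⟩

theorem cr_of_nk_le (hS : IsPGroup p S) (hF : F.IsSaturated p) {Q : Subgroup Ω}
    (hQ : F.IsFullyNormalized Q) (h : NK S Q (Op p (AutF F Q)) ≤ Q) :
    F.IsCentric Q ∧ F.IsRadical p Q := by
  refine ⟨centric_of_fullyCentralized (fullyCentralized_of_fullyNormalized hS hF hQ) fun g hg =>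
    h (mem_nk.2 ⟨centralizerIn_le_normalizerIn _ _ hg, ?_⟩),
    radical_iff.2 ⟨hQ.1, le_antisymm (fun α hα => ?_) (inn_le_op hS F hQ.1)⟩⟩
  · rw [(cr_eq_one_iff (centralizerIn_le_normalizerIn _ _ hg).2).2 hg.2]
    exact one_mem _
  · obtain ⟨g, h1, h2, rfl⟩ := mem_autBy.1 ((fn_syl hS hF hQ).op_le hα)
    exact mem_autBy.2 ⟨g, h (mem_nk.2 ⟨⟨h1, h2⟩, hα⟩), h2, rfl⟩

/-- every subgroup is conjugate to one whose automorphisms all extend to a fixed centric radical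
fully normalized overgroup -/
theorem exists_cr_over (hS : IsPGroup p S) (hF : F.IsSaturated p) {W : Subgroup Ω} (hW : W ≤ S) :
    ∃ W' σ R, Iso F W W' σ ∧ W' ≤ R ∧ F.IsCentric R ∧ F.IsRadical p R ∧ F.IsFullyNormalized R ∧
      ∀ α, Iso F W' W' α → ∃ τ, Iso F R R τ ∧ ∀ x ∈ W', τ x = α x := by
  suffices H : ∀ n (W R : Subgroup Ω), Nat.card S - Nat.card R = n → W ≤ R → R ≤ S →
      (∀ α, Iso F W W α → ∃ τ, Iso F R R τ ∧ ∀ x ∈ W, τ x = α x) →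
      ∃ W' σ R, Iso F W W' σ ∧ W' ≤ R ∧ F.IsCentric R ∧ F.IsRadical p R ∧ F.IsFullyNormalized R ∧
        ∀ α, Iso F W' W' α → ∃ τ, Iso F R R τ ∧ ∀ x ∈ W', τ x = α x from
    H _ W W rfl le_rfl hW fun α hα => ⟨α, hα, fun _ _ => rfl⟩
  intro n
  induction n using Nat.strong_induction_on with
  | _ n ih =>
  intro W R hn hWR hR h
  obtain ⟨Q, σ, hσ, hQ⟩ := exists_fullyNormalized F hR
  have h1 := hσ.mor.iso_of_le hWR
  have h2 : img σ W ≤ Q := hσ.img_eq ▸ img_mono σ hWR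
  have h3 : ∀ α, Iso F (img σ W) (img σ W) α → ∃ τ, Iso F Q Q τ ∧ ∀ x ∈ img σ W, τ x = α x := by
    intro α hα
    obtain ⟨τ, a1, a2⟩ := h _ (h1.inv.mul (hα.mul h1))
    refine ⟨_, hσ.mul (a1.mul hσ.inv), fun x hx => ?_⟩
    simp only [mul_ap, a2 _ (h1.inv_mem hx), ap_inv]
  by_cases hc : NK S Q (Op p (AutF F Q)) ≤ Q
  · obtain ⟨a1, a2⟩ := cr_of_nk_le hS hF hQ hc
    exact ⟨_, σ, Q, h1, h2, a1, a2, hQ, h3⟩
  have h4 : Q < NK S Q (Op p (AutF F Q)) := lt_of_le_not_ge (le_nk_op hS hQ.1) hc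
  have h5 : NK S Q (Op p (AutF F Q)) ≤ S := fun x hx => (mem_nk.1 hx).1.1
  have := finite_of_le h5
  have h6 := card_lt_of_lt h4
  have h7 := Subgroup.card_le_of_le h5
  obtain ⟨W', σ', R', b1, b2⟩ := ih _ (by rw [← hn, hσ.card_eq]; omega) (img σ W) _ rfl
    (h2.trans h4.le) h5 fun α hα => by
      obtain ⟨τ, a1, a2⟩ := h3 α hα
      obtain ⟨τ', a3, a4⟩ := exists_ext_nk_op hS hF hQ a1
      exact ⟨τ', a3, fun x hx => by rw [a4 x (h2 hx), a2 x hx]⟩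
  exact ⟨W', _, R', b1.mul h1, b2⟩

theorem pst_conj {W W' : Subgroup Ω} {σ : Perm Ω} (hσ : Iso F W W' σ)
    (h : ∀ a ∈ AutF F W', (∀ w ∈ W', a (w⁻¹ * a w) = w⁻¹ * a w) → a ∈ Op p (AutF F W')) :
    ∀ a ∈ AutF F W, (∀ w ∈ W, a (w⁻¹ * a w) = w⁻¹ * a w) → a ∈ Op p (AutF F W) := by
  intro a ha hq
  refine H3.mem_op_of_conj hσ.maps_autF (h _ (hσ.conj_mem_autF ha) fun w hw => ?_)
  have hx := hσ.inv_mem hw
  have hm := maps_of_mem_autF ha
  have e : w⁻¹ * (σ * a * σ⁻¹ : Perm Ω) w = σ ((σ⁻¹ w)⁻¹ * a (σ⁻¹ w)) := by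
    rw [hσ.hom.map_mul (inv_mem hx) (hm.mem hx), hσ.hom.map_inv hx, ap_inv]; rfl
  rw [e, mul_ap, mul_ap, inv_ap, hq _ hx]

theorem stmt_of_pSt (h : H3.PSt p F) (Q : Subgroup Ω) (hQ : F.IsFullyNormalized Q) (χ : MulAut Q)
    (hχ : χ ∈ F.autGroup Q) (hq : ∀ a : Q, χ a⁻¹ * a * χ a⁻¹ * χ (χ a) = 1) :
    χ ∈ (pCore p (F.autGroup Q)).map (F.autGroup Q).subtype := by
  have h1 := h Q hQ.1 _ (ext_mem_autF.2 hχ) fun w hw => by
    have a1 := ext_coe χ ⟨w, hw⟩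
    have a2 := ext_coe χ ((⟨w, hw⟩ : Q)⁻¹ * χ ⟨w, hw⟩)
    have a3 : χ ((⟨w, hw⟩ : Q)⁻¹ * χ ⟨w, hw⟩) = (⟨w, hw⟩ : Q)⁻¹ * χ ⟨w, hw⟩ := by
      have := hq ⟨w, hw⟩
      rw [map_mul]
      calc _ = (⟨w, hw⟩ : Q)⁻¹ * χ ⟨w, hw⟩ *
        (χ (⟨w, hw⟩ : Q)⁻¹ * ⟨w, hw⟩ * χ (⟨w, hw⟩ : Q)⁻¹ * χ (χ ⟨w, hw⟩)) := by
            simp only [map_inv]; group
        _ = _ := by rw [this, mul_one]
    rw [a3] at a2
    simp only [Subgroup.coe_mul, Subgroup.coe_inv] at a1 a2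
    rw [a1]; exact a2
  rw [← op_autF] at h1
  obtain ⟨β, hβ, e⟩ := h1
  rwa [← ext_injective Q e]

theorem pSt_of_cr (hS : IsPGroup p S) (hF : F.IsSaturated p)
    (h : ∀ R (hR : F.IsFullyNormalized R), F.IsCentric R → F.IsRadical p R →
      H3.PSt p (Nsys F R hR.1)) : H3.PSt p F := by
  intro W hW
  obtain ⟨W', σ, R, h1, h2, h3, h4, h5, h6⟩ := exists_cr_over hS hF hW
  refine pst_conj h1 ?_
  have hN := isNormalizerSystem_nsys F R h5.1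
  have hW' : W' ≤ normalizerIn S R := h2.trans (le_normalizerIn h5.1)
  have e : AutF (Nsys F R h5.1) W' = AutF F W' := by
    refine le_antisymm (autF_mono (H13.normalizerSystem_sub hN) hW') fun α hα => ?_
    obtain ⟨τ, a1, a2⟩ := h6 α (iso_of_mem_autF h1.le' hα)
    have := finite_of_le (normalizerIn_le S R)
    exact (mem_autF hW').2 ⟨⟨((mor_normalizer_of_le hN le_rfl (le_normalizerIn h5.1) a1.mor
      a1.maps).restrict h2).congr a2, maps_of_mem_autF hα⟩, fix_of_mem_autF hα⟩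
  rw [← e]
  exact h R h5 h3 h4 W' hW'

theorem pst_cyclic (hS : IsPGroup p S) {W : Subgroup Ω} (hW : W ≤ S) (hc : IsCyclic W) :
    ∀ a ∈ AutF F W, (∀ w ∈ W, a (w⁻¹ * a w) = w⁻¹ * a w) → a ∈ Op p (AutF F W) := by
  intro a ha hq
  have := finite_of_le hW
  have h1 : FixIn (homOn_of_mem_autF ha) ≤ W := fun x hx => hx.1
  have := finite_of_le h1
  refine mem_op_of_chain2 (hS.to_le hW) h1 (autF_le_autAll F W) (fun β hβ => ?_) ha
    (fun x hx => hx.2) fun x hx => ⟨mul_mem (inv_mem hx) ((maps_of_mem_autF ha).mem hx), hq x hx⟩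
  refine ((homOn_of_mem_autF hβ).mono h1).maps_of_mem fun x hx => ?_
  obtain ⟨g, hg⟩ := hc.exists_zpow_surjective
  obtain ⟨k, hk⟩ := hg ⟨β g, (maps_of_mem_autF hβ).mem g.2⟩
  obtain ⟨m, hm⟩ := hg ⟨x, h1 hx⟩
  have hk' : (g : Ω) ^ k = β g := congrArg Subtype.val hk
  have hm' : (g : Ω) ^ m = x := congrArg Subtype.val hm
  have e : β x = x ^ k := by
    rw [← hm', (homOn_of_mem_autF hβ).map_zpow g.2, ← hk', ← zpow_mul, ← zpow_mul, mul_comm]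
  rw [e]; exact zpow_mem hx k

end H14.Fus
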