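import Cfsg.Agent.H14.CharP

/-! Residual limits and subsystems determined by normal subgroups of `Aut_F(T)`. -/

set_option autoImplicit false
set_option linter.unusedSectionVars false
set_option linter.unusedVariables false

namespace H14.Fus

open Equiv Cfsg Cfsg.FusionSystem H13

variable {Ω : Type*} [Group Ω] {S T U : Subgroup Ω} {F : FusionSystem S} {E : FusionSystem T}
  {C : FusionSystem U} {p : ℕ}

/-- `C = O^p(C) = O^{p'}(C)` -/
def Prf (C : FusionSystem U) (p : ℕ) : Prop :=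
  C.IsSaturated p ∧ C.hyperfocalSubgroup p = U ∧ OPp C p = C

variable [Finite S] [Fact p.Prime]

theorem inv_pPowerIndex (hS : IsPGroup p S) (hI : Inv E F) (hE : E.IsSaturated p)
    (hC : C.IsSaturated p) (h : C.HasPPowerIndexIn E p) (hU : E.StronglyClosed U)
    (hm : ∀ γ, Iso F T T γ → Maps U U γ) : Inv C F := by
  have := finite_of_le hI.le
  have hT := hS.to_le hI.le
  exact inv_of_char hI (nrm_inv (normalIn_of_pPowerIndex hT hE hU hC h)) fun γ hγ P σ hσ =>
    conj_of_pPowerIndex hT hC h (hγ.hom.mono hU.1) (hm γ hγ)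
      (fun P σ hσ => hI.conj_perm (hσ.of_sub h.1) hγ) hσ

theorem Inv.maps_hyp (hI : Inv E F) {γ : Perm Ω} (hγ : Iso F T T γ) :
    Maps (E.hyperfocalSubgroup p) (E.hyperfocalSubgroup p) γ := by
  have := finite_of_le hI.le
  exact (hγ.hom.mono (H13.hyp_le E p)).maps_iff.2 (hI.fIso hγ).fac.img_hyp

theorem inv_pResidual (hS : IsPGroup p S) (hI : Inv E F) (hE : E.IsSaturated p)
    {D : FusionSystem (E.hyperfocalSubgroup p)} (h : E.IsPResidual p D) : Inv D F := by
  have := finite_of_le hI.le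
  exact inv_pPowerIndex hS hI hE h.1 h.2 (H13.sc_hyp (hS.to_le hI.le) hE) fun γ hγ => hI.maps_hyp hγ

theorem Prf.sub_of_pPowerIndex (hS : IsPGroup p S) (hC : Prf C p) (h1 : C.IsSubsystemOf F)
    (h : E.HasPPowerIndexIn F p) : C.IsSubsystemOf E :=
  H13.sub_of_pPowerIndex hS hC.1 h1 h (hC.2.1.ge.trans ((H13.hyp_mono h1).trans h.2.1))

theorem Prf.sub_of_inv (hS : IsPGroup p S) (hF : F.IsSaturated p) (hC : Prf C p) (h1 : Inv C F)
    (hI : Inv E F) (hE : E.IsSaturated p) (h : U ≤ T) : C.IsSubsystemOf E :=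
  hC.2.2 ▸ opp_le_of_inv hS hF h1 hC.1 hI hE h

omit [Finite S] in
theorem limit_aux {q : ℕ} (h : C.IsResidualLimitOf F q) : q = p → Finite S → IsPGroup p S →
    F.IsSaturated p → Prf C p ∧
      (∀ (S' : Subgroup Ω) (F' : FusionSystem S'), Finite S' → IsPGroup p S' → Inv F F' → Inv C F') ∧
      ∀ (V : Subgroup Ω) (L : FusionSystem V), Prf L p → Inv L F → L.IsSubsystemOf C := by
  induction h with
  | stable F q h1 h2 =>
    rintro rfl _ hS hF
    exact ⟨⟨hF, h1, (eq_opp hS hF h2).symm⟩, fun _ _ _ _ h => h, fun _ _ _ h => h.sub⟩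
  | @step S E F q D D' h1 h2 _ ih =>
    rintro rfl _ hS hF
    have hl := H13.hyp_le F q
    have := finite_of_le hl
    have hS' := hS.to_le hl
    obtain rfl := eq_opp hS' h1.1 h2
    obtain ⟨a1, a2, a3⟩ := ih rfl inferInstance hS' h2.1
    refine ⟨a1, fun S' F' _ b1 b2 => a2 S' F' inferInstance b1
      (inv_opp b1 (inv_pResidual b1 b2 hF h1) h1.1), fun V L b1 b2 => ?_⟩
    have b3 := b1.sub_of_pPowerIndex hS b2.sub h1.2
    have b4 := b2.of_sub hS h1.1 b3 h1.2.1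
    have b5 := b1.sub_of_inv hS' h1.1 b4 (inv_opp hS' (inv_self D) h1.1) h2.1 b4.le
    exact a3 V L b1 (b4.of_sub hS' h2.1 b5 (opp_sub D q))

theorem limit_prf (hS : IsPGroup p S) (hF : F.IsSaturated p) (h : C.IsResidualLimitOf F p) :
    Prf C p := (limit_aux h rfl inferInstance hS hF).1

theorem limit_inv' (hS : IsPGroup p S) (hI : Inv E F) (hE : E.IsSaturated p)
    (h : C.IsResidualLimitOf E p) : Inv C F :=
  (limit_aux h rfl (finite_of_le hI.le) (hS.to_le hI.le) hE).2.1 S F inferInstance hS hI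

theorem limit_inv (hS : IsPGroup p S) (hF : F.IsSaturated p) (h : C.IsResidualLimitOf F p) :
    Inv C F := limit_inv' hS (inv_self F) hF h

theorem sub_limit (hS : IsPGroup p S) (hF : F.IsSaturated p) (h : C.IsResidualLimitOf F p)
    {V : Subgroup Ω} {L : FusionSystem V} (h1 : Prf L p) (h2 : Inv L F) : L.IsSubsystemOf C :=
  (limit_aux h rfl inferInstance hS hF).2.2 V L h1 h2

/-- the residual limits of `F` and of a weakly normal subsystem containing `F^∞` agree -/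
theorem limit_eq (hS : IsPGroup p S) (hF : F.IsSaturated p) (hI : Inv E F) (hE : E.IsSaturated p)
    (h : C.IsResidualLimitOf F p) {V : Subgroup Ω} {L : FusionSystem V}
    (hL : L.IsResidualLimitOf E p) (hCE : C.IsSubsystemOf E) : ∀ P, C.Hom P = L.Hom P := by
  have := finite_of_le hI.le
  have hT := hS.to_le hI.le
  exact fun P => Set.Subset.antisymm
    (sub_limit hT hE hL (limit_prf hS hF h) ((limit_inv hS hF h).of_sub hS hE hCE hI.sub) P)
    (sub_limit hS hF h (limit_prf hT hE hL) (limit_inv' hS hI hE hL) P)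

/-- `Aut_{hyp(F)}(T) ≤ O^p(Aut_F(T)) Inn(T)` -/
theorem hyp_le_nk (hS : IsPGroup p S) (hF : F.IsSaturated p) (hT : F.StronglyClosed T)
    {K : Subgroup (Perm Ω)} (h1 : OUp p (AutF F T) ≤ K) (h2 : AutBy T T ≤ K) :
    F.hyperfocalSubgroup p ≤ NK S T K := by
  obtain ⟨Ω', _, _, D, θ, hθ, hk⟩ := exists_quot' hS hF hT
  have hN := sc_le_normalizer hT
  have hTK : T ≤ NK S T K := fun t ht =>
    mem_nk.2 ⟨le_normalizerIn hT.1 ht, h2 (cr_mem_autBy ht (Subgroup.le_normalizer ht))⟩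
  have hKS : NK S T K ≤ S := nk_le' _ _ _
  rw [← pre_img_of_le hθ.hom hKS (hk.le.trans hTK), le_pre_iff hθ.hom (H13.hyp_le F p), hθ.img_hyp]
  refine H14.Fus.hyp_le_iff.2 fun P' hP' α' hα' hc y hy => ?_
  have hP : pre S θ P' ≤ S := pre_le _ _ _
  have hTP : T ≤ pre S θ P' := hk.ge.trans (ker_le_pre hθ.hom P')
  have := finite_autF_of_le F hP
  have e1 := hθ.img_ind_autF hP (ker_le_pre hθ.hom P')
  rw [hθ.img_pre hP'] at e1
  have hh := hθ.fHom.homOn_ind hP
  obtain ⟨α, hα, rfl⟩ := hh.mem_img.1 (e1.ge hα')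
  obtain ⟨n, e2, hc'⟩ := exists_coprime_lift hh hα hc
  have hβ := pow_mem hα n
  obtain ⟨x, hx, rfl⟩ := hθ.exists_pre hP' hy
  have hm := maps_of_mem_autF hβ
  rw [← e2, (hθ.fHom.ind_spec hP hβ).2 x hx, ← hθ.hom.map_inv (hP hx),
    ← hθ.hom.map_mul (S.inv_mem (hP hx)) (hP (hm.mem hx))]
  have hy' := mul_mem (inv_mem hx) (hm.mem hx)
  refine mem_img_of_mem θ (mem_nk.2 ⟨⟨hP hy', hN (hP hy')⟩, h1 ?_⟩)
  have hm' := sc_maps hT (iso_of_mem_autF hP hβ).mor hTP
  have a1 := mem_oUp_of_coprime (rs_mem_autF hTP hP hβ hm') (orderOf_rs_coprime hm' hc')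
  have a2 := cr_mem_autF F hT.1 (hP hx) (hN (hP hx))
  rw [(homOn_cr T).map_mul (hN (S.inv_mem (hP hx))) (hN (hP (hm.mem hx))),
    (homOn_cr T).map_inv (hN (hP hx)), ← (homOn_of_mem_autF hβ).conj_cr hTP hm' hx (hN (hP hx)),
    conj_congr hm' (maps_cr (hN (hP hx))) (fun y hy => cr_apply_of_not_mem x hy)
      fun y hy => (rs_apply hm' hy).symm,
    show ∀ a b : Perm Ω, a⁻¹ * (b * a * b⁻¹) = a⁻¹ * b * a⁻¹⁻¹ * b⁻¹ from fun a b => by group]
  exact mul_mem (conj_mem_of_normalizer (le_normalizer_oUp p _ (inv_mem a2)) a1) (inv_mem a1)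

end H14.Fus
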