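import Cfsg.Agent.H24.Tor2
import Cfsg.Agent.H24.SC
import Cfsg.Agent.H24.Misc
import Cfsg.Agent.H20.CR3

/-! Semisimple classes of simply connected adjoint Chevalley groups: lattice lemmas. -/

set_option autoImplicit false
set_option linter.unusedVariables false
set_option linter.unusedSectionVars false
set_option linter.style.haveILetI false

namespace H14.SS
open H24 H24.St0 Finset

section lat
variable {ι : Type} [Fintype ι] [DecidableEq ι] {k : Type*} [Field k]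

/-- common kernel of the characters given by the rows of `A` -/
def Ker (k : Type*) [Field k] (A : Matrix ι ι ℤ) : Subgroup (ι → kˣ) := (RS.mx (k := k) A).ker

theorem mem_Ker {A : Matrix ι ι ℤ} {c : ι → kˣ} : c ∈ Ker k A ↔ ∀ i, RS.chi c (A i) = 1 := funext_iff

/-- `chi c` as a linear map -/
def chiL (c : ι → kˣ) : (ι → ℤ) →ₗ[ℤ] Additive kˣ :=
  (AddMonoidHom.mk' (fun v => Additive.ofMul (RS.chi c v)) fun u v => by rw [RS.chi_add]; rfl).toIntLinearMap

theorem chiL_apply (c : ι → kˣ) (v : ι → ℤ) : chiL c v = Additive.ofMul (RS.chi c v) := rfl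

theorem card_Ker [IsAlgClosed k] (A : Matrix ι ι ℤ) (h : (A.det : k) ≠ 0) :
    Nat.card (Ker k A) = A.det.natAbs := by
  have h0 : A.det ≠ 0 := by rintro e; simp [e] at h
  let f : (ι → ℤ) →ₗ[ℤ] (ι → ℤ) := Matrix.toLin' A.transpose
  have hd : LinearMap.det f = A.det := by simp [f, LinearMap.det_toLin']
  have hf : Function.Injective f := by
    rw [← LinearMap.ker_eq_bot, eq_bot_iff]
    intro v hv
    exact Matrix.eq_zero_of_mulVec_eq_zero (M := A.transpose) (by simpa using h0) hv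
  have hs : ∀ i, f (Pi.single i 1) = A i := fun i => by
    funext j; simp [f]
  set N := LinearMap.range f
  have h1 : Nat.card ((ι → ℤ) ⧸ N) = A.det.natAbs := by
    rw [← Submodule.natAbs_det_equiv N (LinearEquiv.ofInjective f hf), ← hd]
    rfl
  have : Finite ((ι → ℤ) ⧸ N) := Nat.finite_of_card_ne_zero (by rw [h1]; simpa using h0)
  have : NeZero ((Monoid.exponent (Multiplicative ((ι → ℤ) ⧸ N)) : ℕ) : k) := ⟨fun e => h (by
    obtain ⟨m, hm⟩ := Group.exponent_dvd_nat_card (G := Multiplicative ((ι → ℤ) ⧸ N))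
    rw [Nat.card_congr Multiplicative.toAdd, h1] at hm
    have : ((A.det.natAbs : ℕ) : k) = 0 := by rw [hm, Nat.cast_mul, e, zero_mul]
    rcases Int.natAbs_eq A.det with e' | e'
    · rw [e', Int.cast_natCast, this]
    · rw [e', Int.cast_neg, Int.cast_natCast, this, neg_zero])⟩
  rw [← h1, ← Nat.card_congr (Multiplicative.toAdd (α := (ι → ℤ) ⧸ N)),
    ← CommGroup.card_monoidHom_of_hasEnoughRootsOfUnity (Multiplicative ((ι → ℤ) ⧸ N)) k]
  have key : ∀ (φ : Multiplicative ((ι → ℤ) ⧸ N) →* kˣ) v,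
      RS.chi (fun i => φ (Multiplicative.ofAdd (N.mkQ (Pi.single i 1)))) v = φ (Multiplicative.ofAdd (N.mkQ v)) := by
    intro φ v
    conv_rhs => rw [RS.eq_sum_single v]
    rw [map_sum, ofAdd_sum, _root_.map_prod, RS.chi]
    exact prod_congr rfl fun i _ => by rw [map_zsmul, ofAdd_zsmul, map_zpow]
  symm
  refine Nat.card_eq_of_bijective (fun φ => ⟨fun i => φ (Multiplicative.ofAdd (N.mkQ (Pi.single i 1))),
    mem_Ker.2 fun i => ?_⟩) ⟨fun φ ψ e => ?_, fun c => ?_⟩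
  · rw [key, ← hs, Submodule.mkQ_apply, (Submodule.Quotient.mk_eq_zero _).2 (LinearMap.mem_range_self f _)]
    simp
  · refine MonoidHom.ext fun x => ?_
    obtain ⟨v, hv⟩ := N.mkQ_surjective x.toAdd
    have : x = Multiplicative.ofAdd (N.mkQ v) := by rw [hv]; rfl
    rw [this, ← key, ← key]
    exact congrArg (RS.chi · v) (congrArg Subtype.val e)
  · have hN : N ≤ LinearMap.ker (chiL c.1) := by
      rintro _ ⟨v, rfl⟩
      rw [RS.eq_sum_single v, map_sum]
      refine sum_mem fun i _ => ?_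
      rw [map_zsmul, hs]
      exact zsmul_mem (show chiL c.1 (A i) = 0 by rw [chiL_apply, mem_Ker.1 c.2 i]; rfl) _
    refine ⟨AddMonoidHom.toMultiplicativeLeft (N.liftQ _ hN).toAddMonoidHom, Subtype.ext (funext fun i => ?_)⟩
    exact RS.chi_single c.1 i

variable {Φ : Type} [Fintype Φ] [DecidableEq Φ] (R : RS ι Φ)

/-- the matrix `q - w` on the root lattice -/
def qM (q : ℤ) (w : Equiv.Perm Φ) : Matrix ι ι ℤ := fun i => q • Pi.single i 1 - R.rt (w (R.sim i))

open Classical in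
theorem sum_det (q : ℤ) : ∑ w ∈ univ.filter (· ∈ R.W), (qM R q w).det = Nat.card R.W * q ^ Fintype.card ι := by
  let E : Finset ι → Equiv.Perm Φ → Matrix ι ι ℤ := fun S w i =>
    if i ∈ S then q • Pi.single i 1 - R.rt (w (R.sim i)) else q • Pi.single i 1
  have key : ∀ S, ∑ w ∈ univ.filter (· ∈ R.W), (E S w).det = Nat.card R.W * q ^ Fintype.card ι := by
    intro S
    induction S using Finset.induction_on with
    | empty =>
      have : ∀ w, E ∅ w = q • (1 : Matrix ι ι ℤ) := fun w => by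
        ext i j; simp [E, Matrix.one_apply, Pi.single_apply, eq_comm]
      simp only [this, Matrix.det_smul, Matrix.det_one, mul_one, sum_const, nsmul_eq_mul]
      rw [Nat.card_eq_fintype_card, Fintype.card_subtype]
    | insert a S ha ih =>
      let D : Equiv.Perm Φ → ℤ := fun w => ((E S w).updateRow a (R.rt (w (R.sim a)))).det
      have h1 : ∀ w, (E (insert a S) w).det = (E S w).det - D w := fun w => by
        have e1 : E (insert a S) w = (E S w).updateRow a (E S w a + (-1 : ℤ) • R.rt (w (R.sim a))) := by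
          funext i
          by_cases hi : i = a
          · subst hi; rw [Matrix.updateRow_self]; simp [E, ha, sub_eq_add_neg]
          · rw [Matrix.updateRow_ne hi]; simp [E, hi]
        rw [e1, Matrix.det_updateRow_add, Matrix.updateRow_eq_self, Matrix.det_updateRow_smul]
        simp [D, sub_eq_add_neg]
      have h2 : ∀ w ∈ R.W, D (w * R.s a) = - D w := fun w hw => by
        have hA := R.W_le_Aut hw
        have e0 : R.rt ((w * R.s a) (R.sim a)) = (-1 : ℤ) • R.rt (w (R.sim a)) := by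
          rw [Equiv.Perm.mul_apply, R.s_sim, RS.Aut.neg hA, R.rt_neg]; simp
        simp only [D]
        rw [e0, Matrix.det_updateRow_smul, neg_one_mul, neg_inj]
        refine Matrix.det_eq_of_forall_row_eq_smul_add_const
          (fun i => if i ∈ S then R.A (R.sim a) (R.sim i) else 0) a (by simp [ha]) fun i j => ?_
        by_cases hi : i = a
        · subst hi; simp [ha]
        · rw [Matrix.updateRow_ne hi, Matrix.updateRow_ne hi, Matrix.updateRow_self]
          simp only [E]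
          split_ifs with h
          · rw [Equiv.Perm.mul_apply, ← RS.Aut.lin_rt hA (R.s a _), R.rt_s, map_sub, map_zsmul, RS.Aut.lin_rt hA,
              RS.Aut.lin_rt hA]
            simp; ring
          · simp
      have h3 : ∑ w ∈ univ.filter (· ∈ R.W), D w = 0 := by
        have : ∑ w ∈ univ.filter (· ∈ R.W), D w = ∑ w ∈ univ.filter (· ∈ R.W), D (w * R.s a) := by
          refine sum_nbij' (· * R.s a) (· * R.s a) ?_ ?_ ?_ ?_ ?_ <;>
            simp [mul_assoc, R.s_mul_s, mul_mem_cancel_right (R.s_mem_W a)]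
        rw [sum_congr rfl fun w hw => h2 w (by simpa using hw), sum_neg_distrib] at this
        omega
      rw [sum_congr rfl fun w _ => h1 w, sum_sub_distrib, ih, h3, sub_zero]
  rw [← key univ]
  exact sum_congr rfl fun w _ => congrArg _ (funext fun i => by simp [E, qM])

theorem mx_mx (A B : Matrix ι ι ℤ) (c : ι → kˣ) : RS.mx A (RS.mx B c) = RS.mx (A * B) c := by
  funext j
  change ∏ i, RS.chi c (B i) ^ A j i = RS.chi c _
  rw [show (A * B) j = ∑ i, A j i • B i by funext l; simp [Matrix.mul_apply], RS.chi_sum]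
  exact prod_congr rfl fun i _ => (RS.chi_smul _ _ _).symm

theorem mx_one (c : ι → kˣ) : RS.mx (1 : Matrix ι ι ℤ) c = c := by
  funext j
  change RS.chi c _ = _
  rw [show (1 : Matrix ι ι ℤ) j = Pi.single j 1 by funext l; simp [Matrix.one_apply, Pi.single_apply, eq_comm],
    RS.chi_single]

theorem chi_pow (c : ι → kˣ) (n : ℕ) (v : ι → ℤ) : RS.chi (c ^ n) v = RS.chi c v ^ n := by
  induction n with
  | zero => simp [RS.chi_one]
  | succ n ih => rw [pow_succ, pow_succ, RS.chi_mul, ih]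

theorem chi_zpow (c : ι → kˣ) (n : ℤ) (v : ι → ℤ) : RS.chi (c ^ n) v = RS.chi c v ^ n := by
  obtain ⟨m, rfl | rfl⟩ := n.eq_nat_or_neg
  · rw [zpow_natCast, zpow_natCast, chi_pow]
  · rw [zpow_neg, zpow_neg, zpow_natCast, zpow_natCast, RS.chi_inv, chi_pow]

/-- unimodular Cartan matrix -/
def Uni : Prop := ∃ M : Matrix ι ι ℤ, M * Matrix.of R.C = 1

/-- action of a Weyl group element on characters -/
def ac (w : Equiv.Perm Φ) : (ι → kˣ) →* (ι → kˣ) := RS.mx fun i => R.rt (w (R.sim i))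

variable {R}

theorem ac_apply (w : Equiv.Perm Φ) (c : ι → kˣ) (i : ι) : ac R w c i = RS.chi c (R.rt (w (R.sim i))) := rfl

theorem chi_ac' (w : Equiv.Perm Φ) (c : ι → kˣ) (v : ι → ℤ) : RS.chi (ac R w c) v = RS.chi c (R.lin w v) := by
  rw [RS.lin_apply, RS.chi_sum, RS.chi]
  exact prod_congr rfl fun i _ => (RS.chi_smul _ _ _).symm

theorem chi_ac {w : Equiv.Perm Φ} (hw : w ∈ R.Aut) (c : ι → kˣ) (r : Φ) :
    RS.chi (ac R w c) (R.rt r) = RS.chi c (R.rt (w r)) := by rw [chi_ac', RS.Aut.lin_rt hw]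

theorem chi_sim (c : ι → kˣ) (i : ι) : RS.chi c (R.rt (R.sim i)) = c i := by rw [R.rt_sim, RS.chi_single]

theorem ext_rt {c d : ι → kˣ} (h : ∀ r, RS.chi c (R.rt r) = RS.chi d (R.rt r)) : c = d :=
  funext fun i => by rw [← chi_sim (R := R) c, h, chi_sim]

theorem ac_one (c : ι → kˣ) : ac R 1 c = c := funext fun i => chi_sim c i

theorem ac_mul {v w : Equiv.Perm Φ} (hv : v ∈ R.Aut) (c : ι → kˣ) : ac R (v * w) c = ac R w (ac R v c) :=
  funext fun i => by rw [ac_apply, ac_apply, chi_ac hv]; rfl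

theorem ac_inv {v : Equiv.Perm Φ} (hv : v ∈ R.Aut) (c : ι → kˣ) : ac R v⁻¹ (ac R v c) = c := by
  rw [← ac_mul hv, mul_inv_cancel, ac_one]

theorem ac_inv' {v : Equiv.Perm Φ} (hv : v ∈ R.Aut) (c : ι → kˣ) : ac R v (ac R v⁻¹ c) = c := by
  rw [← ac_mul (inv_mem hv), inv_mul_cancel, ac_one]

theorem Uni.theta_inj (h : Uni R) (c : ι → kˣ) (hc : c ∈ (R.theta k).ker) : c = 1 := by
  obtain ⟨M, hM⟩ := h
  have e : R.theta k c = RS.mx (Matrix.of R.C).transpose c := rfl
  rw [← mx_one c, ← Matrix.transpose_one, ← mul_eq_one_comm.1 hM, Matrix.transpose_mul, ← mx_mx, ← e, hc, map_one]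

variable (R k) in
/-- parameters of the torus of type `w` -/
def T (q : ℕ) (w : Equiv.Perm Φ) : Subgroup (ι → kˣ) := (powMonoidHom q).eqLocus (ac R w)

theorem mem_T {q : ℕ} {w : Equiv.Perm Φ} {c : ι → kˣ} : c ∈ T k R q w ↔ c ^ q = ac R w c := Iff.rfl

theorem T_eq (q : ℕ) (w : Equiv.Perm Φ) : T k R q w = Ker k (qM R q w) := by
  ext c
  rw [mem_T, mem_Ker, funext_iff]
  refine forall_congr' fun i => ?_
  rw [qM, sub_eq_add_neg, RS.chi_add, RS.chi_neg, RS.chi_smul, RS.chi_single, mul_inv_eq_one, zpow_natCast]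
  rfl

theorem chi_T {q : ℕ} {w : Equiv.Perm Φ} (hw : w ∈ R.Aut) {c : ι → kˣ} (hc : c ∈ T k R q w) (r : Φ) :
    RS.chi c (R.rt (w r)) = RS.chi c (R.rt r) ^ q := by rw [← chi_ac hw, ← mem_T.1 hc, chi_pow]

theorem det_ne {q : ℕ} (hq : (q : k) = 0) {w : Equiv.Perm Φ} (hw : w ∈ R.Aut) : ((qM R q w).det : k) ≠ 0 := by
  let A : Equiv.Perm Φ → Matrix ι ι ℤ := fun w i => R.rt (w (R.sim i))
  have h1 : A w * A w⁻¹ = 1 := by
    ext i j
    have := congrFun (RS.Aut.lin_rt (inv_mem hw) (w (R.sim i))) j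
    rw [RS.lin_apply] at this
    simp only [Equiv.Perm.coe_inv, Equiv.symm_apply_apply, R.rt_sim, Finset.sum_apply, Pi.smul_apply,
      smul_eq_mul] at this
    rw [Matrix.mul_apply, Matrix.one_apply]
    simpa [A, Pi.single_apply, eq_comm] using this
  have h2 : ((qM R q w).det : k) = ((-A w).det : k) := by
    rw [← eq_intCast (Int.castRingHom k), ← eq_intCast (Int.castRingHom k), RingHom.map_det, RingHom.map_det]
    congr 1
    ext i j
    change ((((q : ℤ) * (Pi.single i 1 : ι → ℤ) j - R.rt (w (R.sim i)) j : ℤ)) : k) = ((-R.rt (w (R.sim i)) j : ℤ) : k)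
    simp [hq]
  have h3 := congrArg (fun M : Matrix ι ι ℤ => (M.det : k)) h1
  simp only [Matrix.det_mul, Matrix.det_one, Int.cast_mul, Int.cast_one] at h3
  rw [h2, Matrix.det_neg, Int.cast_mul, Int.cast_pow]
  exact mul_ne_zero (pow_ne_zero _ (by norm_num)) (left_ne_zero_of_mul_eq_one h3)

theorem card_T [IsAlgClosed k] {q : ℕ} (hq : (q : k) = 0) {w : Equiv.Perm Φ} (hw : w ∈ R.Aut) :
    Nat.card (T k R q w) = (qM R q w).det.natAbs := by rw [T_eq, card_Ker _ (det_ne hq hw)]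

theorem finite_T [IsAlgClosed k] {q : ℕ} (hq : (q : k) = 0) {w : Equiv.Perm Φ} (hw : w ∈ R.Aut) :
    Finite (T k R q w) := Nat.finite_of_card_ne_zero (by
  rw [card_T hq hw, Int.natAbs_ne_zero]
  intro e
  exact det_ne hq hw (by rw [e, Int.cast_zero]))

end lat

section grp
variable {ι Φ : Type} [Fintype ι] [DecidableEq ι] [Fintype Φ] [DecidableEq Φ] {R : CD ι Φ} {F : Type*} [Field F]
  {G : Type*} [Group G]

/-- adjoint and simply connected -/
structure Ad (S : St R F G) : Prop where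
  top : S.Gr = ⊤
  adj : S.Adj
  uni : Uni R.toRS

namespace Ad
variable {S : St R F G} (h : Ad S)
include h

theorem r3 : S.R3 := S.r3_of_adj h.adj

theorem sc : S.SC := S.sc_of_adj h.adj (eq_bot_iff.2 h.uni.theta_inj)

theorem mem_Gr (g : G) : g ∈ S.Gr := h.top ▸ Subgroup.mem_top g

/-- the element of the torus with a given character -/
noncomputable def tt : (ι → Fˣ) →* G := (S.hh h.r3).comp (RS.mx h.uni.choose.transpose)

theorem tt_mem (c : ι → Fˣ) : h.tt c ∈ S.H := S.hh_mem _ _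

theorem tt_acts (c : ι → Fˣ) : S.Acts (h.tt c) 1 fun r => RS.chi c (R.rt r) := by
  have := S.hh_acts h.r3 (RS.mx h.uni.choose.transpose c)
  rwa [show R.theta F (RS.mx h.uni.choose.transpose c) = RS.mx (Matrix.of R.C).transpose _ from rfl, mx_mx,
    ← Matrix.transpose_mul, h.uni.choose_spec, Matrix.transpose_one, mx_one] at this

theorem tt_conj (c : ι → Fˣ) (r : Φ) (t : F) :
    h.tt c * S.x r t * (h.tt c)⁻¹ = S.x r (RS.chi c (R.rt r) * t) := h.tt_acts c r t

theorem eq_tt {g : G} (hg : g ∈ S.H) {c : ι → Fˣ} (hc : S.Acts g 1 fun r => RS.chi c (R.rt r)) : g = h.tt c := by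
  have := hc.mul (h.tt_acts c).inv
  simp only [inv_one, mul_one, Equiv.Perm.coe_one, id, mul_inv_cancel] at this
  exact mul_inv_eq_one.1 (h.adj _ (mul_mem hg (inv_mem (h.tt_mem c))) this)

theorem exists_tt {g : G} (hg : g ∈ S.H) : ∃ c, g = h.tt c := (S.exists_chi hg).imp fun _ => h.eq_tt hg

theorem tt_inj : Function.Injective h.tt := fun c d e =>
  ext_rt (congrFun (S.acts_unique (h.tt_acts c) (e ▸ h.tt_acts d)))

theorem conj_tt {n : G} {w : Equiv.Perm Φ} (hn : S.Rep n w) (c : ι → Fˣ) :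
    n⁻¹ * h.tt c * n = h.tt (ac R.toRS w c) := by
  refine h.eq_tt (by simpa using hn.inv.conj_mem_H _ (h.tt_mem c)) ?_
  obtain ⟨hw, a, -, ha⟩ := hn
  have := (ha.inv.mul (h.tt_acts c)).mul ha
  simp only [mul_one, inv_mul_cancel, Equiv.Perm.coe_one, id, Equiv.Perm.coe_inv, Equiv.symm_apply_apply] at this
  convert this using 2 with r
  rw [chi_ac hw, mul_comm (a r)⁻¹, inv_mul_cancel_right]

theorem h_eq_tt (r : Φ) (t : Fˣ) : S.h r t = h.tt fun i => t ^ R.A r (R.sim i) := by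
  refine h.eq_tt (S.h_mem t.ne_zero) ?_
  convert S.h_acts r t using 2 with s
  rw [RS.A_def, ← RS.chi_zpow t (R.Av r)]
  simp only [RS.A_def, R.rt_sim]

theorem isConj_tt {c d : ι → Fˣ} : IsConj (h.tt c) (h.tt d) ↔ ∃ w ∈ R.W, d = ac R.toRS w c := by
  constructor
  · intro e
    obtain ⟨g, hg⟩ := isConj_iff.1 e
    obtain ⟨n, hn, e⟩ := S.conj_H (h.tt_mem c) (h.tt_mem d) (h.mem_Gr g) hg
    obtain ⟨w, hw, hr⟩ := S.exists_rep (inv_mem hn)
    exact ⟨w, hw, h.tt_inj (by rw [← h.conj_tt hr, inv_inv, e])⟩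
  · rintro ⟨w, hw, rfl⟩
    obtain ⟨n, -, hr⟩ := S.exists_N_rep hw
    exact isConj_iff.2 ⟨n⁻¹, by rw [inv_inv, h.conj_tt hr]⟩

theorem orderOf_tt (c : ι → Fˣ) : orderOf (h.tt c) = orderOf c := orderOf_injective _ h.tt_inj c

theorem card_H : Nat.card S.H = Nat.card Fˣ ^ Fintype.card ι := by
  rw [← Nat.card_eq_of_bijective (fun c => (⟨h.tt c, h.tt_mem c⟩ : S.H)) ⟨fun c d e => h.tt_inj (congrArg Subtype.val e),
    fun g => (h.exists_tt g.2).imp fun c e => Subtype.ext e.symm⟩, Nat.card_fun, Nat.card_eq_fintype_card (α := ι)]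

end Ad

end grp

section ext
variable {ι Φ : Type} [Fintype ι] [DecidableEq ι] [Fintype Φ] [DecidableEq Φ] {R : CD ι Φ} {K k : Type*} [Field K]
  [Fintype K] [Field k] {G0 G : Type*} [Group G0] [Group G]

/-- a finite Chevalley group inside the algebraic group -/
structure Ext (S0 : St R K G0) (S : St R k G) where
  ad0 : Ad S0
  ad : Ad S
  j : K →+* k
  θ : G0 →* G
  inj : Function.Injective θ
  θx : ∀ r t, θ (S0.x r t) = S.x r (j t)
  f : k →+* k
  hf : ∀ t, f t = t ^ Fintype.card K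
  σ : G →* G
  σx : ∀ r t, σ (S.x r t) = S.x r (f t)
  fix : ∀ g, σ g = g → g ∈ θ.range
  lang : ∀ y, ∃ g, g⁻¹ * σ g = y

theorem exists_ext {D : Cfsg.Lie.ChevalleyDatum} {T : Tab} (h : T.Chk D) (hu : Uni h.rsys) (K : Type*) [Field K]
    [Fintype K] : Nonempty (Ext (h.grp K) (h.grp (AlgebraicClosure K))) := by
  set k := AlgebraicClosure K
  have a0 : Ad (h.grp K) := ⟨h.grp_Gr K, h.grp_adj K, hu⟩
  have a1 : Ad (h.grp k) := ⟨h.grp_Gr k, h.grp_adj k, hu⟩
  let j : K →+* k := algebraMap K k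
  obtain ⟨θ, h1, h2, -, h4⟩ := (h.grp k).exists_ext a1.top a1.sc (h.grp K) a0.top a0.sc j
  obtain ⟨f, hf, hs⟩ := exists_frob_alg j one_ne_zero (pow_one (Fintype.card K)).dvd
  obtain ⟨σ, hσ⟩ := a1.sc.exists_hom_top a1.top ((h.grp k).sub f).toSt0 (a1.r3.twist _ _ Nat.cast_zero)
  have hσ' : ∀ r t, σ ((h.grp k).x r t) = (h.grp k).x r (f t) := fun r t => (hσ r t).trans ((h.grp k).sub_x f r t)
  exact ⟨⟨a0, a1, j, θ, h1, h2, f, hf, σ, hσ', h4 f σ hs (fun t e => mem_range_of_pow_card j (hf t ▸ e)) hσ',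
    fun y => (h.lang σ (m := 0) (Ψ := Set.univ) (fun r _ => ⟨r, trivial, Polynomial.X ^ Fintype.card K, fun t => by
      simp [hσ', hf]⟩) Fintype.one_lt_card f hf hσ' (a1.mem_Gr y)).imp fun _ h => h.2⟩⟩

namespace Ext
variable {S0 : St R K G0} {S : St R k G} (E : Ext S0 S)

theorem σθ (g : G0) : E.σ (E.θ g) = E.θ g :=
  eq_of_mem_Gr (θ := E.σ.comp E.θ) (θ' := E.θ) (S := S0.toSt0) (fun r t => by
    rw [MonoidHom.comp_apply, E.θx, E.σx, E.hf, ← map_pow, FiniteField.pow_card]) (E.ad0.mem_Gr g)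

theorem σ_H {g : G} (hg : g ∈ S.H) : E.σ g = g ^ Fintype.card K :=
  S.pow_H E.ad.r3 E.σ (m := 1) E.f E.hf E.σx hg

theorem σ_tt (c : ι → kˣ) : E.σ (E.ad.tt c) = E.ad.tt (c ^ Fintype.card K) := by
  rw [E.σ_H (E.ad.tt_mem c), map_pow]

theorem θ_tt (c : ι → Kˣ) : E.θ (E.ad0.tt c) = E.ad.tt fun i => Units.map E.j.toMonoidHom (c i) := by
  rw [Ad.tt, Ad.tt, MonoidHom.comp_apply, MonoidHom.comp_apply, S.hom_hh S0 E.ad0.r3 E.ad.r3 E.j E.θ E.θx]
  refine congrArg _ (funext fun i => ?_)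
  change Units.map _ (∏ l, _) = ∏ l, _
  simp only [_root_.map_prod, map_zpow]

include E in
theorem q_eq : ((Fintype.card K : ℕ) : k) = 0 := by
  rw [← map_natCast E.j, FiniteField.cast_card_eq_zero, map_zero]

theorem desc {y n : G} (h : E.σ y = n⁻¹ * y * n) : ∃ x, IsConj (E.θ x) y := by
  obtain ⟨g, hg⟩ := E.lang n
  obtain ⟨x, hx⟩ := E.fix (g * y * g⁻¹) (by
    rw [map_mul, map_mul, map_inv, h, inv_mul_eq_iff_eq_mul.1 hg]; group)
  exact ⟨x, isConj_iff.2 ⟨g⁻¹, by rw [hx]; group⟩⟩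

theorem desc_T {w : Equiv.Perm Φ} (hw : w ∈ R.W) {c : ι → kˣ} (hc : c ∈ T k R.toRS (Fintype.card K) w) :
    ∃ x, IsConj (E.θ x) (E.ad.tt c) := by
  obtain ⟨n, -, hr⟩ := S.exists_N_rep hw
  exact E.desc (n := n) (by rw [E.σ_tt, mem_T.1 hc, E.ad.conj_tt hr])

theorem orderOf_eq {x : G0} {y : G} (h : IsConj (E.θ x) y) : orderOf x = orderOf y := by
  rw [← orderOf_injective E.θ E.inj, SemiconjBy.orderOf_eq _ h.choose_spec]

variable [IsAlgClosed k] [Finite G0] (p : ℕ) [Fact p.Prime] [CharP K p]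

theorem main : (∀ x : G0, (orderOf x).Coprime p → ∃ w ∈ R.W, ∃ c ∈ T k R.toRS (Fintype.card K) w,
      IsConj (E.θ x) (E.ad.tt c)) ∧
    ∀ x y : G0, (orderOf x).Coprime p → IsConj (E.θ x) (E.θ y) → IsConj x y := by
  classical
  set q := Fintype.card K
  haveI := Fintype.ofFinite G0
  set P := {c : ConjClasses G0 | ∃ g, ConjClasses.mk g = c ∧ (orderOf g).Coprime p}
  have hP : P.ncard = q ^ Fintype.card ι := H20.CR.card_classes p S0 E.ad0.top E.ad0.r3 E.ad0.adj
    (Subgroup.card_eq_one.2 (eq_bot_iff.2 E.ad0.uni.theta_inj))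
  set WF : Finset (Equiv.Perm Φ) := univ.filter (· ∈ R.W)
  have hWF : ∀ {w}, w ∈ WF ↔ w ∈ R.W := by simp [WF]
  have hfin : ∀ w ∈ R.W, (T k R.toRS q w : Set (ι → kˣ)).Finite := fun w hw => finite_T E.q_eq (R.W_le_Aut hw)
  let Tw : Equiv.Perm Φ → Finset (ι → kˣ) := fun w => if h : w ∈ R.W then (hfin w h).toFinset else ∅
  have hT : ∀ {w c}, w ∈ R.W → (c ∈ Tw w ↔ c ∈ T k R.toRS q w) := fun {w c} hw => by simp [Tw, hw]
  set Pairs := WF.sigma Tw
  let cl : (Σ _ : Equiv.Perm Φ, ι → kˣ) → ConjClasses G := fun a => ConjClasses.mk (E.ad.tt a.2)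
  set Y := Pairs.image cl
  have h1 : WF.card * q ^ Fintype.card ι ≤ Pairs.card := by
    have := sum_det R.toRS q
    rw [card_sigma]
    zify
    rw [show (WF.card : ℤ) = Nat.card R.W by rw [Nat.card_eq_fintype_card, Fintype.card_subtype], ← this]
    refine (sum_le_sum fun w hw => ?_).trans_eq' (by congr)
    have hw := hWF.1 hw
    have e : (Tw w).card = Nat.card (T k R.toRS q w) := by
      simp only [Tw, dif_pos hw]
      rw [← Set.ncard_eq_toFinset_card _ (hfin w hw)]; rfl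
    rw [e, card_T E.q_eq (R.W_le_Aut hw)]
    exact Int.le_natAbs
  have h2 : Pairs.card ≤ WF.card * Y.card := by
    refine card_le_mul_card_image _ _ fun y hy => ?_
    obtain ⟨⟨w0, c0⟩, h0, rfl⟩ := mem_image.1 hy
    obtain ⟨hw0, hc0⟩ := mem_sigma.1 h0
    replace hw0 := hWF.1 hw0
    replace hc0 := mem_T.1 ((hT hw0).1 hc0)
    have hv : ∀ a ∈ Pairs.filter fun a => cl a = cl ⟨w0, c0⟩, ∃ v ∈ R.W, a.2 = ac R.toRS v c0 := fun a ha =>
      E.ad.isConj_tt.1 (ConjClasses.mk_eq_mk_iff_isConj.1 (mem_filter.1 ha).2.symm)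
    let v : (ι → kˣ) → Equiv.Perm Φ := fun c => if h : ∃ v ∈ R.W, c = ac R.toRS v c0 then h.choose else 1
    have hv' : ∀ a ∈ Pairs.filter fun a => cl a = cl ⟨w0, c0⟩, v a.2 ∈ R.W ∧ a.2 = ac R.toRS (v a.2) c0 :=
      fun a ha => by simp only [v, dif_pos (hv a ha)]; exact (hv a ha).choose_spec
    have key : ∀ a ∈ Pairs.filter fun a => cl a = cl ⟨w0, c0⟩,
        ac R.toRS (v a.2 * a.1 * (v a.2)⁻¹ * w0⁻¹ * v a.2) c0 = a.2 := fun a ha => by
      obtain ⟨e1, e2⟩ := hv' a ha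
      obtain ⟨hw, hc⟩ := mem_sigma.1 (mem_filter.1 ha).1
      replace hw := hWF.1 hw
      replace hc := mem_T.1 ((hT hw).1 hc)
      have a1 := R.W_le_Aut e1
      have a2 := R.W_le_Aut hw
      have a3 := R.W_le_Aut hw0
      rw [ac_mul (mul_mem (mul_mem (mul_mem a1 a2) (inv_mem a1)) (inv_mem a3)),
        ac_mul (mul_mem (mul_mem a1 a2) (inv_mem a1)), ac_mul (mul_mem a1 a2), ac_mul a1, ← e2, ← hc, map_pow,
        show ac R.toRS (v a.2)⁻¹ a.2 = c0 from (congrArg _ e2).trans (ac_inv a1 c0), hc0, ac_inv a3, ← e2]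
    refine card_le_card_of_injOn (fun a => v a.2 * a.1 * (v a.2)⁻¹ * w0⁻¹ * v a.2) (fun a ha => ?_) fun a ha b hb e => ?_
    · obtain ⟨e1, -⟩ := hv' a ha
      have hw := hWF.1 (mem_sigma.1 (mem_filter.1 ha).1).1
      exact hWF.2 (mul_mem (mul_mem (mul_mem (mul_mem e1 hw) (inv_mem e1)) (inv_mem hw0)) e1)
    · have e2 : a.2 = b.2 := by rw [← key a ha, ← key b hb]; exact congrArg (ac R.toRS · c0) e
      simp only [e2, mul_left_inj, mul_right_inj] at e
      exact Sigma.ext e (heq_of_eq e2)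
  have h3 : P.ncard ≤ Y.card := hP ▸ Nat.le_of_mul_le_mul_left (h1.trans h2) (card_pos.2 ⟨1, hWF.2 (one_mem _)⟩)
  have h4 : (Y : Set (ConjClasses G)) ⊆ ConjClasses.map E.θ '' P := fun y hy => by
    obtain ⟨⟨w, c⟩, h0, rfl⟩ := mem_image.1 hy
    obtain ⟨hw, hc⟩ := mem_sigma.1 h0
    replace hw := hWF.1 hw
    replace hc := (hT hw).1 hc
    obtain ⟨x, hx⟩ := E.desc_T hw hc
    refine ⟨ConjClasses.mk x, ⟨x, rfl, ?_⟩, ConjClasses.mk_eq_mk_iff_isConj.2 hx⟩
    have : CharP k p := charP_of_injective_ringHom E.j.injective p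
    rw [E.orderOf_eq hx, E.ad.orderOf_tt, Nat.coprime_comm, (Fact.out : p.Prime).coprime_iff_not_dvd]
    intro hd
    have := hd.trans (Subgroup.orderOf_dvd_natCard _ hc)
    rw [card_T E.q_eq (R.W_le_Aut hw), ← Int.natCast_dvd] at this
    exact det_ne E.q_eq (R.W_le_Aut hw) ((CharP.intCast_eq_zero_iff k p _).2 this)
  have hf : P.Finite := Set.toFinite _
  have h5 : (ConjClasses.map E.θ '' P).ncard ≤ P.ncard := Set.ncard_image_le hf
  have h6 : (Y : Set (ConjClasses G)) = ConjClasses.map E.θ '' P :=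
    Set.eq_of_subset_of_ncard_le h4 (by rw [Set.ncard_coe_finset]; omega) (hf.image _)
  have h7 : Set.InjOn (ConjClasses.map E.θ) P := Set.injOn_of_ncard_image_eq (by
    rw [← h6, Set.ncard_coe_finset]; rw [← h6, Set.ncard_coe_finset] at h5; omega) hf
  refine ⟨fun x hx => ?_, fun x y hx e => ?_⟩
  · have : ConjClasses.mk (E.θ x) ∈ (Y : Set (ConjClasses G)) := h6 ▸ ⟨ConjClasses.mk x, ⟨x, rfl, hx⟩, rfl⟩
    obtain ⟨⟨w, c⟩, h0, e⟩ := mem_image.1 this
    obtain ⟨hw, hc⟩ := mem_sigma.1 h0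
    exact ⟨w, hWF.1 hw, c, (hT (hWF.1 hw)).1 hc, (ConjClasses.mk_eq_mk_iff_isConj.1 e).symm⟩
  · exact ConjClasses.mk_eq_mk_iff_isConj.1 (h7 ⟨x, rfl, hx⟩ ⟨y, rfl, by
      rwa [← orderOf_injective E.θ E.inj, ← E.orderOf_eq e]⟩ (ConjClasses.mk_eq_mk_iff_isConj.2 e))

end Ext

end ext

end H14.SS
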