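import Cfsg.Agent.H14.SS1

/-! Centralisers of semisimple elements. -/

set_option autoImplicit false
set_option linter.unusedVariables false
set_option linter.unusedSectionVars false
set_option linter.style.haveILetI false

namespace H14.SS
open H24 H24.St0 Finset

section lat
variable {ι : Type} [Fintype ι] [DecidableEq ι] {k : Type*} [Field k] {Φ : Type} [Fintype Φ] [DecidableEq Φ]
  (R : RS ι Φ)

/-- stabiliser of a character in the Weyl group -/
def Wc (c : ι → kˣ) : Subgroup (Equiv.Perm Φ) where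
  carrier := {w | w ∈ R.W ∧ ac R w c = c}
  one_mem' := ⟨one_mem _, ac_one c⟩
  mul_mem' := fun {a b} ha hb => ⟨mul_mem ha.1 hb.1, by rw [ac_mul (R.W_le_Aut ha.1), ha.2, hb.2]⟩
  inv_mem' := fun {a} ha => ⟨inv_mem ha.1, by
    have := ac_inv (R.W_le_Aut ha.1) c
    rwa [ha.2] at this⟩

/-- positive roots killed by a character -/
def Pc (c : ι → kˣ) : Set Φ := {r | R.Pos r ∧ RS.chi c (R.rt r) = 1}

/-- relative length -/
noncomputable def Nc (c : ι → kˣ) (w : Equiv.Perm Φ) : ℕ := {r | r ∈ Pc R c ∧ ¬ R.Pos (w r)}.ncard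

variable {R}

theorem chi_Wc {c : ι → kˣ} {w : Equiv.Perm Φ} (hw : w ∈ Wc R c) (r : Φ) :
    RS.chi c (R.rt (w r)) = RS.chi c (R.rt r) := by rw [← chi_ac (R.W_le_Aut hw.1), hw.2]

theorem closed_chi (c : ι → kˣ) : R.Closed {r | RS.chi c (R.rt r) = 1} := by
  intro r hr s hs u i j _ _ e
  simp only [Set.mem_ofPred_eq] at hr hs ⊢
  rw [e, RS.chi_add, RS.chi_smul, RS.chi_smul, hr, hs, one_zpow, one_zpow, one_mul]

theorem closed_Pc (c : ι → kˣ) : R.Closed (Pc R c) := RS.closed_pos.inter (closed_chi c)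

theorem closed_inv (c : ι → kˣ) {w : Equiv.Perm Φ} (hw : w ∈ R.Aut) :
    R.Closed {r | r ∈ Pc R c ∧ ¬ R.Pos (w r)} := (closed_Pc c).inter (RS.closed_not_pos.preimage hw)

theorem neg_of_invol : ∀ (n : ℕ) {w : Equiv.Perm Φ}, w ∈ R.W → R.N w = n → w * w = 1 → w ≠ 1 →
    ∃ r, w r = R.neg r := by
  intro n
  induction n using Nat.strong_induction_on with
  | _ n ih =>
    intro w hw hn h2 h1
    have ha := R.W_le_Aut hw
    obtain ⟨i, hi⟩ : ∃ i, ¬ R.Pos (w (R.sim i)) := by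
      by_contra hc
      exact h1 (RS.W_eq_one_of_pos hw fun i => by_contra fun e => hc ⟨i, e⟩)
    by_cases e : w (R.sim i) = R.neg (R.sim i)
    · exact ⟨_, e⟩
    have e1 := RS.N_mul_s' ha hi
    have a2 := mul_mem ha (R.s_mem_Aut i)
    have e2 := RS.N_s_mul' a2 (i := i) (by
      rw [mul_inv_rev, R.s_inv, inv_eq_of_mul_eq_one_right h2, Equiv.Perm.mul_apply,
        R.pos_s_iff (fun e' => hi (by rw [e']; exact R.pos_sim i)) e]
      exact hi)
    obtain ⟨r, hr⟩ := ih _ (by omega) (mul_mem (R.s_mem_W i) (mul_mem hw (R.s_mem_W i))) rfl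
      (by rw [mul_assoc, mul_assoc w, ← mul_assoc (R.s i) (R.s i), R.s_mul_s, one_mul, ← mul_assoc w,
        h2, one_mul, R.s_mul_s])
      (fun e' => h1 (by
        have := congrArg (fun g => R.s i * g * R.s i) e'
        simp only [← mul_assoc, R.s_mul_s, one_mul, mul_one] at this
        rwa [mul_assoc, R.s_mul_s, mul_one] at this))
    refine ⟨R.s i r, ?_⟩
    rw [← RS.Aut.neg (R.s_mem_Aut i), ← hr, Equiv.Perm.mul_apply, Equiv.Perm.mul_apply, R.s_s]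

open Classical in
theorem sum_stab {c : ι → kˣ} (i0 : ι) (hc : ∀ r, RS.chi c (R.rt r) = 1 ↔ Even (R.rt r i0))
    (hW : ∀ w ∈ R.W, w ∈ Wc R c ↔ ∀ i, Even (R.rt (w (R.sim i)) i0 - R.rt (R.sim i) i0))
    {κ : Type} [Fintype κ] (d : κ → Equiv.Perm Φ) (hd : ∀ a, d a ∈ Wc R c)
    (hp : ∀ a r, R.rt (d a r) i0 = 0 → R.Pos r → R.Pos (d a r))
    (hi : ∀ a b, (∀ i, R.rt (d a (R.sim i)) i0 = R.rt (d b (R.sim i)) i0) → a = b)
    (hcov : ∀ w ∈ Wc R c, ∃ a, ∀ i, R.rt (w (R.sim i)) i0 = R.rt (d a (R.sim i)) i0) (q : ℕ) :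
    ∑ w ∈ univ.filter (· ∈ Wc R c), q ^ Nc R c w = R.PJ {i | i ≠ i0} q * ∑ a, q ^ Nc R c (d a) := by
  have hJ : ∀ r, R.InJ {i | i ≠ i0} r ↔ R.rt r i0 = 0 := fun r =>
    ⟨fun h => h i0 (by simp), fun h i hi => by simp at hi; rwa [hi]⟩
  have hv : ∀ {v}, v ∈ R.WJ {i | i ≠ i0} → ∀ r, R.rt (v r) i0 = R.rt r i0 := fun hv r =>
    RS.rt_of_mem_WJ hv r (by simp)
  have hda : ∀ a, d a ∈ R.Aut := fun a => R.W_le_Aut (hd a).1
  rw [RS.PJ, sum_mul_sum, ← sum_product']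
  symm
  refine sum_bij (fun p _ => p.1 * d p.2) (fun p hp => ?_) (fun p hp p' hp' e => ?_) (fun w hw => ?_) fun p hp' => ?_
  · simp only [mem_product, mem_filter, mem_univ, true_and, and_true] at hp ⊢
    exact mul_mem ((hW _ (R.WJ_le_W _ hp)).2 fun i => by rw [hv hp]; simp) (hd _)
  · simp only [mem_product, mem_filter, mem_univ, true_and, and_true] at hp hp'
    have e2 : p.2 = p'.2 := hi _ _ fun i => by
      rw [← hv hp, ← hv hp' (d p'.2 _), ← Equiv.Perm.mul_apply, ← Equiv.Perm.mul_apply, e]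
    exact Prod.ext (by simpa [e2] using e) e2
  · simp only [mem_filter, mem_univ, true_and] at hw
    obtain ⟨a, ha⟩ := hcov w hw
    have key : ∀ r, R.rt (w r) i0 = R.rt (d a r) i0 := fun r => by
      rw [← RS.Aut.lin_rt (R.W_le_Aut hw.1), ← RS.Aut.lin_rt (hda a), RS.lin_apply, RS.lin_apply]
      simp [ha]
    refine ⟨(w * (d a)⁻¹, a), ?_, by simp⟩
    simp only [mem_product, mem_filter, mem_univ, true_and, and_true]
    refine RS.mem_WJ_of_invs (mul_mem hw.1 (inv_mem (hd a).1)) fun r h1 h2 => R.pos_of_rt_pos (i := i0) ?_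
    rw [Equiv.Perm.mul_apply, key]
    simpa using lt_of_le_of_ne (h1 i0) (Ne.symm (mt (hJ r).2 h2))
  · simp only [mem_product, mem_filter, mem_univ, true_and, and_true] at hp'
    obtain ⟨v, a⟩ := p
    rw [← pow_add]
    congr 1
    have hp2 : ∀ r, R.rt (d a r) i0 = 0 → (R.Pos (d a r) ↔ R.Pos r) := fun r h => ⟨fun h' => by_contra fun h'' => by
      have := hp a (R.neg r) (by rw [RS.Aut.neg (hda a), R.rt_neg]; simpa using h) ((R.pos_neg_iff r).2 h'')
      exact (RS.Aut.pos_neg (hda a) r).1 this h', hp a r h⟩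
    have e1 : {r | r ∈ Pc R c ∧ ¬ R.Pos ((v * d a) r)} =
        (d a).symm '' (R.invs v : Set Φ) ∪ {r | r ∈ Pc R c ∧ ¬ R.Pos (d a r)} := by
      ext r
      simp only [Set.mem_ofPred_eq, Set.mem_union, Equiv.Perm.mul_apply, Equiv.Perm.coe_inv, Set.mem_image_equiv,
        Equiv.symm_symm, mem_coe, RS.mem_invs]
      by_cases h0 : R.rt (d a r) i0 = 0
      · have := hp2 r h0
        have h3 : RS.chi c (R.rt r) = 1 := by rw [← chi_Wc (hd a), hc, h0]; simp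
        simp only [Pc, Set.mem_ofPred_eq, h3, and_true]; tauto
      · rw [RS.pos_iff_of_mem_WJ hp' (mt (hJ _).1 h0)]; tauto
    change _ = Set.ncard {r | r ∈ Pc R c ∧ ¬ R.Pos ((v * d a) r)}
    rw [e1, Set.ncard_union_eq, Set.ncard_image_of_injective _ (Equiv.injective _), Set.ncard_coe_finset]
    · rfl
    rw [Set.disjoint_left]
    rintro _ ⟨r, hr, rfl⟩ h
    exact h.2 (by simpa using (R.mem_invs.1 hr).1)

end lat

section grp
variable {ι Φ : Type} [Fintype ι] [DecidableEq ι] [Fintype Φ] [DecidableEq Φ] {R : CD ι Φ} {F : Type*} [Field F]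
  {G : Type*} [Group G]

namespace Ad
variable {S : St R F G} (h : Ad S)
include h

theorem comm_XS (c : ι → Fˣ) {T : Set Φ} (hT : ∀ r ∈ T, RS.chi c (R.rt r) = 1) :
    S.XS T ≤ Subgroup.centralizer {h.tt c} := S.XS_le.2 fun r hr t => by
  rw [Subgroup.mem_centralizer_singleton_iff, eq_comm, ← mul_inv_eq_iff_eq_mul, h.tt_conj, hT r hr]; simp

theorem comm_H (c : ι → Fˣ) : S.H ≤ Subgroup.centralizer {h.tt c} := fun g hg =>
  Subgroup.mem_centralizer_singleton_iff.2 (S.commute_H h.r3 hg (h.tt_mem c))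

theorem comm_rep {c : ι → Fˣ} {n : G} {w : Equiv.Perm Φ} (hn : S.Rep n w) :
    n ∈ Subgroup.centralizer {h.tt c} ↔ ac R.toRS w c = c := by
  rw [Subgroup.mem_centralizer_singleton_iff, ← h.tt_inj.eq_iff, ← h.conj_tt hn, mul_assoc, inv_mul_eq_iff_eq_mul,
    eq_comm]

theorem mem_Pc {c : ι → Fˣ} {u : G} (hu : u ∈ S.U) (e : h.tt c * u * (h.tt c)⁻¹ = u) : u ∈ S.XS (Pc R.toRS c) := by
  obtain ⟨t, rfl⟩ := S.exists_pl hu
  refine S.prod_mem_of fun r hr => ?_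
  by_cases ht : t r = 0
  · rw [ht, x_zero]; exact one_mem _
  · exact S.x_mem (T := Pc R.toRS c) ⟨(R.mem_pl r).1 hr, S.supp_of_fixed (h.tt_acts c) e ((R.mem_pl r).1 hr) ht⟩ _

theorem cent_dec {c : ι → Fˣ} {g : G} (hg : g ∈ Subgroup.centralizer {h.tt c}) :
    ∃ w ∈ Wc R.toRS c, ∃ u ∈ S.XS (Pc R.toRS c), ∃ n ∈ S.N, S.Rep n w ∧
      ∃ u' ∈ S.XS {r | r ∈ Pc R.toRS c ∧ ¬ R.Pos (w r)}, g = u * n * u' := by
  obtain ⟨u, hu, n, hn, u', hu', rfl, H⟩ := S.cent_canon (A := {h.tt c}) (by simpa using h.tt_mem c) (h.mem_Gr g)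
    (by
      simp only [Set.mem_singleton_iff, forall_eq]
      rw [Subgroup.mem_centralizer_singleton_iff.1 hg]; simp)
  obtain ⟨e1, e2, e3⟩ := H _ rfl
  obtain ⟨w, hw, hr⟩ := S.exists_rep hn
  rw [h.adj.Z_eq, Subgroup.mem_bot, mul_inv_eq_one, mul_inv_eq_iff_eq_mul] at e3
  have hw' : w ∈ Wc R.toRS c := ⟨hw, (h.comm_rep hr).1 (Subgroup.mem_centralizer_singleton_iff.2 e3)⟩
  obtain ⟨a, ha, b, hb, rfl⟩ := S.exists_mul_of_part (f := RS.htv) (closed_Pc c) (fun r hr => R.ht_pos hr.1)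
    (fun r => R.Pos (w r)) (h.mem_Pc hu' e2)
  exact ⟨w, hw', _, mul_mem (h.mem_Pc hu e1) (hr.conj_mem (T' := Pc R.toRS c)
    (fun r hr => ⟨hr.2, (chi_Wc hw' r).trans hr.1.2⟩) a ha), n, hn, hr, b, hb, by group⟩

open Classical in
theorem card_cent [Finite F] (c : ι → Fˣ) : Nat.card (Subgroup.centralizer {h.tt c}) =
    Nat.card F ^ (Pc R.toRS c).ncard * (Nat.card S.H *
      ∑ w ∈ univ.filter (· ∈ Wc R.toRS c), Nat.card F ^ Nc R.toRS c w) := by
  choose n hn hr using fun w : Wc R.toRS c => S.exists_N_rep w.2.1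
  have hU : S.XS (Pc R.toRS c) ≤ S.U := S.XS_mono fun r hr => hr.1
  have hm : ∀ w, S.XS {r | r ∈ Pc R.toRS c ∧ ¬ R.Pos (w r)} ≤ S.Um w := fun w => S.XS_mono fun r hr => ⟨hr.1.1, hr.2⟩
  let e : (Σ w : Wc R.toRS c, (S.XS (Pc R.toRS c) × S.H) × S.XS {r | r ∈ Pc R.toRS c ∧ ¬ R.Pos (w.1 r)}) →
      Subgroup.centralizer {h.tt c} := fun p => ⟨p.2.1.1 * p.2.1.2 * n p.1 * p.2.2,
    mul_mem (mul_mem (mul_mem (h.comm_XS c (fun r hr => hr.2) p.2.1.1.2) (h.comm_H c p.2.1.2.2))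
      ((h.comm_rep (hr _)).2 p.1.2.2)) (h.comm_XS c (fun r hr => hr.1.2) p.2.2.2)⟩
  have hB : ∀ p : S.XS (Pc R.toRS c) × S.H, (p.1 * p.2 : G) ∈ S.B := fun p =>
    mul_mem (S.U_le_B (hU p.1.2)) (S.H_le_B p.2.2)
  have he : Function.Bijective e := by
    constructor
    · rintro ⟨w, b, u⟩ ⟨w', b', u'⟩ h
      simp only [e, Subtype.mk.injEq] at h
      obtain rfl : w = w' := Subtype.ext (S.cell_unique
        (S.canon_mem_cell (hn _) (hr _) (hB b) (S.U_le_B (S.Um_le_U _ (hm _ u.2))))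
        (h ▸ S.canon_mem_cell (hn _) (hr _) (hB b') (S.U_le_B (S.Um_le_U _ (hm _ u'.2)))))
      obtain ⟨h1, h2⟩ := S.canon_unique (hr w) (hB b) (hB b') (hm _ u.2) (hm _ u'.2) h
      have h3 : (b'.1 : G)⁻¹ * b.1 = b'.2 * (b.2 : G)⁻¹ := by
        rw [inv_mul_eq_iff_eq_mul, ← mul_assoc, ← h1, mul_inv_cancel_right]
      have h4 := S.eq_one_of_mem_U_H (mul_mem (inv_mem (hU b'.1.2)) (hU b.1.2)) (h3 ▸ mul_mem b'.2.2 (inv_mem b.2.2))
      rw [h4, eq_comm, mul_inv_eq_one] at h3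
      rw [Prod.ext (Subtype.ext (inv_mul_eq_one.1 h4).symm) (Subtype.ext h3.symm : b.2 = b'.2), Subtype.ext h2]
    · rintro ⟨g, hg⟩
      obtain ⟨w, hw, u, hu, m, hm, hr', u', hu', rfl⟩ := h.cent_dec hg
      refine ⟨⟨⟨w, hw⟩, ⟨⟨u, hu⟩, ⟨m * (n ⟨w, hw⟩)⁻¹, S.mem_H_of_rep_one (mul_mem hm (inv_mem (hn _))) ?_⟩⟩,
        ⟨u', hu'⟩⟩, Subtype.ext (by simp [e, mul_assoc])⟩
      simpa using hr'.mul (hr ⟨w, hw⟩).inv
  have h0 : Nat.card F ≠ 0 := Nat.card_pos.ne'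
  have c1 := S.sep.card_XS (f := RS.htv) (closed_Pc c) fun r hr => R.ht_pos hr.1
  have c2 : ∀ w : Wc R.toRS c, Nat.card (S.XS {r | r ∈ Pc R.toRS c ∧ ¬ R.Pos (w.1 r)}) = Nat.card F ^ Nc R.toRS c w :=
    fun w => S.sep.card_XS (f := RS.htv) (closed_inv c (R.W_le_Aut w.2.1)) fun r hr => R.ht_pos hr.1.1
  have := S.finite_H h.r3
  have : Finite (S.XS (Pc R.toRS c)) := Nat.finite_of_card_ne_zero (by rw [c1]; exact pow_ne_zero _ h0)
  have : ∀ w : Wc R.toRS c, Finite (S.XS {r | r ∈ Pc R.toRS c ∧ ¬ R.Pos (w.1 r)}) := fun w =>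
    Nat.finite_of_card_ne_zero (by rw [c2]; exact pow_ne_zero _ h0)
  rw [← Nat.card_eq_of_bijective e he, Nat.card_sigma, ← mul_assoc, mul_sum]
  simp only [Nat.card_prod, c1, c2]
  exact (Finset.sum_subtype _ (by simp) fun w => Nat.card F ^ (Pc R.toRS c).ncard * Nat.card S.H *
    Nat.card F ^ Nc R.toRS c w).symm

theorem conj_Uc [Fintype F] [Finite G] (p : ℕ) [hp : Fact p.Prime] [CharP F p] {c : ι → Fˣ}
    (hA : ∀ w ∈ Wc R.toRS c, orderOf w = p → ∃ r ∈ Pc R.toRS c, ¬ R.Pos (w r)) {u : G} {e : ℕ}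
    (hu : u ^ p ^ e = 1) (hc : u ∈ Subgroup.centralizer {h.tt c}) :
    ∃ y ∈ Subgroup.centralizer {h.tt c}, y⁻¹ * u * y ∈ S.XS (Pc R.toRS c) := by
  classical
  set C := Subgroup.centralizer {h.tt c}
  have hle : S.XS (Pc R.toRS c) ≤ C := h.comm_XS c fun r hr => hr.2
  have hP : IsPGroup p ((S.XS (Pc R.toRS c)).subgroupOf C) :=
    (S.isPGroup_XS p (f := RS.htv) (closed_Pc c) fun r hr => R.ht_pos hr.1).comap_subtype
  have c1 := S.sep.card_XS (f := RS.htv) (closed_Pc c) fun r hr => R.ht_pos hr.1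
  have h0 : Nat.card F ≠ 0 := Nat.card_pos.ne'
  have hq : p ∣ Nat.card F := by
    rw [Nat.card_eq_fintype_card, ← CharP.cast_eq_zero_iff F]; exact FiniteField.cast_card_eq_zero F
  let A : Subgroup (Equiv.Perm Φ) :=
    { carrier := {w | w ∈ Wc R.toRS c ∧ ∀ r, RS.chi c (R.rt r) = 1 → (R.Pos (w r) ↔ R.Pos r)}
      one_mem' := ⟨one_mem _, fun _ _ => Iff.rfl⟩
      mul_mem' := fun {a b} ha hb => ⟨mul_mem ha.1 hb.1, fun r hr =>
        (ha.2 _ ((chi_Wc hb.1 r).trans hr)).trans (hb.2 r hr)⟩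
      inv_mem' := fun {a} ha => ⟨inv_mem ha.1, fun r hr => by
        simpa using (ha.2 _ ((chi_Wc (inv_mem ha.1) r).trans hr)).symm⟩ }
  have hidx : ¬ p ∣ ((S.XS (Pc R.toRS c)).subgroupOf C).index := by
    have := Subgroup.card_mul_index ((S.XS (Pc R.toRS c)).subgroupOf C)
    rw [Nat.card_congr (Subgroup.subgroupOfEquivOfLe hle).toEquiv, c1, h.card_cent,
      mul_right_inj' (pow_ne_zero _ h0)] at this
    rw [this, hp.out.dvd_mul, h.card_H, not_or]
    refine ⟨fun hd => ?_, fun hd => ?_⟩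
    · have := hp.out.dvd_of_dvd_pow hd
      rw [Nat.card_units] at this
      exact hp.out.one_lt.ne' (Nat.dvd_one.1 ((Nat.dvd_add_right this).1 (by
        rwa [Nat.sub_add_cancel (Nat.pos_of_ne_zero h0)])))
    · rw [← sum_filter_add_sum_filter_not _ (fun w => Nc R.toRS c w = 0),
        Nat.dvd_add_left (dvd_sum fun w hw => dvd_pow hq (mem_filter.1 hw).2),
        sum_congr rfl fun w hw => (by rw [(mem_filter.1 hw).2, pow_zero] : _ = 1), sum_const, smul_eq_mul, mul_one,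
        show #_ = Fintype.card A by
          rw [Fintype.card_subtype, filter_filter]
          congr 1
          refine filter_congr fun w _ => and_congr_right fun hw => ?_
          rw [Nc, Set.ncard_eq_zero, Set.eq_empty_iff_forall_notMem]
          refine ⟨fun H r hr => ⟨fun h1 => by_contra fun h2 => H (R.neg r) ⟨⟨(R.pos_neg_iff r).2 h2, ?_⟩, ?_⟩,
            fun h1 => by_contra fun h2 => H r ⟨⟨h1, hr⟩, h2⟩⟩, fun H r hr => hr.2 ((H r hr.1.2).2 hr.1.1)⟩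
          · rw [R.rt_neg, RS.chi_neg, hr, inv_one]
          · rw [RS.Aut.pos_neg (R.W_le_Aut hw.1)]; exact not_not.2 h1] at hd
      obtain ⟨w, hw⟩ := exists_prime_orderOf_dvd_card p hd
      obtain ⟨r, h1, h2⟩ := hA w w.2.1 (by rw [← hw, Subgroup.orderOf_coe])
      exact h2 ((w.2.2 r h1.2).2 h1.1)
  obtain ⟨Q, hQ⟩ := (IsPGroup.iff_orderOf.2 fun g : Subgroup.zpowers (⟨u, hc⟩ : C) => by
    obtain ⟨_, n, rfl⟩ := g
    obtain ⟨j, -, hj⟩ := (Nat.dvd_prime_pow hp.out).1 (orderOf_dvd_of_pow_eq_one (x := (⟨u, hc⟩ : C) ^ n)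
      (n := p ^ e) (by rw [← zpow_natCast, ← zpow_mul, mul_comm, zpow_mul, zpow_natCast,
        show (⟨u, hc⟩ : C) ^ p ^ e = 1 from Subtype.ext hu, one_zpow]))
    exact ⟨j, by rw [← hj, ← Subgroup.orderOf_coe]⟩).exists_le_sylow
  obtain ⟨y, hy⟩ := MulAction.exists_smul_eq C (hP.toSylow hidx) Q
  refine ⟨y, y.2, ?_⟩
  have := hQ (Subgroup.mem_zpowers _)
  rw [← hy, Sylow.coe_subgroup_smul, Subgroup.mem_pointwise_smul_iff_inv_smul_mem] at this
  simpa [Subgroup.mem_subgroupOf] using this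

end Ad

end grp

section ext
variable {D : Cfsg.Lie.ChevalleyDatum} {T : Tab} (h : T.Chk D) (hu : Uni h.rsys)
include hu

theorem ad (K : Type*) [Field K] : Ad (h.grp K) := ⟨h.grp_Gr K, h.grp_adj K, hu⟩

theorem exists_ext' {K k : Type*} [Field K] [Fintype K] [Field k] [IsAlgClosed k] (j : K →+* k) :
    ∃ E : Ext (h.grp K) (h.grp k), E.j = j := by
  have a0 := ad h hu K
  have a1 := ad h hu k
  obtain ⟨θ, h1, h2, -, h4⟩ := (h.grp k).exists_ext a1.top a1.sc (h.grp K) a0.top a0.sc j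
  obtain ⟨f, hf, hs⟩ := exists_frob_alg j one_ne_zero (pow_one (Fintype.card K)).dvd
  obtain ⟨σ, hσ⟩ := a1.sc.exists_hom_top a1.top ((h.grp k).sub f).toSt0 (a1.r3.twist _ _ Nat.cast_zero)
  have hσ' : ∀ r t, σ ((h.grp k).x r t) = (h.grp k).x r (f t) := fun r t => (hσ r t).trans ((h.grp k).sub_x f r t)
  exact ⟨⟨a0, a1, j, θ, h1, h2, f, hf, σ, hσ', h4 f σ hs (fun t e => mem_range_of_pow_card j (hf t ▸ e)) hσ',
    fun y => (h.lang σ (m := 0) (Ψ := Set.univ) (fun r _ => ⟨r, trivial, Polynomial.X ^ Fintype.card K, fun t => by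
      simp [hσ', hf]⟩) Fintype.one_lt_card f hf hσ' (a1.mem_Gr y)).imp fun _ h => h.2⟩, rfl⟩

theorem mixed {K k : Type*} [Field K] [Fintype K] [Field k] [IsAlgClosed k] (E : Ext (h.grp K) (h.grp k))
    (p : ℕ) [hp : Fact p.Prime] [CharP K p] {s u : D.group K} (hs : (orderOf s).Coprime p) {e : ℕ}
    (hue : u ^ p ^ e = 1) (hsu : Commute s u) {c : Fin D.rank → kˣ} (hc : IsConj (E.θ s) (E.ad.tt c))
    (hA : ∀ w ∈ Wc h.rsys c, orderOf w = p → ∃ r ∈ Pc h.rsys c, ¬ h.rsys.Pos (w r)) :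
    ∃ v ∈ (h.grp k).XS (Pc h.rsys c), IsConj (E.θ u) v := by
  classical
  have := h.finite_grp K
  set q := Fintype.card K with hq
  have : CharP k p := charP_of_injective_ringHom E.j.injective p
  obtain ⟨a, -, ha⟩ := FiniteField.card K p
  have hm : (orderOf s).Coprime q := by rw [hq, ha]; exact hs.pow_right _
  set n := (orderOf s).totient
  have hn : n ≠ 0 := (Nat.totient_pos.2 (orderOf_pos s)).ne'
  have hqn : q ^ n ≡ 1 [MOD orderOf s] := Nat.ModEq.pow_totient hm.symm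
  have hf : ∀ n t, (E.f ^ n) t = t ^ q ^ n := fun n t => by
    induction n with
    | zero => simp
    | succ n ih => rw [pow_succ', RingHom.mul_def, RingHom.comp_apply, ih, E.hf, ← pow_mul, pow_succ]
  let L : Subfield k := (E.f ^ n).eqLocusField (RingHom.id k)
  have hL : ∀ t, t ∈ L ↔ t ^ q ^ n = t := fun t => by rw [← hf]; rfl
  have h1 : 1 < q ^ n := Nat.one_lt_pow hn Fintype.one_lt_card
  have : Finite L := by
    refine Set.Finite.subset (Polynomial.rootSet_finite (Polynomial.X ^ q ^ n - Polynomial.X : Polynomial k) k)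
      fun t ht => ?_
    rw [Polynomial.mem_rootSet]
    exact ⟨FiniteField.X_pow_card_sub_X_ne_zero k h1, by simp [(hL t).1 ht]⟩
  have := Fintype.ofFinite L
  have := h.finite_grp L
  obtain ⟨E', hj⟩ := exists_ext' h hu L.subtype
  have key : ∀ x, E.θ x ∈ E'.θ.range := fun x => E'.fix _ (eq_of_mem_Gr (θ := E'.σ.comp E.θ) (θ' := E.θ)
    (S := (h.grp K).toSt0) (fun r t => by
      have : E.j t ∈ L := (hL _).2 (by rw [← map_pow, FiniteField.pow_card_pow])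
      rw [MonoidHom.comp_apply, E.θx, E'.σx, E'.hf]
      exact congrArg _ (congrArg Subtype.val (FiniteField.pow_card (⟨_, this⟩ : L)))) (E.ad0.mem_Gr x))
  obtain ⟨s', hs'⟩ := key s
  obtain ⟨u', hu'⟩ := key u
  have hcm : ∀ i, (c i : k) ∈ L := fun i => (hL _).2 (by
    have := congrFun (pow_eq_pow_iff_modEq.2 (show q ^ n ≡ 1 [MOD orderOf c] by
      rwa [← E.ad.orderOf_tt, ← E.orderOf_eq hc])) i
    simpa using congrArg Units.val this)
  let c' : Fin D.rank → Lˣ := fun i => Units.mk0 ⟨c i, hcm i⟩ fun e => (c i).ne_zero (congrArg Subtype.val e)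
  have hc' : (fun i => Units.map E'.j.toMonoidHom (c' i)) = c := funext fun i => Units.ext (by rw [hj]; rfl)
  have hχ : ∀ v, Units.map E'.j.toMonoidHom (RS.chi c' v) = RS.chi c v := fun v => by
    rw [← hc']; simp only [RS.chi, _root_.map_prod, map_zpow]
  have hinj : Function.Injective (Units.map E'.j.toMonoidHom) := Units.map_injective E'.j.injective
  have hP : Pc h.rsys c' = Pc h.rsys c := Set.ext fun r => and_congr_right fun _ => by
    rw [← hχ, map_eq_one_iff _ hinj]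
  obtain ⟨g, hg⟩ := isConj_iff.1 ((E'.main p).2 s' (E'.ad0.tt c') (by
    rwa [← orderOf_injective _ E'.inj, hs', orderOf_injective _ E.inj]) (by rwa [hs', E'.θ_tt, hc']))
  obtain ⟨y, -, hy⟩ := E'.ad0.conj_Uc p (c := c') (fun w hw => hP ▸ hA w ⟨hw.1, funext fun i => by
      rw [ac_apply, ← hχ, ← ac_apply, show ac h.rsys w c' = c' from hw.2, ← hc']⟩) (u := g * u' * g⁻¹) (e := e)
    (by rw [conj_pow, mul_inv_eq_one, mul_eq_left]; exact E'.inj (by rw [map_pow, hu', ← map_pow, hue, map_one, map_one]))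
    (Subgroup.mem_centralizer_singleton_iff.2 (by
      rw [← hg]
      exact (Commute.of_map E'.inj (by rw [hs', hu']; exact hsu.symm.map _) : Commute u' s').conj g))
  refine ⟨E'.θ _, ((h.grp L).XS_le (M := ((h.grp k).XS (Pc h.rsys c)).comap E'.θ)).2 (fun r hr t => ?_) hy,
    hu' ▸ E'.θ.map_isConj (isConj_iff.2 ⟨y⁻¹ * g, by group⟩)⟩
  rw [Subgroup.mem_comap, E'.θx]
  exact (h.grp k).x_mem (hP ▸ hr) _

end ext

end H14.SS
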