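import Cfsg.Agent.H14.SS2
import Cfsg.Agent.H24.Syl
import Cfsg.Agent.H24.Cent

/-! Involutions of `G₂`, `F₄`, `E₈` in odd characteristic. -/

set_option autoImplicit false
set_option linter.unusedVariables false
set_option linter.unusedSectionVars false
set_option linter.style.haveILetI false
set_option maxRecDepth 100000

namespace H14.SS
open H24 H24.St0 Finset Cfsg.Lie

section sg
variable {ι : Type} [Fintype ι] [DecidableEq ι] (k : Type*) [Field k]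

/-- sign characters -/
def sg (v : ι → ℤ) : ι → kˣ := fun i => (-1) ^ v i

variable {k}

theorem chi_sg (v u : ι → ℤ) : RS.chi (sg k v) u = (-1) ^ ∑ i, v i * u i := by
  simp only [RS.chi, sg, ← zpow_mul, prod_zpow_eq_zpow_sum']

theorem chi_sg1 (i : ι) (u : ι → ℤ) : RS.chi (sg k (Pi.single i 1)) u = (-1) ^ u i := by
  rw [chi_sg, sum_eq_single i (fun j _ hj => by simp [hj]) (by simp)]; simp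

theorem neg_one_zpow_eq (h2 : (-1 : kˣ) ≠ 1) (a b : ℤ) : (-1 : kˣ) ^ a = (-1) ^ b ↔ Even (a - b) := by
  rw [zpow_eq_zpow_iff_modEq, orderOf_eq_prime (p := 2) (by simp) h2, Int.modEq_comm, Int.modEq_iff_dvd,
    even_iff_two_dvd]; rfl

theorem ne_one_of_odd {F : Type*} [Field F] [Fintype F] (hF : Odd (Fintype.card F)) (j : F →+* k) :
    (-1 : kˣ) ≠ 1 := fun e => by
  have h1 : (2 : F) = 0 := j.injective (by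
    have := congrArg Units.val e
    simp only [Units.val_neg, Units.val_one] at this
    rw [map_ofNat, map_zero]; linear_combination -this)
  obtain ⟨m, hm⟩ := hF
  have := FiniteField.cast_card_eq_zero F
  rw [hm] at this; push_cast at this
  rw [h1] at this; simp at this

theorem orderOf_sg1 (h2 : (-1 : kˣ) ≠ 1) (i : ι) : orderOf (sg k (Pi.single i 1)) = 2 :=
  orderOf_eq_prime (funext fun j => by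
    rw [Pi.pow_apply, sg, ← zpow_natCast, ← zpow_mul, mul_comm, zpow_mul, zpow_natCast, neg_one_sq, one_zpow]; rfl)
    fun e => h2 (by simpa [sg] using congrFun e i)

end sg

noncomputable def cntLt (n : ℕ) (p : ℕ → Bool) : ℕ := Nat.rec 0 (fun k a => Bool.rec a (Nat.succ a) (p k)) n

theorem cntLt_eq (n : ℕ) (p : ℕ → Bool) : cntLt n p = {r : Fin n | p r = true}.ncard := by
  rw [show {r : Fin n | p r = true} = ↑(univ.filter fun r : Fin n => p r = true) by simp, Set.ncard_coe_finset,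
    card_filter]
  induction n with
  | zero => rfl
  | succ n ih =>
    have : cntLt (n + 1) p = Bool.rec (cntLt n p) (cntLt n p + 1) (p n) := rfl
    rw [this, Fin.sum_univ_castSucc, ih]
    cases h : p n <;> simp [h]

noncomputable def evB (x : ℤ) : Bool := Nat.beq (Nat.mod x.natAbs 2) 0

@[simp] theorem evB_iff {x : ℤ} : evB x = true ↔ Even x := by
  rw [evB, Nat.beq_eq, ← Int.natAbs_even, Nat.even_iff]; rfl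

noncomputable def chkStab (T : Tab) (i0 : ℕ) (ds : List (List ℕ)) (fs : List (List ℤ)) (n0 : ℕ) (ns : List ℕ) : Bool :=
  band (Nat.beq (cntLt T.n fun r => band (T.posB r) (evB (T.rtv r i0))) n0) <|
  allLt ds.length fun a => band (allL (ds.getD a []) fun i => Nat.blt i T.l) <|
    band (allLt T.l fun i => band (ibeq (T.rtv (T.appl (ds.getD a []) (T.simple i)) i0) (n2 fs a i))
      (evB (Int.sub (n2 fs a i) (T.rtv (T.simple i) i0)))) <|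
    band (allLt T.n fun r => forceB (T.appl (ds.getD a []) r) fun s =>
      bor (bnot (isZ (T.rtv s i0))) (bor (bnot (T.posB r)) (T.posB s))) <|
    band (allLt a fun b => anyLt T.l fun i => bnot (ibeq (n2 fs a i) (n2 fs b i))) <|
    Nat.beq (cntLt T.n fun r => band (band (T.posB r) (evB (T.rtv r i0)))
      (bnot (T.posB (T.appl (ds.getD a []) r)))) (nth ns a)

noncomputable def chkCov1 (T : Tab) (i0 a0 m : ℕ) (fs : List (List ℤ)) : Bool :=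
  band (Nat.blt a0 T.n) <| band (allLt T.l fun i => ibeq (T.A a0 (T.simple i)) (T.rtv (T.simple i) i0)) <|
  allLt T.n fun a => bor (bnot (Nat.beq (T.len a) (T.len a0))) <|
    bor (anyLt T.l fun i => bnot (evB (Int.sub (T.A a (T.simple i)) (T.rtv (T.simple i) i0))))
      (anyLt m fun b => allLt T.l fun i => ibeq (T.A a (T.simple i)) (n2 fs b i))

noncomputable def chkCov2 (T : Tab) (i0 a0 b0 m : ℕ) (fs : List (List ℤ)) (pc : ℕ) : Bool :=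
  band (Nat.blt a0 T.n) <| band (Nat.blt b0 T.n) <|
  band (allLt T.l fun i => ibeq (Int.add (T.A a0 (T.simple i)) (T.A b0 (T.simple i))) (T.rtv (T.simple i) i0)) <|
  band (allLt T.n fun a => band (Nat.blt (bits pc (Nat.mul 8 a) 8) (Nat.pow 2 T.l)) <| allLt T.l fun i =>
    evB (Int.sub (T.A a (T.simple i)) (Bool.rec 0 1 (Nat.testBit (bits pc (Nat.mul 8 a) 8) i)))) <|
  allLt T.n fun a => forceB (Nat.xor (bits pc (Nat.mul 8 a) 8) (Nat.pow 2 i0)) fun x => allLt T.n fun b =>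
    bor (bnot (Nat.beq (bits pc (Nat.mul 8 b) 8) x))
      (anyLt m fun d => allLt T.l fun i => ibeq (Int.add (T.A a (T.simple i)) (T.A b (T.simple i))) (n2 fs d i))

noncomputable def chkCls (T : Tab) (L : List (List ℕ × ℕ)) (I : List ℕ) : Bool :=
  allLt (Nat.pow 2 T.l) fun m => bor (Nat.beq m 0) <| band (decide ((L.getD m ([], 0)).2 ∈ I)) <|
    band (Nat.blt (L.getD m ([], 0)).2 T.l) <| band (allL (L.getD m ([], 0)).1 fun i => Nat.blt i T.l) <|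
    allLt T.l fun j => forceB (T.appl (L.getD m ([], 0)).1 (T.simple j)) fun s =>
      evB (Int.sub (sumLt T.l fun i => Int.mul (Bool.rec 0 1 (Nat.testBit m i)) (T.rtv s i))
        (T.rtv (T.simple j) (L.getD m ([], 0)).2))

section tab
variable {D : ChevalleyDatum} {T : Tab} (h : T.Chk D)

/-- the covering condition -/
def Cov (i0 : Fin D.rank) (m : ℕ) (fs : List (List ℤ)) : Prop := ∀ w ∈ h.rsys.W,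
  (∀ i, Even (h.rsys.rt (w (h.rsys.sim i)) i0 - h.rsys.rt (h.rsys.sim i) i0)) →
    ∃ a < m, ∀ i : Fin D.rank, h.rsys.rt (w (h.rsys.sim i)) i0 = n2 fs a i

theorem ext_lin {ι Φ : Type} [Fintype ι] [DecidableEq ι] (R : RS ι Φ) {f : (ι → ℤ) →ₗ[ℤ] ℤ} {i0 : ι}
    (H : ∀ i, f (R.rt (R.sim i)) = R.rt (R.sim i) i0) (v : ι → ℤ) : f v = v i0 := by
  have : f = LinearMap.proj i0 := LinearMap.pi_ext' fun i => LinearMap.ext_ring (by simpa [R.rt_sim] using H i)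
  rw [this]; rfl

theorem cov1 (i0 : Fin D.rank) {a0 m : ℕ} {fs : List (List ℤ)} (H : chkCov1 T i0 a0 m fs = true) : Cov h i0 m fs := by
  simp only [chkCov1, band_iff, bor_iff, bnot_iff, allLt_iff, anyLt_iff, Nat.blt_eq, Nat.beq_eq, ibeq_iff, evB_iff,
    isub_eq] at H
  obtain ⟨h1, h2, h3⟩ := H
  intro w hw he
  have ha := h.rsys.W_le_Aut hw
  have key : ∀ i, h.rsys.rt (w (h.rsys.sim i)) i0 = T.A (w⁻¹ (h.fin a0)) (T.simple i) := fun i => by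
    rw [← ext_lin h.rsys (f := h.rsys.Av (h.fin a0)) (i0 := i0) (fun i => by
      rw [← RS.A_def, h.A_eq, h.val_fin h1, h.val_sim, h2 i (h.lt_l i), h.rt_eq, h.val_sim]) (h.rsys.rt (w _)),
      ← RS.A_def, ← h.val_sim, ← h.A_eq, ← RS.Aut.A ha (w⁻¹ _)]
    simp
  rcases h3 _ (h.lt_n (w⁻¹ (h.fin a0))) with e | ⟨i, hi, e⟩ | ⟨b, hb, e⟩
  · have := RS.Aut.len (inv_mem ha) (h.fin a0)
    refine absurd ?_ e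
    conv_rhs => rw [← h.val_fin h1]
    exact Nat.cast_injective (R := ℤ) this
  · have := he ⟨i, h.hl ▸ hi⟩
    rw [key, h.rt_eq, h.val_sim] at this
    exact absurd this e
  · exact ⟨b, hb, fun i => (key i).trans (e i (h.lt_l i))⟩

theorem par {x y : ℤ} {a b : Bool} {e : Prop} [Decidable e] (e1 : Even (x + y - if e then 1 else 0))
    (e2 : Even (x - Bool.rec 0 1 a)) (e3 : Even (y - Bool.rec 0 1 b)) : b = (a ^^ decide e) := by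
  by_cases h : e <;> cases a <;> cases b <;> simp only [h, Int.even_iff, if_true, if_false] at e1 e2 e3 <;>
    first | simp [h]; done | omega

theorem cov2 (i0 : Fin D.rank) {a0 b0 m pc : ℕ} {fs : List (List ℤ)} (H : chkCov2 T i0 a0 b0 m fs pc = true) :
    Cov h i0 m fs := by
  simp only [chkCov2, band_iff, bor_iff, bnot_iff, allLt_iff, anyLt_iff, Nat.blt_eq, Nat.beq_eq, ibeq_iff, evB_iff,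
    isub_eq, iadd_eq, forceB_eq] at H
  obtain ⟨h1, h1', h2, h3, h4⟩ := H
  intro w hw he
  have ha := h.rsys.W_le_Aut hw
  have key : ∀ i, h.rsys.rt (w (h.rsys.sim i)) i0 =
      T.A (w⁻¹ (h.fin a0)) (T.simple i) + T.A (w⁻¹ (h.fin b0)) (T.simple i) := fun i => by
    rw [← ext_lin h.rsys (f := h.rsys.Av (h.fin a0) + h.rsys.Av (h.fin b0)) (i0 := i0) (fun i => by
      rw [LinearMap.add_apply, ← RS.A_def, ← RS.A_def, h.A_eq, h.A_eq, h.val_fin h1, h.val_fin h1', h.val_sim,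
        h2 i (h.lt_l i), h.rt_eq, h.val_sim]) (h.rsys.rt (w _)),
      LinearMap.add_apply, ← RS.A_def, ← RS.A_def, ← h.val_sim, ← h.A_eq, ← h.A_eq, ← RS.Aut.A ha (w⁻¹ _),
      ← RS.Aut.A ha (w⁻¹ _)]
    simp
  obtain ⟨a1, a2⟩ := h3 _ (h.lt_n (w⁻¹ (h.fin a0)))
  obtain ⟨b1, b2⟩ := h3 _ (h.lt_n (w⁻¹ (h.fin b0)))
  obtain ⟨d, hd, e⟩ := (h4 _ (h.lt_n (w⁻¹ (h.fin a0))) _ (h.lt_n (w⁻¹ (h.fin b0)))).resolve_left (not_not.2 (by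
    refine Nat.eq_of_testBit_eq fun i => ?_
    change _ = Nat.testBit (_ ^^^ 2 ^ (i0 : ℕ)) i
    rw [Nat.testBit_xor, Nat.testBit_two_pow]
    by_cases hi : i < T.l
    · have e1 := he ⟨i, h.hl ▸ hi⟩
      have e2 := a2 i hi
      have e3 := b2 i hi
      rw [key, RS.rt_sim, Pi.single_apply] at e1
      simp only [Fin.ext_iff] at e1
      exact par e1 e2 e3
    · have hp : Nat.pow 2 T.l ≤ 2 ^ i := Nat.pow_le_pow_right two_pos (by omega)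
      have := h.lt_l i0
      rw [Nat.testBit_lt_two_pow (a1.trans_le hp), Nat.testBit_lt_two_pow (b1.trans_le hp)]
      simp; omega))
  exact ⟨d, hd, fun i => (key i).trans (e i (h.lt_l i))⟩

theorem cls_spec {L : List (List ℕ × ℕ)} {I : List ℕ} (H : chkCls T L I = true) {k : Type*} [Field k]
    (h2 : (-1 : kˣ) ≠ 1) {c : Fin D.rank → kˣ} (hc : orderOf c = 2) :
    ∃ i0 : Fin D.rank, (i0 : ℕ) ∈ I ∧ ∃ w ∈ h.rsys.W, sg k (Pi.single i0 1) = ac h.rsys w c := by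
  classical
  simp only [chkCls, band_iff, bor_iff, allLt_iff, allL_iff, Nat.blt_eq, Nat.beq_eq, evB_iff, decide_eq_true_eq,
    isub_eq, imul_eq, forceB_eq, h.sumLt_eq'] at H
  set m := Nat.ofBits fun i => decide (c i = -1)
  have hm : c = sg k fun i : Fin D.rank => Bool.rec 0 1 (Nat.testBit m i) := funext fun i => by
    have : c i * c i = 1 := by rw [← sq]; exact congrFun (hc ▸ pow_orderOf_eq_one c) i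
    rw [sg, Nat.testBit_ofBits_lt _ _ i.2]
    by_cases e : c i = -1
    · simp [e]
    · simpa [e] using Units.ext_iff.2 ((mul_self_eq_one_iff.1 (Units.ext_iff.1 this)).resolve_right
        fun e' => e (Units.ext e'))
  obtain ⟨h3, h4, h5, h6⟩ := (H m (h.hl ▸ Nat.ofBits_lt_two_pow _)).resolve_left fun e => by
    rw [hm, e, show (sg k fun i : Fin D.rank => Bool.rec 0 1 (Nat.testBit 0 i)) = 1 from funext fun i => by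
      simp [sg]] at hc
    simp at hc
  obtain ⟨w, hw, e⟩ := h.exists_wd _ h5
  refine ⟨⟨_, h.hl ▸ h4⟩, h3, w, hw, funext fun j => ?_⟩
  rw [ac_apply, hm, chi_sg, ← chi_sim (R := h.rsys) (sg k _) j, chi_sg1, eq_comm, neg_one_zpow_eq h2]
  simpa only [h.rt_eq, e, h.val_sim] using h6 j (h.lt_l j)

variable (hu : Uni h.rsys)

/-- the standard involutions -/
noncomputable def inv (F : Type*) [Field F] (i : Fin D.rank) : D.group F := (ad h hu F).tt (sg F (Pi.single i 1))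

variable {F : Type*} [Field F] [Fintype F] (hF : Odd (Fintype.card F))
include hF

theorem orderOf_inv' (i : Fin D.rank) : orderOf (inv h hu F i) = 2 := by
  rw [inv, Ad.orderOf_tt, orderOf_sg1 (ne_one_of_odd hF (RingHom.id F))]

theorem conj_inv {L : List (List ℕ × ℕ)} {I : List ℕ} (H : chkCls T L I = true) {u : D.group F}
    (h2 : orderOf u = 2) : ∃ i0 : Fin D.rank, (i0 : ℕ) ∈ I ∧ IsConj u (inv h hu F i0) := by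
  obtain ⟨E⟩ := exists_ext h hu F
  obtain ⟨p, _, n, hp, hn⟩ := FiniteField.card' F
  have := Fact.mk hp
  have := h.finite_grp F
  have hc : (orderOf u).Coprime p := by
    rw [h2, Nat.coprime_primes Nat.prime_two hp]
    rintro rfl
    exact (Nat.not_even_iff_odd.2 hF) (hn ▸ (Nat.even_pow.2 ⟨even_two, n.ne_zero⟩))
  obtain ⟨-, -, c, -, e⟩ := (E.main p).1 u hc
  obtain ⟨i0, hi, w, hw, e'⟩ := cls_spec h H (ne_one_of_odd hF E.j) (c := c)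
    (by rw [← E.ad.orderOf_tt, ← E.orderOf_eq e, h2])
  refine ⟨i0, hi, (E.main p).2 _ _ hc (e.trans ?_)⟩
  rw [inv, E.θ_tt]
  refine E.ad.isConj_tt.2 ⟨w, hw, (funext fun i => ?_).trans e'⟩
  simp only [sg, map_zpow]
  congr 1; ext; simp

theorem card_inv (i0 : Fin D.rank) {ds : List (List ℕ)} {fs : List (List ℤ)} {n0 : ℕ} {ns : List ℕ}
    (H : chkStab T i0 ds fs n0 ns = true) (hc : Cov h i0 ds.length fs) {J : ℕ}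
    (hJ : ∀ i : Fin D.rank, Tab.bit J i = true ↔ i ≠ i0) :
    Nat.card (Subgroup.centralizer {inv h hu F i0}) = Fintype.card F ^ n0 * ((Fintype.card F - 1) ^ D.rank *
      (h.rsys.PJ {i | Tab.bit J i = true} (Fintype.card F) * ∑ a ∈ range ds.length, Fintype.card F ^ nth ns a)) := by
  simp only [chkStab, band_iff, bor_iff, bnot_iff, allLt_iff, anyLt_iff, allL_iff, Nat.blt_eq, Nat.beq_eq, ibeq_iff,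
    evB_iff, isub_eq, forceB_eq, isZ_iff] at H
  obtain ⟨h1, H⟩ := H
  have h2 := ne_one_of_odd hF (RingHom.id F)
  have e0 : ∀ r, RS.chi (sg F (Pi.single i0 1)) (h.rsys.rt r) = 1 ↔ Even (h.rsys.rt r i0) := fun r => by
    simpa [chi_sg1] using neg_one_zpow_eq h2 (h.rsys.rt r i0) 0
  have e1 : ∀ w ∈ h.rsys.W, w ∈ Wc h.rsys (sg F (Pi.single i0 1)) ↔
      ∀ i, Even (h.rsys.rt (w (h.rsys.sim i)) i0 - h.rsys.rt (h.rsys.sim i) i0) := fun w hw =>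
    (and_iff_right hw).trans (funext_iff.trans (forall_congr' fun i => by
      rw [ac_apply, ← chi_sim (R := h.rsys) (sg F _) i, chi_sg1, chi_sg1, neg_one_zpow_eq h2]))
  choose d hd he using fun a : Fin ds.length => h.exists_wd _ (H a a.2).1
  have e2 : ∀ a i, h.rsys.rt (d a (h.rsys.sim i)) i0 = n2 fs a i := fun a i => by
    rw [h.rt_eq, he, h.val_sim, ((H a a.2).2.1 i (h.lt_l i)).1]
  have hP : ∀ r, r ∈ Pc h.rsys (sg F (Pi.single i0 1)) ↔ band (T.posB r) (evB (T.rtv r i0)) = true := fun r => by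
    rw [band_iff, h.posB_iff, evB_iff, ← h.rt_eq, ← e0]; rfl
  have := sum_stab i0 e0 e1 d (fun a => (e1 _ (hd a)).2 fun i => by
      rw [e2, h.rt_eq, h.val_sim]; exact ((H a a.2).2.1 i (h.lt_l i)).2)
    (fun a r e hr => by
      have := (H a a.2).2.2.1 r (h.lt_n r)
      rw [← he, ← h.rt_eq, h.posB_iff, h.posB_iff] at this
      exact (this.resolve_left (not_not.2 e)).resolve_left (not_not.2 hr))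
    (fun a b e => by
      simp only [e2] at e
      rcases lt_trichotomy a b with hl | hl | hl
      · obtain ⟨i, hi, e'⟩ := (H b b.2).2.2.2.1 a hl
        exact absurd (e ⟨i, h.hl ▸ hi⟩).symm e'
      · exact hl
      · obtain ⟨i, hi, e'⟩ := (H a a.2).2.2.2.1 b hl
        exact absurd (e ⟨i, h.hl ▸ hi⟩) e')
    (fun w hw => by
      obtain ⟨a, ha, e⟩ := hc w hw.1 ((e1 w hw.1).1 hw)
      exact ⟨⟨a, ha⟩, fun i => (e i).trans (e2 ⟨a, ha⟩ i).symm⟩) (Fintype.card F)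
  rw [inv, Ad.card_cent, (ad h hu F).card_H, Nat.card_units, Nat.card_eq_fintype_card, Fintype.card_fin, ← h1,
    ← h.hn, cntLt_eq, ← Fin.sum_univ_eq_sum_range, Set.ext hJ]
  congr 2
  · exact congrArg _ (Set.ext hP)
  refine this.trans (congrArg _ (sum_congr rfl fun a _ => ?_))
  rw [← (H a a.2).2.2.2.2, ← h.hn, cntLt_eq]
  refine congrArg _ (congrArg _ (Set.ext fun r => ?_))
  rw [Set.mem_ofPred_eq, Set.mem_ofPred_eq, band_iff, hP, bnot_iff, ← he, h.posB_iff]; rfl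

end tab

theorem uniG2 : Uni tabG2_chk.rsys := ⟨Matrix.of (lm [[2, 3], [1, 2]]), by decide +kernel⟩
theorem uniF4 : Uni tabF4_chk.rsys :=
  ⟨Matrix.of (lm [[2, 3, 4, 2], [3, 6, 8, 4], [2, 4, 6, 3], [1, 2, 3, 2]]), by decide +kernel⟩
theorem uniE8 : Uni tabE8_chk.rsys :=
  ⟨Matrix.of (lm [[4, 5, 7, 10, 8, 6, 4, 2], [5, 8, 10, 15, 12, 9, 6, 3], [7, 10, 14, 20, 16, 12, 8, 4],
    [10, 15, 20, 30, 24, 18, 12, 6], [8, 12, 16, 24, 20, 15, 10, 5], [6, 9, 12, 18, 15, 12, 8, 4],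
    [4, 6, 8, 12, 10, 8, 6, 3], [2, 3, 4, 6, 5, 4, 3, 2]]), by decide +kernel⟩

theorem clsG2 : chkCls tabG2 [([], 0), ([0, 1], 1), ([], 1), ([1], 1)] [1] = true := by decide +kernel

theorem cardG2_1 {F : Type*} [Field F] [Fintype F] (hF : Odd (Fintype.card F)) :
    Nat.card (Subgroup.centralizer {inv tabG2_chk uniG2 F ⟨1, by decide⟩}) =
      Fintype.card F ^ 2 * ((Fintype.card F - 1) ^ 2 *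
        (([[1, 1]].map fun a => evalL a (Fintype.card F)).prod * (0 + Fintype.card F ^ 0 + Fintype.card F ^ 1))) := by
  rw [card_inv _ _ hF _ (ds := [[], [1, 0, 1, 0, 1]]) (fs := [[0, 1], [0, -1]]) (n0 := 2) (ns := [0, 1]) (J := 1) (by decide +kernel)
    (cov1 _ _ (a0 := 11) (by decide +kernel)) (by decide +kernel), tabG2_chk.poin_spec [(3, 0x1020000, 0, [1, 1])] (by decide +kernel)]
  generalize Fintype.card F = q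
  change _ * (_ * (_ * ∑ a ∈ range 2, _)) = _
  simp only [sum_range_succ, sum_range_zero]
  rfl

theorem clsF4 : chkCls tabF4 [([], 0), ([], 0), ([1, 0], 0), ([0], 0), ([2, 1, 2, 0, 1, 2, 3], 3), ([0, 1, 2, 3], 3), ([2, 3], 3), ([1, 2, 3], 3), ([], 3), ([3, 2, 1, 2, 3], 3), ([3, 1, 2, 0, 1, 2, 3], 3), ([3, 2, 0, 1, 2, 3], 3), ([3], 3), ([2, 1, 2, 3], 3), ([1, 2, 0, 1, 2, 3], 3), ([2, 0, 1, 2, 3], 3)] [0, 3] = true := by decide +kernel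

theorem cardF4_0 {F : Type*} [Field F] [Fintype F] (hF : Odd (Fintype.card F)) :
    Nat.card (Subgroup.centralizer {inv tabF4_chk uniF4 F ⟨0, by decide⟩}) =
      Fintype.card F ^ 16 * ((Fintype.card F - 1) ^ 4 *
        (([[1, 1, 2, 2, 2, 2, 1, 1], [1, 2, 1]].map fun a => evalL a (Fintype.card F)).prod * (0 + Fintype.card F ^ 0 + Fintype.card F ^ 1 + Fintype.card F ^ 2 + Fintype.card F ^ 3 + Fintype.card F ^ 4 + Fintype.card F ^ 5 + Fintype.card F ^ 6 + Fintype.card F ^ 7))) := by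
  rw [card_inv _ _ hF _ (ds := [[], [0, 1, 2, 1, 0], [0, 1, 2, 1, 0, 3], [0, 1, 2, 1, 0, 3, 2], [0, 1, 2, 1, 0, 3, 2, 1], [0, 1, 2, 1, 0, 3, 2, 1, 2], [0, 1, 2, 1, 0, 3, 2, 1, 2, 3], [0, 1, 2, 1, 0, 3, 2, 1, 0, 2, 1, 3, 2, 1, 0]]) (fs := [[1, 0, 0, 0], [-1, 0, 0, 2], [-1, 0, 2, -2], [-1, 2, -2, 0], [1, -2, 2, 0], [1, 0, -2, 2], [1, 0, 0, -2], [-1, 0, 0, 0]]) (n0 := 16) (ns := [0, 1, 2, 3, 4, 5, 6, 7]) (J := 14) (by decide +kernel)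
    (cov1 _ _ (a0 := 44) (by decide +kernel)) (by decide +kernel), tabF4_chk.poin_spec [(32, 0x10203000000030404050506000000060708000000000000000000000000000000, 10, [1, 1, 2, 2, 2, 2, 1, 1]),
    (12, 0x1020203000000000000000000, 0, [1, 2, 1])] (by decide +kernel)]
  generalize Fintype.card F = q
  change _ * (_ * (_ * ∑ a ∈ range 8, _)) = _
  simp only [sum_range_succ, sum_range_zero]
  rfl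

theorem cardF4_3 {F : Type*} [Field F] [Fintype F] (hF : Odd (Fintype.card F)) :
    Nat.card (Subgroup.centralizer {inv tabF4_chk uniF4 F ⟨3, by decide⟩}) =
      Fintype.card F ^ 10 * ((Fintype.card F - 1) ^ 4 *
        (([[1, 1, 2, 2, 2, 2, 1, 1], [1, 2, 1]].map fun a => evalL a (Fintype.card F)).prod * (0 + Fintype.card F ^ 0 + Fintype.card F ^ 1))) := by
  rw [card_inv _ _ hF _ (ds := [[], [3, 2, 1, 0, 2, 1, 2, 3, 2, 1, 0, 2, 1, 2, 3]]) (fs := [[0, 0, 0, 1], [0, 0, 0, -1]]) (n0 := 10) (ns := [0, 1]) (J := 7) (by decide +kernel)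
    (cov1 _ _ (a0 := 47) (by decide +kernel)) (by decide +kernel), tabF4_chk.poin_spec [(37, 0x100020304000000000304000000000000050600000000050607000800000000000000000000, 5, [1, 1, 2, 2, 2, 2, 1, 1]),
    (16, 0x102000000000000000000020300000000, 0, [1, 2, 1])] (by decide +kernel)]
  generalize Fintype.card F = q
  change _ * (_ * (_ * ∑ a ∈ range 2, _)) = _
  simp only [sum_range_succ, sum_range_zero]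
  rfl

theorem clsE8 : chkCls tabE8 [([], 0), ([], 0), ([1, 3, 4, 5, 6, 7, 2, 3, 4, 5, 6, 1, 3, 4, 5, 2, 3, 4, 1, 3, 2, 0], 0), ([0, 2, 3, 4, 5, 6, 7], 7), ([2, 3, 4, 5, 6, 7, 1, 3, 4, 5, 6, 2, 3, 4, 5, 1, 3, 4, 2, 3, 0, 2, 1, 3, 4, 5, 6, 7], 7), ([0], 0), ([1, 3, 4, 5, 6, 7], 7), ([2, 3, 4, 5, 6, 7], 7), ([3, 4, 5, 6, 7, 2, 3, 4, 5, 6, 0, 2, 3, 4, 5, 1, 3, 4, 2, 3, 0, 2, 1, 3, 4, 5, 6, 7], 7), ([3, 4, 5, 6, 7, 1, 3, 4, 5, 6, 0, 2, 3, 4, 5, 1, 3, 4, 2, 3, 0, 2, 1, 3, 4, 5, 6, 7], 7), ([3, 4, 5, 6, 7, 2, 3, 4, 5, 6, 1, 3, 4, 5, 2, 3, 4, 1, 3, 2, 0], 0), ([0, 2, 1, 3, 4, 5, 6, 7], 7), ([2, 0], 0), ([3, 4, 5, 6, 7, 1, 3, 4, 5, 6, 2, 3, 4, 5, 1, 3, 4, 2, 3, 0, 2, 1, 3, 4, 5, 6, 7], 7), ([3, 4, 5, 6, 7], 7), ([2, 1, 3, 4, 5, 6, 7], 7), ([4, 5, 6, 7, 3, 4, 5, 6, 2, 3, 4, 5, 0, 2, 3, 4,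 1, 3, 2, 0], 0), ([4, 5, 6, 7, 3, 4, 5, 6, 1, 3, 4, 5, 0, 2, 3, 4, 1, 3, 2, 0], 0), ([1, 3, 2, 0], 0), ([4, 5, 6, 7, 3, 4, 5, 6, 2, 3, 4, 5, 1, 3, 4, 2, 3, 0, 2, 1, 3, 4, 5, 6, 7], 7), ([2, 3, 0, 2, 1, 3, 4, 5, 6, 7], 7), ([4, 5, 6, 7, 3, 4, 5, 6, 1, 3, 4, 5, 2, 3, 4, 1, 3, 2, 0], 0), ([4, 5, 6, 7, 2, 1, 3, 4, 5, 6, 0, 2, 3, 4, 5, 1, 3, 4, 2, 3, 0, 2, 1, 3, 4, 5, 6, 7], 7), ([4, 5, 6, 7, 3, 4, 5, 6, 0, 2, 3, 4, 5, 1, 3, 4, 2, 3, 0, 2, 1, 3, 4, 5, 6, 7], 7), ([4, 5, 6, 7], 7), ([3, 2, 1, 3, 4, 5, 6, 7], 7), ([3, 2, 0], 0), ([4, 5, 6, 7, 1, 3, 4, 5, 6, 2, 3, 4, 5, 1, 3, 4, 2, 3, 0, 2, 1, 3, 4, 5, 6, 7], 7), ([4, 5, 6, 7, 2, 3, 4, 5, 6, 1, 3, 4, 5, 2, 3, 4, 1, 3, 2, 0], 0), ([3, 0, 2, 1, 3, 4, 5, 6, 7], 7), ([4, 5, 6, 7, 2, 3, 4, 5, 6, 0, 2, 3, 4, 5, 1, 3, 4, 2, 3, 0, 2, 1, 3, 4, 5,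 6, 7], 7), ([4, 5, 6, 7, 1, 3, 4, 5, 6, 0, 2, 3, 4, 5, 1, 3, 4, 2, 3, 0, 2, 1, 3, 4, 5, 6, 7], 7), ([5, 4, 3, 2, 1, 3, 4, 5, 0, 2, 3, 4, 1, 3, 2, 0], 0), ([0, 2, 3, 4, 1, 3, 2, 0], 0), ([1, 3, 4, 2, 3, 0, 2, 1, 3, 4, 5, 6, 7], 7), ([5, 6, 7, 4, 5, 6, 3, 4, 5, 2, 3, 4, 1, 3, 2, 0], 0), ([5, 6, 7, 4, 5, 6, 3, 4, 5, 1, 3, 4, 2, 3, 0, 2, 1, 3, 4, 5, 6, 7], 7), ([2, 3, 4, 1, 3, 2, 0], 0), ([5, 6, 7, 4, 5, 6, 2, 1, 3, 4, 5, 0, 2, 3, 4, 1, 3, 2, 0], 0), ([5, 6, 7, 4, 5, 6, 3, 4, 5, 0, 2, 3, 4, 1, 3, 2, 0], 0), ([5, 6, 7, 3, 2, 1, 3, 4, 5, 6, 0, 2, 3, 4, 5, 1, 3, 4, 2, 3, 0, 2, 1, 3, 4, 5, 6, 7], 7), ([5, 6, 7, 4, 5, 6, 0, 2, 3, 4, 5, 1, 3, 4, 2, 3, 0, 2, 1, 3, 4, 5, 6, 7], 7), ([3, 4, 2, 3, 0, 2, 1, 3, 4, 5, 6, 7], 7), ([5, 6, 7, 4, 5, 6, 1, 3, 4, 5, 2, 3, 4, 1, 3, 2, 0], 0), ([3, 4, 1,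 3, 2, 0], 0), ([5, 6, 7, 4, 5, 6, 2, 3, 4, 5, 1, 3, 4, 2, 3, 0, 2, 1, 3, 4, 5, 6, 7], 7), ([5, 6, 7, 4, 5, 6, 2, 3, 4, 5, 0, 2, 3, 4, 1, 3, 2, 0], 0), ([5, 6, 7, 4, 5, 6, 1, 3, 4, 5, 0, 2, 3, 4, 1, 3, 2, 0], 0), ([5, 6, 7], 7), ([4, 3, 2, 1, 3, 4, 5, 6, 7], 7), ([4, 3, 2, 0], 0), ([5, 6, 7, 1, 3, 4, 5, 6, 2, 3, 4, 5, 1, 3, 4, 2, 3, 0, 2, 1, 3, 4, 5, 6, 7], 7), ([5, 6, 7, 2, 3, 4, 5, 6, 1, 3, 4, 5, 2, 3, 4, 1, 3, 2, 0], 0), ([4, 3, 0, 2, 1, 3, 4, 5, 6, 7], 7), ([5, 6, 7, 2, 3, 4, 5, 6, 0, 2, 3, 4, 5, 1, 3, 4, 2, 3, 0, 2, 1, 3, 4, 5, 6, 7], 7), ([5, 6, 7, 1, 3, 4, 5, 6, 0, 2, 3, 4, 5, 1, 3, 4, 2, 3, 0, 2, 1, 3, 4, 5, 6, 7], 7), ([5, 6, 7, 3, 4, 5, 6, 2, 3, 4, 5, 0, 2, 3, 4, 1, 3, 2, 0], 0), ([5, 6, 7, 3, 4, 5, 6, 1, 3, 4, 5, 0, 2, 3, 4, 1, 3, 2, 0], 0), ([4, 1, 3, 2, 0], 0), ([5,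 6, 7, 3, 4, 5, 6, 2, 3, 4, 5, 1, 3, 4, 2, 3, 0, 2, 1, 3, 4, 5, 6, 7], 7), ([4, 2, 3, 0, 2, 1, 3, 4, 5, 6, 7], 7), ([5, 6, 7, 3, 4, 5, 6, 1, 3, 4, 5, 2, 3, 4, 1, 3, 2, 0], 0), ([5, 6, 7, 2, 1, 3, 4, 5, 6, 0, 2, 3, 4, 5, 1, 3, 4, 2, 3, 0, 2, 1, 3, 4, 5, 6, 7], 7), ([5, 6, 7, 3, 4, 5, 6, 0, 2, 3, 4, 5, 1, 3, 4, 2, 3, 0, 2, 1, 3, 4, 5, 6, 7], 7), ([6, 5, 4, 3, 2, 1, 3, 4, 5, 6, 0, 2, 3, 4, 5, 1, 3, 4, 2, 3, 0, 2, 1, 3, 4, 5, 6, 7], 7), ([0, 2, 3, 4, 5, 1, 3, 4, 2, 3, 0, 2, 1, 3, 4, 5, 6, 7], 7), ([6, 7, 5, 6, 4, 5, 3, 4, 2, 3, 0, 2, 1, 3, 4, 5, 6, 7], 7), ([1, 3, 4, 5, 2, 3, 4, 1, 3, 2, 0], 0), ([6, 7, 5, 6, 4, 5, 3, 4, 1, 3, 2, 0], 0), ([2, 3, 4, 5, 1, 3, 4, 2, 3, 0, 2, 1, 3, 4, 5, 6, 7], 7), ([2, 3, 4, 5, 0, 2, 3, 4, 1, 3, 2, 0], 0), ([1, 3, 4, 5, 0, 2, 3, 4, 1, 3, 2, 0], 0), ([6,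 7, 5, 6, 3, 2, 1, 3, 4, 5, 0, 2, 3, 4, 1, 3, 2, 0], 0), ([6, 7, 5, 6, 4, 5, 0, 2, 3, 4, 1, 3, 2, 0], 0), ([6, 7, 5, 6, 4, 5, 1, 3, 4, 2, 3, 0, 2, 1, 3, 4, 5, 6, 7], 7), ([3, 4, 5, 2, 3, 4, 1, 3, 2, 0], 0), ([3, 4, 5, 1, 3, 4, 2, 3, 0, 2, 1, 3, 4, 5, 6, 7], 7), ([6, 7, 5, 6, 4, 5, 2, 3, 4, 1, 3, 2, 0], 0), ([2, 1, 3, 4, 5, 0, 2, 3, 4, 1, 3, 2, 0], 0), ([3, 4, 5, 0, 2, 3, 4, 1, 3, 2, 0], 0), ([6, 7, 4, 3, 2, 1, 3, 4, 5, 6, 0, 2, 3, 4, 5, 1, 3, 4, 2, 3, 0, 2, 1, 3, 4, 5, 6, 7], 7), ([6, 7, 5, 6, 0, 2, 3, 4, 5, 1, 3, 4, 2, 3, 0, 2, 1, 3, 4, 5, 6, 7], 7), ([4, 5, 3, 4, 2, 3, 0, 2, 1, 3, 4, 5, 6, 7], 7), ([6, 7, 5, 6, 1, 3, 4, 5, 2, 3, 4, 1, 3, 2, 0], 0), ([4, 5, 3, 4, 1, 3, 2, 0], 0), ([6, 7, 5, 6, 2, 3, 4, 5, 1, 3, 4, 2, 3, 0, 2, 1, 3, 4, 5, 6, 7], 7), ([6, 7, 5, 6, 2, 3, 4, 5, 0, 2,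 3, 4, 1, 3, 2, 0], 0), ([6, 7, 5, 6, 1, 3, 4, 5, 0, 2, 3, 4, 1, 3, 2, 0], 0), ([3, 2, 1, 3, 4, 5, 0, 2, 3, 4, 1, 3, 2, 0], 0), ([4, 5, 0, 2, 3, 4, 1, 3, 2, 0], 0), ([4, 5, 1, 3, 4, 2, 3, 0, 2, 1, 3, 4, 5, 6, 7], 7), ([6, 7, 5, 6, 3, 4, 5, 2, 3, 4, 1, 3, 2, 0], 0), ([6, 7, 5, 6, 3, 4, 5, 1, 3, 4, 2, 3, 0, 2, 1, 3, 4, 5, 6, 7], 7), ([4, 5, 2, 3, 4, 1, 3, 2, 0], 0), ([6, 7, 5, 6, 2, 1, 3, 4, 5, 0, 2, 3, 4, 1, 3, 2, 0], 0), ([6, 7, 5, 6, 3, 4, 5, 0, 2, 3, 4, 1, 3, 2, 0], 0), ([6, 7], 7), ([5, 4, 3, 2, 1, 3, 4, 5, 6, 7], 7), ([5, 4, 3, 2, 0], 0), ([6, 7, 1, 3, 4, 5, 6, 2, 3, 4, 5, 1, 3, 4, 2, 3, 0, 2, 1, 3, 4, 5, 6, 7], 7), ([6, 7, 2, 3, 4, 5, 6, 1, 3, 4, 5, 2, 3, 4, 1, 3, 2, 0], 0), ([5, 4, 3, 0, 2, 1, 3, 4, 5, 6, 7], 7), ([6, 7, 2, 3, 4, 5, 6, 0, 2, 3, 4, 5, 1, 3, 4, 2, 3, 0, 2, 1,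 3, 4, 5, 6, 7], 7), ([6, 7, 1, 3, 4, 5, 6, 0, 2, 3, 4, 5, 1, 3, 4, 2, 3, 0, 2, 1, 3, 4, 5, 6, 7], 7), ([6, 7, 3, 4, 5, 6, 2, 3, 4, 5, 0, 2, 3, 4, 1, 3, 2, 0], 0), ([6, 7, 3, 4, 5, 6, 1, 3, 4, 5, 0, 2, 3, 4, 1, 3, 2, 0], 0), ([5, 4, 1, 3, 2, 0], 0), ([6, 7, 3, 4, 5, 6, 2, 3, 4, 5, 1, 3, 4, 2, 3, 0, 2, 1, 3, 4, 5, 6, 7], 7), ([5, 4, 2, 3, 0, 2, 1, 3, 4, 5, 6, 7], 7), ([6, 7, 3, 4, 5, 6, 1, 3, 4, 5, 2, 3, 4, 1, 3, 2, 0], 0), ([6, 7, 2, 1, 3, 4, 5, 6, 0, 2, 3, 4, 5, 1, 3, 4, 2, 3, 0, 2, 1, 3, 4, 5, 6, 7], 7), ([6, 7, 3, 4, 5, 6, 0, 2, 3, 4, 5, 1, 3, 4, 2, 3, 0, 2, 1, 3, 4, 5, 6, 7], 7), ([4, 3, 2, 1, 3, 4, 5, 0, 2, 3, 4, 1, 3, 2, 0], 0), ([5, 0, 2, 3, 4, 1, 3, 2, 0], 0), ([5, 1, 3, 4, 2, 3, 0, 2, 1, 3, 4, 5, 6, 7], 7), ([6, 7, 4, 5, 6, 3, 4, 5, 2, 3, 4, 1, 3, 2, 0], 0), ([6, 7, 4, 5,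 6, 3, 4, 5, 1, 3, 4, 2, 3, 0, 2, 1, 3, 4, 5, 6, 7], 7), ([5, 2, 3, 4, 1, 3, 2, 0], 0), ([6, 7, 4, 5, 6, 2, 1, 3, 4, 5, 0, 2, 3, 4, 1, 3, 2, 0], 0), ([6, 7, 4, 5, 6, 3, 4, 5, 0, 2, 3, 4, 1, 3, 2, 0], 0), ([6, 7, 3, 2, 1, 3, 4, 5, 6, 0, 2, 3, 4, 5, 1, 3, 4, 2, 3, 0, 2, 1, 3, 4, 5, 6, 7], 7), ([6, 7, 4, 5, 6, 0, 2, 3, 4, 5, 1, 3, 4, 2, 3, 0, 2, 1, 3, 4, 5, 6, 7], 7), ([5, 3, 4, 2, 3, 0, 2, 1, 3, 4, 5, 6, 7], 7), ([6, 7, 4, 5, 6, 1, 3, 4, 5, 2, 3, 4, 1, 3, 2, 0], 0), ([5, 3, 4, 1, 3, 2, 0], 0), ([6, 7, 4, 5, 6, 2, 3, 4, 5, 1, 3, 4, 2, 3, 0, 2, 1, 3, 4, 5, 6, 7], 7), ([6, 7, 4, 5, 6, 2, 3, 4, 5, 0, 2, 3, 4, 1, 3, 2, 0], 0), ([6, 7, 4, 5, 6, 1, 3, 4, 5, 0, 2, 3, 4, 1, 3, 2, 0], 0), ([], 7), ([7, 6, 5, 4, 3, 2, 1, 3, 4, 5, 6, 7], 7), ([7, 6, 5, 4, 3, 2, 0], 0), ([1, 3, 4, 5, 6, 2, 3, 4,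 5, 1, 3, 4, 2, 3, 0, 2, 1, 3, 4, 5, 6, 7], 7), ([2, 3, 4, 5, 6, 1, 3, 4, 5, 2, 3, 4, 1, 3, 2, 0], 0), ([7, 6, 5, 4, 3, 0, 2, 1, 3, 4, 5, 6, 7], 7), ([2, 3, 4, 5, 6, 0, 2, 3, 4, 5, 1, 3, 4, 2, 3, 0, 2, 1, 3, 4, 5, 6, 7], 7), ([1, 3, 4, 5, 6, 0, 2, 3, 4, 5, 1, 3, 4, 2, 3, 0, 2, 1, 3, 4, 5, 6, 7], 7), ([3, 4, 5, 6, 2, 3, 4, 5, 0, 2, 3, 4, 1, 3, 2, 0], 0), ([3, 4, 5, 6, 1, 3, 4, 5, 0, 2, 3, 4, 1, 3, 2, 0], 0), ([7, 6, 5, 4, 1, 3, 2, 0], 0), ([3, 4, 5, 6, 2, 3, 4, 5, 1, 3, 4, 2, 3, 0, 2, 1, 3, 4, 5, 6, 7], 7), ([7, 6, 5, 4, 2, 3, 0, 2, 1, 3, 4, 5, 6, 7], 7), ([3, 4, 5, 6, 1, 3, 4, 5, 2, 3, 4, 1, 3, 2, 0], 0), ([2, 1, 3, 4, 5, 6, 0, 2, 3, 4, 5, 1, 3, 4, 2, 3, 0, 2, 1, 3, 4, 5, 6, 7], 7), ([3, 4, 5, 6, 0, 2, 3, 4, 5, 1, 3, 4, 2, 3, 0, 2, 1, 3, 4, 5, 6, 7], 7), ([7, 6, 4, 3, 2, 1, 3, 4,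 5, 0, 2, 3, 4, 1, 3, 2, 0], 0), ([7, 6, 5, 0, 2, 3, 4, 1, 3, 2, 0], 0), ([7, 6, 5, 1, 3, 4, 2, 3, 0, 2, 1, 3, 4, 5, 6, 7], 7), ([4, 5, 6, 3, 4, 5, 2, 3, 4, 1, 3, 2, 0], 0), ([4, 5, 6, 3, 4, 5, 1, 3, 4, 2, 3, 0, 2, 1, 3, 4, 5, 6, 7], 7), ([7, 6, 5, 2, 3, 4, 1, 3, 2, 0], 0), ([4, 5, 6, 2, 1, 3, 4, 5, 0, 2, 3, 4, 1, 3, 2, 0], 0), ([4, 5, 6, 3, 4, 5, 0, 2, 3, 4, 1, 3, 2, 0], 0), ([3, 2, 1, 3, 4, 5, 6, 0, 2, 3, 4, 5, 1, 3, 4, 2, 3, 0, 2, 1, 3, 4, 5, 6, 7], 7), ([4, 5, 6, 0, 2, 3, 4, 5, 1, 3, 4, 2, 3, 0, 2, 1, 3, 4, 5, 6, 7], 7), ([7, 6, 5, 3, 4, 2, 3, 0, 2, 1, 3, 4, 5, 6, 7], 7), ([4, 5, 6, 1, 3, 4, 5, 2, 3, 4, 1, 3, 2, 0], 0), ([7, 6, 5, 3, 4, 1, 3, 2, 0], 0), ([4, 5, 6, 2, 3, 4, 5, 1, 3, 4, 2, 3, 0, 2, 1, 3, 4, 5, 6, 7], 7), ([4, 5, 6, 2, 3, 4, 5, 0, 2, 3, 4, 1, 3, 2, 0], 0), ([4,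 5, 6, 1, 3, 4, 5, 0, 2, 3, 4, 1, 3, 2, 0], 0), ([7, 5, 4, 3, 2, 1, 3, 4, 5, 6, 0, 2, 3, 4, 5, 1, 3, 4, 2, 3, 0, 2, 1, 3, 4, 5, 6, 7], 7), ([7, 6, 0, 2, 3, 4, 5, 1, 3, 4, 2, 3, 0, 2, 1, 3, 4, 5, 6, 7], 7), ([5, 6, 4, 5, 3, 4, 2, 3, 0, 2, 1, 3, 4, 5, 6, 7], 7), ([7, 6, 1, 3, 4, 5, 2, 3, 4, 1, 3, 2, 0], 0), ([5, 6, 4, 5, 3, 4, 1, 3, 2, 0], 0), ([7, 6, 2, 3, 4, 5, 1, 3, 4, 2, 3, 0, 2, 1, 3, 4, 5, 6, 7], 7), ([7, 6, 2, 3, 4, 5, 0, 2, 3, 4, 1, 3, 2, 0], 0), ([7, 6, 1, 3, 4, 5, 0, 2, 3, 4, 1, 3, 2, 0], 0), ([5, 6, 3, 2, 1, 3, 4, 5, 0, 2, 3, 4, 1, 3, 2, 0], 0), ([5, 6, 4, 5, 0, 2, 3, 4, 1, 3, 2, 0], 0), ([5, 6, 4, 5, 1, 3, 4, 2, 3, 0, 2, 1, 3, 4, 5, 6, 7], 7), ([7, 6, 3, 4, 5, 2, 3, 4, 1, 3, 2, 0], 0), ([7, 6, 3, 4, 5, 1, 3, 4, 2, 3, 0, 2, 1, 3, 4, 5, 6, 7], 7), ([5, 6, 4, 5, 2, 3, 4, 1,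 3, 2, 0], 0), ([7, 6, 2, 1, 3, 4, 5, 0, 2, 3, 4, 1, 3, 2, 0], 0), ([7, 6, 3, 4, 5, 0, 2, 3, 4, 1, 3, 2, 0], 0), ([4, 3, 2, 1, 3, 4, 5, 6, 0, 2, 3, 4, 5, 1, 3, 4, 2, 3, 0, 2, 1, 3, 4, 5, 6, 7], 7), ([5, 6, 0, 2, 3, 4, 5, 1, 3, 4, 2, 3, 0, 2, 1, 3, 4, 5, 6, 7], 7), ([7, 6, 4, 5, 3, 4, 2, 3, 0, 2, 1, 3, 4, 5, 6, 7], 7), ([5, 6, 1, 3, 4, 5, 2, 3, 4, 1, 3, 2, 0], 0), ([7, 6, 4, 5, 3, 4, 1, 3, 2, 0], 0), ([5, 6, 2, 3, 4, 5, 1, 3, 4, 2, 3, 0, 2, 1, 3, 4, 5, 6, 7], 7), ([5, 6, 2, 3, 4, 5, 0, 2, 3, 4, 1, 3, 2, 0], 0), ([5, 6, 1, 3, 4, 5, 0, 2, 3, 4, 1, 3, 2, 0], 0), ([7, 6, 3, 2, 1, 3, 4, 5, 0, 2, 3, 4, 1, 3, 2, 0], 0), ([7, 6, 4, 5, 0, 2, 3, 4, 1, 3, 2, 0], 0), ([7, 6, 4, 5, 1, 3, 4, 2, 3, 0, 2, 1, 3, 4, 5, 6, 7], 7), ([5, 6, 3, 4, 5, 2, 3, 4, 1, 3, 2, 0], 0), ([5, 6, 3, 4, 5, 1, 3, 4,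 2, 3, 0, 2, 1, 3, 4, 5, 6, 7], 7), ([7, 6, 4, 5, 2, 3, 4, 1, 3, 2, 0], 0), ([5, 6, 2, 1, 3, 4, 5, 0, 2, 3, 4, 1, 3, 2, 0], 0), ([5, 6, 3, 4, 5, 0, 2, 3, 4, 1, 3, 2, 0], 0), ([7], 7), ([6, 5, 4, 3, 2, 1, 3, 4, 5, 6, 7], 7), ([6, 5, 4, 3, 2, 0], 0), ([7, 1, 3, 4, 5, 6, 2, 3, 4, 5, 1, 3, 4, 2, 3, 0, 2, 1, 3, 4, 5, 6, 7], 7), ([7, 2, 3, 4, 5, 6, 1, 3, 4, 5, 2, 3, 4, 1, 3, 2, 0], 0), ([6, 5, 4, 3, 0, 2, 1, 3, 4, 5, 6, 7], 7), ([7, 2, 3, 4, 5, 6, 0, 2, 3, 4, 5, 1, 3, 4, 2, 3, 0, 2, 1, 3, 4, 5, 6, 7], 7), ([7, 1, 3, 4, 5, 6, 0, 2, 3, 4, 5, 1, 3, 4, 2, 3, 0, 2, 1, 3, 4, 5, 6, 7], 7), ([7, 3, 4, 5, 6, 2, 3, 4, 5, 0, 2, 3, 4, 1, 3, 2, 0], 0), ([7, 3, 4, 5, 6, 1, 3, 4, 5, 0, 2, 3, 4, 1, 3, 2, 0], 0), ([6, 5, 4, 1, 3, 2, 0], 0), ([7, 3, 4, 5, 6, 2, 3, 4, 5, 1, 3, 4, 2, 3, 0, 2, 1, 3, 4, 5,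 6, 7], 7), ([6, 5, 4, 2, 3, 0, 2, 1, 3, 4, 5, 6, 7], 7), ([7, 3, 4, 5, 6, 1, 3, 4, 5, 2, 3, 4, 1, 3, 2, 0], 0), ([7, 2, 1, 3, 4, 5, 6, 0, 2, 3, 4, 5, 1, 3, 4, 2, 3, 0, 2, 1, 3, 4, 5, 6, 7], 7), ([7, 3, 4, 5, 6, 0, 2, 3, 4, 5, 1, 3, 4, 2, 3, 0, 2, 1, 3, 4, 5, 6, 7], 7), ([6, 4, 3, 2, 1, 3, 4, 5, 0, 2, 3, 4, 1, 3, 2, 0], 0), ([6, 5, 0, 2, 3, 4, 1, 3, 2, 0], 0), ([6, 5, 1, 3, 4, 2, 3, 0, 2, 1, 3, 4, 5, 6, 7], 7), ([7, 4, 5, 6, 3, 4, 5, 2, 3, 4, 1, 3, 2, 0], 0), ([7, 4, 5, 6, 3, 4, 5, 1, 3, 4, 2, 3, 0, 2, 1, 3, 4, 5, 6, 7], 7), ([6, 5, 2, 3, 4, 1, 3, 2, 0], 0), ([7, 4, 5, 6, 2, 1, 3, 4, 5, 0, 2, 3, 4, 1, 3, 2, 0], 0), ([7, 4, 5, 6, 3, 4, 5, 0, 2, 3, 4, 1, 3, 2, 0], 0), ([7, 3, 2, 1, 3, 4, 5, 6, 0, 2, 3, 4, 5, 1, 3, 4, 2, 3, 0, 2, 1, 3, 4, 5, 6, 7], 7), ([7, 4, 5, 6, 0, 2, 3, 4, 5, 1,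 3, 4, 2, 3, 0, 2, 1, 3, 4, 5, 6, 7], 7), ([6, 5, 3, 4, 2, 3, 0, 2, 1, 3, 4, 5, 6, 7], 7), ([7, 4, 5, 6, 1, 3, 4, 5, 2, 3, 4, 1, 3, 2, 0], 0), ([6, 5, 3, 4, 1, 3, 2, 0], 0), ([7, 4, 5, 6, 2, 3, 4, 5, 1, 3, 4, 2, 3, 0, 2, 1, 3, 4, 5, 6, 7], 7), ([7, 4, 5, 6, 2, 3, 4, 5, 0, 2, 3, 4, 1, 3, 2, 0], 0), ([7, 4, 5, 6, 1, 3, 4, 5, 0, 2, 3, 4, 1, 3, 2, 0], 0), ([5, 4, 3, 2, 1, 3, 4, 5, 6, 0, 2, 3, 4, 5, 1, 3, 4, 2, 3, 0, 2, 1, 3, 4, 5, 6, 7], 7), ([6, 0, 2, 3, 4, 5, 1, 3, 4, 2, 3, 0, 2, 1, 3, 4, 5, 6, 7], 7), ([7, 5, 6, 4, 5, 3, 4, 2, 3, 0, 2, 1, 3, 4, 5, 6, 7], 7), ([6, 1, 3, 4, 5, 2, 3, 4, 1, 3, 2, 0], 0), ([7, 5, 6, 4, 5, 3, 4, 1, 3, 2, 0], 0), ([6, 2, 3, 4, 5, 1, 3, 4, 2, 3, 0, 2, 1, 3, 4, 5, 6, 7], 7), ([6, 2, 3, 4, 5, 0, 2, 3, 4, 1, 3, 2, 0], 0), ([6, 1, 3, 4, 5, 0, 2, 3, 4, 1, 3, 2,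 0], 0), ([7, 5, 6, 3, 2, 1, 3, 4, 5, 0, 2, 3, 4, 1, 3, 2, 0], 0), ([7, 5, 6, 4, 5, 0, 2, 3, 4, 1, 3, 2, 0], 0), ([7, 5, 6, 4, 5, 1, 3, 4, 2, 3, 0, 2, 1, 3, 4, 5, 6, 7], 7), ([6, 3, 4, 5, 2, 3, 4, 1, 3, 2, 0], 0), ([6, 3, 4, 5, 1, 3, 4, 2, 3, 0, 2, 1, 3, 4, 5, 6, 7], 7), ([7, 5, 6, 4, 5, 2, 3, 4, 1, 3, 2, 0], 0), ([6, 2, 1, 3, 4, 5, 0, 2, 3, 4, 1, 3, 2, 0], 0), ([6, 3, 4, 5, 0, 2, 3, 4, 1, 3, 2, 0], 0), ([7, 4, 3, 2, 1, 3, 4, 5, 6, 0, 2, 3, 4, 5, 1, 3, 4, 2, 3, 0, 2, 1, 3, 4, 5, 6, 7], 7), ([7, 5, 6, 0, 2, 3, 4, 5, 1, 3, 4, 2, 3, 0, 2, 1, 3, 4, 5, 6, 7], 7), ([6, 4, 5, 3, 4, 2, 3, 0, 2, 1, 3, 4, 5, 6, 7], 7), ([7, 5, 6, 1, 3, 4, 5, 2, 3, 4, 1, 3, 2, 0], 0), ([6, 4, 5, 3, 4, 1, 3, 2, 0], 0), ([7, 5, 6, 2, 3, 4, 5, 1, 3, 4, 2, 3, 0, 2, 1, 3, 4, 5, 6, 7], 7), ([7, 5, 6, 2, 3, 4, 5,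 0, 2, 3, 4, 1, 3, 2, 0], 0), ([7, 5, 6, 1, 3, 4, 5, 0, 2, 3, 4, 1, 3, 2, 0], 0), ([6, 3, 2, 1, 3, 4, 5, 0, 2, 3, 4, 1, 3, 2, 0], 0), ([6, 4, 5, 0, 2, 3, 4, 1, 3, 2, 0], 0), ([6, 4, 5, 1, 3, 4, 2, 3, 0, 2, 1, 3, 4, 5, 6, 7], 7), ([7, 5, 6, 3, 4, 5, 2, 3, 4, 1, 3, 2, 0], 0), ([7, 5, 6, 3, 4, 5, 1, 3, 4, 2, 3, 0, 2, 1, 3, 4, 5, 6, 7], 7), ([6, 4, 5, 2, 3, 4, 1, 3, 2, 0], 0), ([7, 5, 6, 2, 1, 3, 4, 5, 0, 2, 3, 4, 1, 3, 2, 0], 0), ([7, 5, 6, 3, 4, 5, 0, 2, 3, 4, 1, 3, 2, 0], 0)] [0, 7] = true := by decide +kernel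

theorem cardE8_0 {F : Type*} [Field F] [Fintype F] (hF : Odd (Fintype.card F)) :
    Nat.card (Subgroup.centralizer {inv tabE8_chk uniE8 F ⟨0, by decide⟩}) =
      Fintype.card F ^ 56 * ((Fintype.card F - 1) ^ 8 *
        (([[1, 1, 2, 2, 3, 4, 5, 5, 6, 6, 7, 7, 6, 6, 5, 5, 4, 3, 2, 2, 1, 1], [1, 1, 2, 3, 4, 4, 5, 5, 4, 4, 3, 2, 1, 1], [1, 3, 4, 4, 3, 1], [1, 2, 2, 1]].map fun a => evalL a (Fintype.card F)).prod * (0 + Fintype.card F ^ 0 + Fintype.card F ^ 1 + Fintype.card F ^ 2 + Fintype.card F ^ 3 + Fintype.card F ^ 4 + Fintype.card F ^ 5 + Fintype.card F ^ 6 + Fintype.card F ^ 7 + Fintype.card F ^ 7 + Fintype.card F ^ 8 + Fintype.card F ^ 9 + Fintype.card F ^ 10 + Fintype.card F ^ 11 + Fintype.card F ^ 12 + Fintype.card F ^ 13 + Fintype.card F ^ 14))) := by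
  rw [card_inv _ _ hF _ (ds := [[], [0, 2, 3, 1, 4, 3, 2, 0, 5, 4, 3, 1, 2, 3, 4, 5, 6, 5, 4, 3, 1, 2, 0, 3, 2, 4, 3, 1, 5, 4, 3, 2, 0], [0, 2, 3, 1, 4, 3, 2, 0, 5, 4, 3, 1, 2, 3, 4, 5, 6, 5, 4, 3, 1, 2, 0, 3, 2, 4, 3, 1, 5, 4, 3, 2, 0, 7], [0, 2, 3, 1, 4, 3, 2, 0, 5, 4, 3, 1, 2, 3, 4, 5, 6, 5, 4, 3, 1, 2, 0, 3, 2, 4, 3, 1, 5, 4, 3, 2, 0, 7, 6], [0, 2, 3, 1, 4, 3, 2, 0, 5, 4, 3, 1, 2, 3, 4, 5, 6, 5, 4, 3, 1, 2, 0, 3, 2, 4, 3, 1, 5, 4, 3, 2, 0, 7, 6, 5], [0, 2, 3, 1, 4, 3, 2, 0, 5, 4, 3, 1, 2, 3, 4, 5, 6, 5, 4, 3, 1, 2, 0, 3, 2, 4, 3, 1, 5, 4, 3, 2, 0, 7, 6, 5, 4], [0, 2, 3, 1, 4, 3, 2, 0, 5, 4, 3, 1, 2, 3, 4, 5, 6, 5, 4, 3, 1, 2, 0, 3, 2, 4, 3, 1, 5, 4, 3, 2, 0, 7, 6, 5, 4, 3], [0, 2, 3, 1, 4, 3, 2, 0, 5, 4, 3, 1, 2, 3, 4, 5, 6, 5, 4, 3, 1, 2, 0, 3, 2, 4, 3, 1, 5, 4, 3, 2, 0, 7,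 6, 5, 4, 3, 1], [0, 2, 3, 1, 4, 3, 2, 0, 5, 4, 3, 1, 2, 3, 4, 5, 6, 5, 4, 3, 1, 2, 0, 3, 2, 4, 3, 1, 5, 4, 3, 2, 0, 7, 6, 5, 4, 3, 2], [0, 2, 3, 1, 4, 3, 2, 0, 5, 4, 3, 1, 2, 3, 4, 5, 6, 5, 4, 3, 1, 2, 0, 3, 2, 4, 3, 1, 5, 4, 3, 2, 0, 7, 6, 5, 4, 3, 1, 2], [0, 2, 3, 1, 4, 3, 2, 0, 5, 4, 3, 1, 2, 3, 4, 5, 6, 5, 4, 3, 1, 2, 0, 3, 2, 4, 3, 1, 5, 4, 3, 2, 0, 7, 6, 5, 4, 3, 1, 2, 3], [0, 2, 3, 1, 4, 3, 2, 0, 5, 4, 3, 1, 2, 3, 4, 5, 6, 5, 4, 3, 1, 2, 0, 3, 2, 4, 3, 1, 5, 4, 3, 2, 0, 7, 6, 5, 4, 3, 1, 2, 3, 4], [0, 2, 3, 1, 4, 3, 2, 0, 5, 4, 3, 1, 2, 3, 4, 5, 6, 5, 4, 3, 1, 2, 0, 3, 2, 4, 3, 1, 5, 4, 3, 2, 0, 7, 6, 5, 4, 3, 1, 2, 3, 4, 5], [0, 2, 3, 1, 4, 3, 2, 0, 5, 4, 3, 1, 2, 3, 4, 5, 6, 5, 4, 3, 1, 2, 0, 3, 2, 4, 3, 1, 5, 4, 3, 2, 0, 7, 6, 5, 4, 3, 1, 2, 3, 4, 5, 6], [0, 2, 3, 1, 4,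 3, 2, 0, 5, 4, 3, 1, 2, 3, 4, 5, 6, 5, 4, 3, 1, 2, 0, 3, 2, 4, 3, 1, 5, 4, 3, 2, 0, 7, 6, 5, 4, 3, 1, 2, 3, 4, 5, 6, 7], [0, 2, 3, 1, 4, 3, 2, 0, 5, 4, 3, 1, 2, 3, 4, 5, 6, 5, 4, 3, 1, 2, 0, 3, 2, 4, 3, 1, 5, 4, 3, 2, 0, 7, 6, 5, 4, 3, 1, 2, 0, 3, 2, 4, 3, 1, 5, 4, 3, 2, 0, 6, 5, 4, 3, 1, 2, 3, 4, 5, 7, 6, 5, 4, 3, 1, 2, 0, 3, 2, 4, 3, 1, 5, 4, 3, 2, 0]]) (fs := [[1, 0, 0, 0, 0, 0, 0, 0], [-1, 0, 0, 0, 0, 0, 0, 2], [-1, 0, 0, 0, 0, 0, 2, -2], [-1, 0, 0, 0, 0, 2, -2, 0], [-1, 0, 0, 0, 2, -2, 0, 0], [-1, 0, 0, 2, -2, 0, 0, 0], [-1, 2, 2, -2, 0, 0, 0, 0], [-1, -2, 2, 0, 0, 0, 0, 0], [1, 2, -2, 0, 0, 0, 0, 0], [1, -2, -2, 2, 0, 0, 0, 0], [1, 0, 0, -2, 2, 0, 0, 0], [1, 0, 0, 0, -2, 2, 0, 0], [1, 0, 0, 0, 0, -2, 2, 0], [1, 0, 0, 0, 0, 0, -2, 2], [1, 0, 0, 0, 0, 0, 0, -2], [-1, 0, 0, 0,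 0, 0, 0, 0]]) (n0 := 56) (ns := [0, 1, 2, 3, 4, 5, 6, 7, 7, 8, 9, 10, 11, 12, 13, 14]) (J := 254) (by decide +kernel)
    (cov2 _ _ (a0 := 226) (b0 := 239) (pc := 0x80c06030180e07060f193161c181030b1d3565c585143c6ccc8c2a7ada9a52f2b2a2e2422272d2925afabaaaea4a4cecacbcfc5c94d4742445e5a5b5f5559ddd7d2d8bcb6b3b1383c363331b0d0441e1a1b1f15199d979298fcf6f3f1786c666361e0887c767371f098ece6e3e1698d87828b0f050e0a04040a0e050f0b02878d898163e6ece8e091f3767c787081e3666c686173f6fcf8f2979d99951f1b1a1e141040d1b3363c383133b6bcb8b2d7ddd9d55f5b5a5e5452474d4945cfcbcacec4c4aeaaabafa5a92d2722242e2a2b2f2529ada7a2a8ccc6c3c1485c565351d0b0381c16131190f06070e183060c080) (by decide +kernel)) (by decide +kernel), tabE8_chk.poin_spec [(161, 0x10203030405040506070506070809060708090a0b060708090a0b0708090a0b08090a0b090a0b0a0b0b0c0c0d0c0d0e0c0d0e0f0c0d0e0f100c0d0e0f10110c0d0e0f10110e0f10111210111213121314141516000000000000000000000000000000000000000000000000000000000000000000000000000000000000000000000000000000000000000000000000000000000000000000000000000000000000,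 190, [1, 1, 2, 2, 3, 4, 5, 5, 6, 6, 7, 7, 6, 6, 5, 5, 4, 3, 2, 2, 1, 1]),
    (156, 0x10000020300000304050000040506070000040506070000050607000006070000070000000000000800000809000008090a000008090a0b000008090a0b00000a0b0c00000c0d00000e0000000000000000000000000000000000000000000000000000000000000000000000000000000000000000000000000000000000000000000000000000000000000000000000000000000000000000000000, 174, [1, 1, 2, 3, 4, 4, 5, 5, 4, 4, 3, 2, 1, 1]),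
    (60, 0x1020203000000000000020303040000030404050000000000000405050600000000000000000000000000000000000000000000000000000000000000, 10, [1, 3, 4, 4, 3, 1]),
    (142, 0x102000000000000000000000200000000000000000000000000000000000000000300000000000000000000030400000000000000000000000000000000000000000000000000000000000000000000000000000000000000000000000000000000000000000000000000000000000000000000000000000000000000000000000000000000000000000000000000, 0, [1, 2, 2, 1])] (by decide +kernel)]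
  generalize Fintype.card F = q
  change _ * (_ * (_ * ∑ a ∈ range 16, _)) = _
  simp only [sum_range_succ, sum_range_zero]
  rfl

theorem cardE8_7 {F : Type*} [Field F] [Fintype F] (hF : Odd (Fintype.card F)) :
    Nat.card (Subgroup.centralizer {inv tabE8_chk uniE8 F ⟨7, by decide⟩}) =
      Fintype.card F ^ 64 * ((Fintype.card F - 1) ^ 8 *
        (([[1, 1, 1, 1, 2, 2, 3, 3, 4, 4, 5, 5, 6, 6, 6, 6, 7, 7, 6, 6, 6, 6, 5, 5, 4, 4, 3, 3, 2, 2, 1, 1, 1, 1], [1, 1, 2, 2, 4, 4, 5, 5, 6, 6, 5, 5, 4, 4, 2, 2, 1, 1], [1, 1, 3, 3, 4, 4, 3, 3, 1, 1], [1, 3, 3, 1], [1, 1]].map fun a => evalL a (Fintype.card F)).prod * (0 + Fintype.card F ^ 0 + Fintype.card F ^ 1))) := by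
  rw [card_inv _ _ hF _ (ds := [[], [7, 6, 5, 4, 3, 1, 2, 0, 3, 2, 4, 3, 1, 5, 4, 3, 2, 0, 6, 5, 4, 3, 1, 2, 3, 4, 5, 6, 7, 6, 5, 4, 3, 1, 2, 0, 3, 2, 4, 3, 1, 5, 4, 3, 2, 0, 6, 5, 4, 3, 1, 2, 3, 4, 5, 6, 7]]) (fs := [[0, 0, 0, 0, 0, 0, 0, 1], [0, 0, 0, 0, 0, 0, 0, -1]]) (n0 := 64) (ns := [0, 1]) (J := 127) (by decide +kernel)
    (cov1 _ _ (a0 := 239) (by decide +kernel)) (by decide +kernel), tabE8_chk.poin_spec [(226, 0x1000000000000020000000003000000040000050006070000000500000600070800000700080900090a0b00000800090a000a0b0c000b0c0d0e000c0d0e0f1011000009000a0b000b0c0d000c0d0e0f000d0e0f1011000d0e0f1011000e0f1011000f10110010110011000012001213001213140012131415001213141516001213141516001415161700161718001819001a000012131415161700151617180017181900191a001b000018191a001a1b001c00001b1c001d00001e0000001c1d001e00001f0000002000000000210000000000002200000000000000000000000000,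 126, [1, 1, 1, 1, 2, 2, 3, 3, 4, 4, 5, 5, 6, 6, 6, 6, 7, 7, 6, 6, 6, 6, 5, 5, 4, 4, 3, 3, 2, 2, 1, 1, 1, 1]),
    (159, 0x1000203000304050004050607000506070809000506070809000607080900070809000809000900000a000a0b000a0b0c000a0b0c0d000a0b0c0d0e000a0b0c0d0e000c0d0e0f000e0f1000101100120000000000000000000000000000000000000000000000000000000000000000000000000000000000000000000000000000000000000000000000000000000000000000000000000000000000000000, 94, [1, 1, 2, 2, 4, 4, 5, 5, 6, 6, 5, 5, 4, 4, 2, 2, 1, 1]),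
    (152, 0x1000000020300000003040500000003040500000004050000000500000000000000000000000006000000060700000006070800000006070800000008090000000a000000000000000000000000000000000000000000000000000000000000000000000000000000000000000000000000000000000000000000000000000000000000000000000000000000000000000000000000000000, 86, [1, 1, 3, 3, 4, 4, 3, 3, 1, 1]),
    (41, 0x10200020300000000000203000304000000000000000000000000000000000000000000000000000000, 4, [1, 3, 3, 1]),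
    (6, 0x1020000000000, 0, [1, 1])] (by decide +kernel)]
  generalize Fintype.card F = q
  change _ * (_ * (_ * ∑ a ∈ range 2, _)) = _
  simp only [sum_range_succ, sum_range_zero]
  rfl

end H14.SS
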