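import Cfsg.Agent.H14.SS3
import Cfsg.Agent.H9.Collect
import Cfsg.Agent.H24.WordP

/-! Element orders: general tools. -/

set_option autoImplicit false
set_option linter.unusedVariables false
set_option linter.unusedSectionVars false
set_option linter.style.haveILetI false

namespace H14.SS
open H24 H24.St0 Finset Cfsg.Lie

section gen
variable {ι Φ : Type} [Fintype ι] [DecidableEq ι] [Fintype Φ] [DecidableEq Φ] {R : CD ι Φ} {F : Type*} [Field F]
  {G : Type*} [Group G]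

theorem pow_lvl (S : St0 R F G) {p : ℕ} (hp : p.Prime) (h0 : (p : F) = 0) {T : Set Φ} {f : (ι → ℤ) →ₗ[ℤ] ℤ}
    (hT : R.Closed T) (hf : ∀ r ∈ T, 0 < f (R.rt r)) (k : ℕ) (hk : 0 < k) :
    ∀ g ∈ S.XS (R.lvl T f k), g ^ p ∈ S.XS (R.lvl T f (p * k : ℕ)) := by
  obtain ⟨N, hN⟩ := exists_lvl_empty (R := R) T f
  induction hn : N - k using Nat.strong_induction_on generalizing k with
  | _ n ih =>
    by_cases hk' : N ≤ k
    · intro g hg
      have := S.XS_lvl_mono (T := T) (f := f) (Int.ofNat_le.2 hk') hg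
      rw [hN, XS_empty, Subgroup.mem_bot] at this
      rw [this, one_pow]; exact one_mem _
    have hc : R.Closed (R.lvl T f k) := fun r hr s hs u i j hi hj e => ⟨hT r hr.1 s hs.1 u i j hi hj e, by
      rw [RS.f_comb e]
      have := hr.2; have := hs.2
      nlinarith⟩
    have : Group.IsNilpotent (S.XS (R.lvl T f k)) := S.isNilpotent_XS hc fun r hr => hf r hr.1
    have hl : ∀ j, (S.XS (R.lvl T f k)).lowerCentralSeries j ≤ S.XS (R.lvl T f (k * (j + 1) : ℕ)) := fun j => by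
      induction j with
      | zero => simp
      | succ j ih =>
        rw [Subgroup.lowerCentralSeries_succ, Subgroup.commutator_le]
        intro a ha b hb
        have := S.comm_mem_lvl_add hT hf _ _ (inv_mem hb) (inv_mem (ih ha))
        rw [inv_inv, inv_inv] at this
        rw [commutatorElement_def]
        convert this using 3
        push_cast; ring
    refine S.XS_induction (by simp) fun g hg r hr t h => ?_
    have := H9.hall_petrescu hg (S.x_mem hr t) (S.XS (R.lvl T f (p * k : ℕ))) p fun j h1 h2 c hc => by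
      rcases h2.lt_or_eq with hlt | heq
      · obtain ⟨m, hm⟩ := hp.dvd_choose_self (by omega) hlt
        rw [hm, mul_comm p m, pow_mul]
        exact S.XS_lvl_mono (Int.ofNat_le.2 (Nat.mul_le_mul_left _ (by nlinarith)))
          (ih _ (by have : k + 1 ≤ k * (j + 1) := by nlinarith
                    omega) _ (by positivity) rfl _ (pow_mem (hl j hc) m))
      · exact pow_mem (by rw [mul_comm, ← heq]; exact hl j hc) _
    rw [S.x_pow, h0, zero_mul, S.x_zero, mul_one] at this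
    simpa using mul_mem h this

theorem pow_XS (S : St0 R F G) {p : ℕ} (hp : p.Prime) (h0 : (p : F) = 0) {T : Set Φ} {f : (ι → ℤ) →ₗ[ℤ] ℤ}
    (hT : R.Closed T) (hf : ∀ r ∈ T, 0 < f (R.rt r)) (e : ℕ) (he : ∀ r ∈ T, f (R.rt r) < (p ^ e : ℕ)) {g : G}
    (hg : g ∈ S.XS T) : g ^ p ^ e = 1 := by
  have : ∀ e, g ^ p ^ e ∈ S.XS (R.lvl T f (p ^ e : ℕ)) := fun e => by
    induction e with
    | zero => simpa [lvl_one hf] using hg
    | succ e ih => rw [pow_succ p e, pow_mul, mul_comm]; exact pow_lvl S hp h0 hT hf _ (pow_pos hp.pos e) _ ih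
  have h := this e
  rwa [show R.lvl T f (p ^ e : ℕ) = ∅ from Set.eq_empty_of_forall_notMem fun r hr => (he r hr.1).not_ge hr.2,
    XS_empty] at h

theorem pow_XS_comm (S : St R F G) {p : ℕ} (h0 : (p : F) = 0) {T : Set Φ}
    (hT : ∀ r ∈ T, ∀ s ∈ T, ∀ t u, Commute (S.x r t) (S.x s u)) : ∀ g ∈ S.XS T, g ^ p = 1 :=
  S.XS_induction (one_pow _) fun g hg r hr t h => by
    rw [(Tw.commute_XS hT g hg _ (S.x_mem hr t)).mul_pow, h, S.x_pow, h0, zero_mul, S.x_zero, one_mul]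

theorem orderOf_x (S : St R F G) {p : ℕ} [Fact p.Prime] (h0 : (p : F) = 0) (r : Φ) {t : F} (ht : t ≠ 0) :
    orderOf (S.x r t) = p :=
  orderOf_eq_prime (by rw [S.x_pow, h0, zero_mul, S.x_zero]) fun e => ht (S.x_eq_one_iff.1 e)

theorem xx_ne (S : St R F G) {r s : Φ} (h : r ≠ s) {t : F} (ht : t ≠ 0) (u : F) : S.x r t * S.x s u ≠ 1 := fun e =>
  h (S.eq_of_x_eq ht ((eq_inv_of_mul_eq_one_left e).trans (S.x_neg s u).symm))

theorem eq_one_of_pow {p : ℕ} [Fact p.Prime] [CharP F p] {a : Fˣ} (h : a ^ p = 1) : a = 1 :=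
  Units.ext (sub_eq_zero.1 (pow_eq_zero_iff (Fact.out : p.Prime).ne_zero |>.1 (by
    rw [sub_pow_char, ← Units.val_pow_eq_pow_val, h]; simp)))

theorem hA_two [CharP F 2] (R : RS ι Φ) (c : ι → Fˣ) :
    ∀ w ∈ Wc R c, orderOf w = 2 → ∃ r ∈ Pc R c, ¬ R.Pos (w r) := fun w hw h2 => by
  obtain ⟨r, hr⟩ := neg_of_invol _ hw.1 rfl (by rw [← sq, ← h2, pow_orderOf_eq_one]) (by rintro rfl; simp at h2)
  have key : ∀ r, w r = R.neg r → R.Pos r → ∃ r ∈ Pc R c, ¬ R.Pos (w r) := fun r hr hp =>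
    ⟨r, ⟨hp, eq_one_of_pow (p := 2) (by
      have := chi_Wc hw r
      rwa [hr, R.rt_neg, RS.chi_neg, inv_eq_iff_mul_eq_one, ← sq] at this)⟩, by rwa [hr, R.pos_neg_iff, not_not]⟩
  by_cases hp : R.Pos r
  · exact key r hr hp
  · exact key _ (by rw [RS.Aut.neg (R.W_le_Aut hw.1), hr]) ((R.pos_neg_iff r).2 hp)

theorem hA_one (R : RS ι Φ) {w : Equiv.Perm Φ} (hw : w ∈ R.W) (h1 : w ≠ 1) :
    ∃ r ∈ Pc R (1 : ι → Fˣ), ¬ R.Pos (w r) := by
  by_contra hc
  exact h1 (RS.W_eq_one_of_pos hw fun i => by_contra fun e => hc ⟨_, ⟨R.pos_sim i, RS.chi_one _⟩, e⟩)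

theorem chi_pw (ζ : Fˣ) (m v : ι → ℤ) : RS.chi (fun i => ζ ^ m i) v = ζ ^ ∑ i, m i * v i := by
  simp only [RS.chi, ← zpow_mul, prod_zpow_eq_zpow_sum']

theorem pw_mem_T (R : RS ι Φ) {ζ : Fˣ} {n q : ℕ} (hζ : ζ ^ n = 1) {w : Equiv.Perm Φ} {m : ι → ℤ}
    (h : ∀ i, (n : ℤ) ∣ m i * q - ∑ j, m j * R.rt (w (R.sim i)) j) : (fun i => ζ ^ m i) ∈ T F R q w :=
  funext fun i => by
    obtain ⟨a, ha⟩ := h i
    rw [ac_apply, chi_pw, ← mul_inv_eq_one, ← zpow_neg]
    change (ζ ^ m i) ^ q * _ = 1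
    rw [← zpow_natCast, ← zpow_mul, ← zpow_add, ← sub_eq_add_neg, ha, zpow_mul, zpow_natCast, hζ, one_zpow]

theorem orderOf_pw {ζ : Fˣ} {m : ι → ℤ} {i : ι} (h : m i = 1) : orderOf (fun i => ζ ^ m i) = orderOf ζ :=
  Nat.dvd_antisymm (orderOf_dvd_of_pow_eq_one (funext fun j => by
    rw [Pi.pow_apply, ← zpow_natCast, ← zpow_mul, mul_comm, zpow_mul, zpow_natCast, pow_orderOf_eq_one, one_zpow]; rfl))
    (orderOf_dvd_of_pow_eq_one (by simpa [h] using congrFun (pow_orderOf_eq_one fun i => ζ ^ m i) i))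

theorem exists_root [IsAlgClosed F] {n : ℕ} (hn : (n : F) ≠ 0) : ∃ ζ : Fˣ, orderOf ζ = n := by
  have : NeZero (n : F) := ⟨hn⟩
  have : NeZero n := ⟨by rintro rfl; simp at hn⟩
  obtain ⟨ζ, h⟩ := HasEnoughRootsOfUnity.exists_primitiveRoot F n
  exact ⟨(h.isUnit (NeZero.ne n)).unit, (h.isUnit_unit (NeZero.ne n)).eq_orderOf.symm⟩

variable {K : Type*} [Field K] [Fintype K] {G0 : Type*} [Group G0] {S0 : St R K G0} {S : St R F G} (E : Ext S0 S)
include E

theorem Ext.exists_ss {w : Equiv.Perm Φ} (hw : w ∈ R.W) {c : ι → Fˣ} (hc : c ∈ T F R.toRS (Fintype.card K) w) :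
    ∃ x : G0, orderOf x = orderOf c := (E.desc_T hw hc).imp fun x e => by rw [E.orderOf_eq e, E.ad.orderOf_tt]

theorem Ext.exists_mixed [IsAlgClosed F] (p : ℕ) [hp : Fact p.Prime] [CharP K p] {w : Equiv.Perm Φ} (hw : w ∈ R.W)
    {c : ι → Fˣ} (hc : c ∈ T F R.toRS (Fintype.card K) w) {r : Φ} (hr : w r = r) (h1 : RS.chi c (R.rt r) = 1) :
    ∃ x : G0, orderOf x = p * orderOf c := by
  have : CharP F p := charP_of_injective_ringHom E.j.injective p
  obtain ⟨n, -, hn⟩ := S.exists_N_rep hw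
  obtain ⟨κ, hκ, e⟩ := hn.inv.exists_conj r
  rw [show w⁻¹ r = r by rw [Equiv.Perm.inv_eq_iff_eq, hr], inv_inv] at e
  have hq : 1 < Fintype.card K := Fintype.one_lt_card
  obtain ⟨τ, hτ⟩ := IsAlgClosed.exists_pow_nat_eq κ (n := Fintype.card K - 1) (by omega)
  have h0 : τ ≠ 0 := by rintro rfl; rw [zero_pow (by omega)] at hτ; exact hκ hτ.symm
  obtain ⟨x, hx⟩ := E.desc (y := S.x r τ * E.ad.tt c) (n := n) (by
    rw [map_mul, E.σx, E.σ_tt, mem_T.1 hc, ← E.ad.conj_tt hn, E.hf, ← Nat.sub_add_cancel hq.le, pow_succ, hτ, ← e]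
    group)
  have hx' := orderOf_x S (CharP.cast_eq_zero F p) r h0
  have := finite_T (k := F) E.q_eq (R.W_le_Aut hw)
  refine ⟨x, ?_⟩
  rw [E.orderOf_eq hx, Commute.orderOf_mul_eq_mul_orderOf_of_coprime, hx', E.ad.orderOf_tt]
  · exact Subgroup.mem_centralizer_singleton_iff.1 (E.ad.comm_XS c (T := {r}) (by rintro _ rfl; exact h1)
      (S.x_mem (Set.mem_singleton r) τ))
  · rw [hx', E.ad.orderOf_tt, hp.out.coprime_iff_not_dvd]
    intro hd
    have := hd.trans (Subgroup.orderOf_dvd_natCard _ hc)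
    rw [card_T E.q_eq (R.W_le_Aut hw), ← Int.natCast_dvd] at this
    exact det_ne E.q_eq (R.W_le_Aut hw) ((CharP.intCast_eq_zero_iff F p _).2 this)

end gen

section tab
variable {D : ChevalleyDatum} {T : Tab} (h : T.Chk D) (hu : Uni h.rsys)
include hu

theorem split {K k : Type*} [Field K] [Fintype K] [Field k] [IsAlgClosed k] (E : Ext (h.grp K) (h.grp k))
    (p : ℕ) [hp : Fact p.Prime] [CharP K p]
    (hA : ∀ c : Fin D.rank → kˣ, ∀ w ∈ Wc h.rsys c, orderOf w = p → ∃ r ∈ Pc h.rsys c, ¬ h.rsys.Pos (w r))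
    (x : D.group K) : ∃ w ∈ h.rsys.W, ∃ c ∈ SS.T k h.rsys (Fintype.card K) w, ∃ v ∈ (h.grp k).XS (Pc h.rsys c),
      orderOf x = orderOf v * orderOf c := by
  have := h.finite_grp K
  have h0 := (orderOf_pos x).ne'
  obtain ⟨e, m, hm, hn⟩ := Nat.exists_eq_pow_mul_and_not_dvd h0 p hp.out.ne_one
  have h1 : orderOf (x ^ p ^ e) = m := by
    rw [orderOf_pow' _ (pow_ne_zero e hp.out.ne_zero), hn, Nat.gcd_mul_right_left,
      Nat.mul_div_cancel_left _ (pow_pos hp.out.pos e)]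
  have h2 : orderOf (x ^ m) = p ^ e := by
    have : m ≠ 0 := by rintro rfl; simp at hm
    rw [orderOf_pow' _ this, hn, Nat.gcd_mul_left_left, Nat.mul_div_cancel _ (Nat.pos_of_ne_zero this)]
  have hc : (orderOf (x ^ p ^ e)).Coprime p := by rw [h1, Nat.coprime_comm, hp.out.coprime_iff_not_dvd]; exact hm
  obtain ⟨w, hw, c, hc', e1⟩ := (E.main p).1 _ hc
  obtain ⟨v, hv, e2⟩ := mixed h hu E p hc (u := x ^ m) (e := e) (h2 ▸ pow_orderOf_eq_one _)
    (Commute.pow_pow_self x _ _) e1 (hA c)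
  exact ⟨w, hw, c, hc', v, hv, by rw [← E.orderOf_eq e2, ← E.ad.orderOf_tt, ← E.orderOf_eq e1, h1, h2, hn]⟩

end tab

end H14.SS
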