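import Cfsg.Agent.H14.SS4

/-! Element orders of `G₂(q)`. -/

set_option autoImplicit false
set_option linter.unusedVariables false
set_option linter.unusedSectionVars false
set_option linter.style.haveILetI false

namespace H14.SS
open H24 H24.St0 Finset Cfsg.Lie

theorem rel_T {ι Φ : Type} [Fintype ι] [DecidableEq ι] [Fintype Φ] [DecidableEq Φ] {R : RS ι Φ} {k : Type*} [Field k]
    {q : ℕ} {w : Equiv.Perm Φ} (hw : w ∈ R.Aut) {c : ι → kˣ} (hc : c ∈ T k R q w) {n : ℕ} {P : ℕ → ℤ}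
    (h : ∀ i, ∑ j ∈ range n, P j • R.rt ((w ^ j) (R.sim i)) = 0) : c ^ (∑ j ∈ range n, P j * q ^ j) = 1 := by
  have key : ∀ j r, RS.chi c (R.rt ((w ^ j) r)) = RS.chi c (R.rt r) ^ q ^ j := fun j r => by
    induction j with
    | zero => simp
    | succ j ih => rw [pow_succ', Equiv.Perm.mul_apply, chi_T hw hc, ih, ← pow_mul, pow_succ]
  funext i
  have := congrArg (RS.chi c) (h i)
  rw [RS.chi_sum, RS.chi_zero] at this
  rw [Pi.pow_apply, ← prod_zpow_eq_zpow_sum', Pi.one_apply, ← this]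
  exact prod_congr rfl fun j _ => by
    rw [RS.chi_smul, key, chi_sim, ← zpow_natCast, ← zpow_mul, mul_comm]; push_cast; rfl

namespace G2

local notation "hT" => tabG2_chk
local notation "RR" => tabG2_chk.rsys

def wds : List (List ℕ) := [[], [0], [1], [0, 1], [1, 0], [0, 1, 0], [1, 0, 1], [0, 1, 0, 1], [1, 0, 1, 0],
  [0, 1, 0, 1, 0], [1, 0, 1, 0, 1], [0, 1, 0, 1, 0, 1]]

abbrev i0 : Fin chevG2.rank := ⟨0, by decide⟩
abbrev i1 : Fin chevG2.rank := ⟨1, by decide⟩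

theorem fin2 (i : Fin chevG2.rank) : i = i0 ∨ i = i1 := (by decide : ∀ i : Fin 2, i = 0 ∨ i = 1) i

theorem sum2 (f : Fin chevG2.rank → ℤ) : ∑ j, f j = f i0 + f i1 := Fin.sum_univ_two f

/-- exponent vectors -/
def mv (m : ℤ) (i : Fin chevG2.rank) : ℤ := if (i : ℕ) = 0 then 1 else m

theorem enum {w : Equiv.Perm (Fin chevG2.nroots)} (hw : w ∈ (RR).W) : ∃ l ∈ wds, ∀ r, (w r : ℕ) = tabG2.appl l r := by
  have ha := (RR).W_le_Aut hw
  obtain ⟨l, hl, h1, h2, h3⟩ := (by decide +kernel : ∀ x y : Fin chevG2.nroots, tabG2.A x y = -3 → ∃ l ∈ wds,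
      (∀ i ∈ l, i < tabG2.l) ∧ (x : ℕ) = tabG2.appl l (tabG2.simple 0) ∧ (y : ℕ) = tabG2.appl l (tabG2.simple 1))
    (w ((RR).sim i0)) (w ((RR).sim i1)) (by
      rw [← (hT).A_eq, RS.Aut.A ha, (hT).A_eq, (hT).val_sim, (hT).val_sim]; decide +kernel)
  obtain ⟨v, hv, e⟩ := (hT).exists_wd l h1
  obtain rfl : w = v := RS.Aut.ext ha ((RR).W_le_Aut hv) fun i => Fin.ext (by
    rw [e, (hT).val_sim]
    rcases fin2 i with rfl | rfl
    exacts [h2, h3])
  exact ⟨l, hl, e⟩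

/-- determinant of two roots -/
noncomputable def dt (r s : ℕ) : ℤ := tabG2.rtv r 0 * tabG2.rtv s 1 - tabG2.rtv r 1 * tabG2.rtv s 0

variable {k : Type*} [Field k]

theorem pow_dt {c : Fin chevG2.rank → kˣ} {r s : Fin chevG2.nroots} (hr : RS.chi c ((RR).rt r) = 1)
    (hs : RS.chi c ((RR).rt s) = 1) : c ^ (dt r s).natAbs = 1 := by
  have key : ∀ (a b : ℤ) i, dt r s • Pi.single i 1 = a • (RR).rt r + b • (RR).rt s → (c ^ dt r s) i = 1 :=
    fun a b i e => by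
      have := congrArg (RS.chi c) e
      rwa [RS.chi_add, RS.chi_smul, RS.chi_smul, RS.chi_smul, hr, hs, one_zpow, one_zpow, one_mul, RS.chi_single] at this
  rw [pow_natAbs_eq_one]
  funext i
  rcases fin2 i with rfl | rfl
  · refine key (tabG2.rtv s 1) (-tabG2.rtv r 1) _ (funext fun j => ?_)
    rcases fin2 j with rfl | rfl
    · change dt r s * 1 = tabG2.rtv s 1 * tabG2.rtv r 0 + -tabG2.rtv r 1 * tabG2.rtv s 0
      rw [dt]; ring
    · change dt r s * 0 = tabG2.rtv s 1 * tabG2.rtv r 1 + -tabG2.rtv r 1 * tabG2.rtv s 1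
      ring
  · refine key (-tabG2.rtv s 0) (tabG2.rtv r 0) _ (funext fun j => ?_)
    rcases fin2 j with rfl | rfl
    · change dt r s * 0 = -tabG2.rtv s 0 * tabG2.rtv r 0 + tabG2.rtv r 0 * tabG2.rtv s 0
      ring
    · change dt r s * 1 = -tabG2.rtv s 0 * tabG2.rtv r 1 + tabG2.rtv r 0 * tabG2.rtv s 1
      rw [dt]; ring

theorem tri {w : Equiv.Perm (Fin chevG2.nroots)} (hw : w ∈ (RR).W) {q : ℕ} {c : Fin chevG2.rank → kˣ}
    (hc : c ∈ T k RR q w) : (w ^ 2 = 1 ∧ c ^ ((q : ℤ) ^ 2 - 1) = 1) ∨ c ^ ((q : ℤ) ^ 2 + q + 1) = 1 ∨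
      c ^ ((q : ℤ) ^ 2 - q + 1) = 1 := by
  obtain ⟨l, hl, e⟩ := enum hw
  have ha := (RR).W_le_Aut hw
  have key : ∀ a b : ℤ, (∀ r : Fin chevG2.nroots, ∀ j : Fin chevG2.rank, b * tabG2.rtv r j +
      a * tabG2.rtv (tabG2.appl l r) j + tabG2.rtv (tabG2.appl l (tabG2.appl l r)) j = 0) →
      c ^ ((q : ℤ) ^ 2 + a * q + b) = 1 := fun a b H => by
    have := rel_T ha hc (n := 3) (P := fun j => [b, a, 1].getD j 0) fun i => funext fun j => by
      simpa [sum_range_succ, (hT).rt_eq, sq, e] using H ((RR).sim i) j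
    rw [← this]; congr 1; simp [sum_range_succ]; ring
  rcases (by decide +kernel : ∀ l ∈ wds, ∃ a ∈ [((0 : ℤ), (-1 : ℤ)), (1, 1), (-1, 1)], ∀ r : Fin chevG2.nroots,
    ∀ j : Fin chevG2.rank, a.2 * tabG2.rtv r j + a.1 * tabG2.rtv (tabG2.appl l r) j +
      tabG2.rtv (tabG2.appl l (tabG2.appl l r)) j = 0) l hl with ⟨a, h1, H⟩
  have := key _ _ H
  simp only [List.mem_cons, List.not_mem_nil, or_false] at h1
  rcases h1 with rfl | rfl | rfl
  · refine Or.inl ⟨Equiv.ext fun r => (RR).rt_inj (funext fun j => ?_), by simpa [sub_eq_add_neg] using this⟩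
    have := H r j
    simp only [sq, Equiv.Perm.mul_apply, (hT).rt_eq, e, Equiv.Perm.one_apply]
    omega
  · exact Or.inr (Or.inl (by simpa using this))
  · exact Or.inr (Or.inr (by simpa [sub_eq_add_neg] using this))

theorem mix {w : Equiv.Perm (Fin chevG2.nroots)} (hw : w ∈ (RR).W) {q : ℕ} {c : Fin chevG2.rank → kˣ}
    (hc : c ∈ T k RR q w) {r : Fin chevG2.nroots} (hr : RS.chi c ((RR).rt r) = 1) :
    c ^ ((q : ℤ) - 1) = 1 ∨ c ^ ((q : ℤ) + 1) = 1 ∨ c ^ 3 = 1 := by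
  obtain ⟨l, hl, e⟩ := enum hw
  have ha := (RR).W_le_Aut hw
  rcases (by decide +kernel : ∀ l ∈ wds, ∀ r : Fin chevG2.nroots, (∃ ε ∈ [(1 : ℤ), -1], ∀ i : Fin chevG2.rank,
    ∃ m ∈ [(0 : ℤ), 1, -1, 2, -2, 3, -3], ∀ j : Fin chevG2.rank, tabG2.rtv (tabG2.appl l (tabG2.simple i)) j =
      ε * tabG2.rtv (tabG2.simple i) j + m * tabG2.rtv r j) ∨ (dt r (tabG2.appl l r)).natAbs ∣ 3) l hl r with
    ⟨ε, h1, H⟩ | H
  · have : c ^ ((q : ℤ) - ε) = 1 := funext fun i => by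
      obtain ⟨m, -, H⟩ := H i
      have h2 := chi_T ha hc ((RR).sim i)
      rw [show (RR).rt (w ((RR).sim i)) = ε • (RR).rt ((RR).sim i) + m • (RR).rt r from funext fun j => by
        simpa only [(hT).rt_eq, e, (hT).val_sim, Pi.add_apply, Pi.smul_apply, smul_eq_mul] using H j,
        RS.chi_add, RS.chi_smul, RS.chi_smul, hr, one_zpow, mul_one, chi_sim] at h2
      rw [Pi.pow_apply, zpow_sub, h2, zpow_natCast, mul_inv_cancel]; rfl
    simp only [List.mem_cons, List.not_mem_nil, or_false] at h1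
    rcases h1 with rfl | rfl
    · exact Or.inl this
    · exact Or.inr (Or.inl (by simpa using this))
  · obtain ⟨m, hm⟩ := H
    rw [hm, pow_mul, ← e, pow_dt hr (by rw [chi_T ha hc, hr, one_pow]), one_pow]
    simp

theorem uni {G : Type*} [Group G] (S : St (hT).cd k G) {p : ℕ} (hp : p.Prime) (h0 : (p : k) = 0)
    {c : Fin chevG2.rank → kˣ} (h1 : c ≠ 1) {v : G} (hv : v ∈ S.XS (Pc RR c)) :
    v ^ p = 1 ∨ (p = 2 ∧ c ^ 3 = 1 ∧ v ^ 4 = 1) := by
  by_cases H : ∀ r ∈ Pc RR c, ∀ s ∈ Pc RR c, ∀ t u, Commute (S.x r t) (S.x s u)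
  · exact Or.inl (pow_XS_comm S h0 H v hv)
  simp only [not_forall] at H
  obtain ⟨r, hr, s, hs, t, u, H⟩ := H
  have key : ∀ {r s}, r ∈ Pc RR c → s ∈ Pc RR c → (dt r s).natAbs ≠ 1 := fun hr hs e =>
    h1 (by simpa [e] using pow_dt hr.2 hs.2)
  rcases (by decide +kernel : ∀ r s : Fin chevG2.nroots, tabG2.posB r = true → tabG2.posB s = true → s = r ∨
    ((s : ℕ) ≠ tabG2.neg r ∧ gTerms tabG2.chain r s = []) ∨ (dt r s).natAbs = 1 ∨ ((dt r s).natAbs = 3 ∧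
      ∀ t : Fin chevG2.nroots, tabG2.posB t = true → (0 < tabG2.rtv t 1 ∧ tabG2.rtv t 1 < 3) ∨ (dt t r).natAbs = 1 ∨
        (dt t s).natAbs = 1)) r s (((hT).posB_iff r).2 hr.1) (((hT).posB_iff s).2 hs.1) with e | e | e | ⟨e, e'⟩
  · exact absurd (e ▸ S.x_comm_self _ _ _) H
  · refine absurd (St0.commute_of_terms _ (p := 0) Nat.cast_zero (Or.inr ⟨fun e' => e.1 (by rw [e']; exact (hT).val_neg r), ?_⟩) t u) H
    rw [← (hT).fin_val r, ← (hT).fin_val s, (hT).terms_eq ((hT).lt_n r) ((hT).lt_n s), e.2]; simp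
  · exact absurd e (key hr hs)
  have h3 : ∀ t ∈ Pc RR c, 0 < tabG2.rtv t 1 ∧ tabG2.rtv t 1 < 3 := fun t ht =>
    (e' t (((hT).posB_iff t).2 ht.1)).resolve_right (not_or.2 ⟨key ht hr, key ht hs⟩)
  have h4 : ∀ e, 3 ≤ p ^ e → v ^ p ^ e = 1 := fun e he => pow_XS S.toSt0 hp h0 (f := LinearMap.proj i1)
    (closed_Pc c) (fun t ht => (h3 t ht).1) e (fun t ht => (h3 t ht).2.trans_le (by exact_mod_cast he)) hv
  by_cases h2 : p = 2
  · subst h2
    exact Or.inr ⟨rfl, by simpa [e] using pow_dt hr.2 hs.2, h4 2 (by norm_num)⟩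
  · have := hp.two_le
    exact Or.inl (by simpa using h4 1 (by rw [pow_one]; omega))

theorem expU {G : Type*} [Group G] (S : St (hT).cd k G) {p : ℕ} (hp : p.Prime) (h0 : (p : k) = 0) {e : ℕ}
    (he : 6 ≤ p ^ e) {v : G} (hv : v ∈ S.U) : v ^ p ^ e = 1 :=
  pow_XS S.toSt0 hp h0 (f := RS.htv) RS.closed_pos (fun r hr => (RR).ht_pos hr) e (fun r _ =>
    ((by decide +kernel : ∀ r : Fin chevG2.nroots, (RR).ht r < 6) r).trans_le (by exact_mod_cast he)) hv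

theorem hA (p : ℕ) [hp : Fact p.Prime] [CharP k p] (c : Fin chevG2.rank → kˣ) :
    ∀ w ∈ Wc RR c, orderOf w = p → ∃ r ∈ Pc RR c, ¬ (RR).Pos (w r) := fun w hw h => by
  have h12 : p ∣ 2 ^ 2 * 3 := by
    rw [← h, show 2 ^ 2 * 3 = Nat.card (RR).W from cardWG2.symm]; exact Subgroup.orderOf_dvd_natCard _ hw.1
  rcases hp.out.dvd_mul.1 h12 with e | e
  · obtain rfl := (Nat.prime_dvd_prime_iff_eq hp.out Nat.prime_two).1 (hp.out.dvd_of_dvd_pow e)
    exact hA_two _ c w hw h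
  obtain rfl := (Nat.prime_dvd_prime_iff_eq hp.out Nat.prime_three).1 e
  obtain rfl : c = 1 := by
    rcases tri hw.1 (q := 1) (c := c) (by rw [mem_T, pow_one, hw.2]) with e | e | e
    · have := orderOf_dvd_of_pow_eq_one e.1
      rw [h] at this; omega
    · exact funext fun i => eq_one_of_pow (p := 3) (by simpa [zpow_ofNat] using congrFun e i)
    · simpa using e
  exact hA_one _ hw.1 (by rintro rfl; simp at h)

variable {F : Type*} [Field F] [Fintype F] (p : ℕ) [hp : Fact p.Prime] [CharP F p]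

theorem ord_dvd {q : ℕ} (hF : Fintype.card F = q) (x : chevG2.group F) :
    orderOf x ∣ q ^ 2 - 1 ∨ orderOf x ∣ q ^ 2 + q + 1 ∨ orderOf x ∣ q ^ 2 - q + 1 ∨ orderOf x ∣ p * (q - 1) ∨
      orderOf x ∣ p * (q + 1) ∨ (p = 2 ∧ orderOf x ∣ 12) ∨ ∀ e, 6 ≤ p ^ e → orderOf x ∣ p ^ e := by
  obtain ⟨E⟩ := exists_ext hT uniG2 F
  have : CharP (AlgebraicClosure F) p := charP_of_injective_ringHom E.j.injective p
  have h0 := CharP.cast_eq_zero (AlgebraicClosure F) p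
  have hq : 1 < q := hF ▸ Fintype.one_lt_card
  have hq2 : q ≤ q ^ 2 := Nat.le_self_pow two_ne_zero q
  obtain ⟨w, hw, c, hc, v, hv, e⟩ := split hT uniG2 E p (hA p) x
  rw [hF] at hc
  have key : ∀ {n : ℕ} {z : ℤ}, c ^ z = 1 → z = n → orderOf c ∣ n := fun h e =>
    orderOf_dvd_of_pow_eq_one (by rw [← zpow_natCast, ← e, h])
  rw [e]
  by_cases h1 : v = 1
  · rw [h1, orderOf_one, one_mul]
    rcases tri hw hc with h | h | h
    · exact .inl (key h.2 (by zify [hq2.trans' hq.le]))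
    · exact .inr (.inl (key h (by push_cast; rfl)))
    · exact .inr (.inr (.inl (key h (by zify [hq2]))))
  by_cases h2 : c = 1
  · rw [h2, orderOf_one, mul_one]
    exact .inr (.inr (.inr (.inr (.inr (.inr fun e he => orderOf_dvd_of_pow_eq_one
      (expU _ hp.out h0 he (((hT).grp _).XS_mono (fun r hr => hr.1) hv)))))))
  obtain ⟨r, hr⟩ : (Pc RR c).Nonempty := Set.nonempty_iff_ne_empty.2 fun e => h1 (by rwa [e, XS_empty] at hv)
  rcases uni _ hp.out h0 h2 hv with h | ⟨h, h3, h4⟩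
  swap
  · exact .inr (.inr (.inr (.inr (.inr (.inl ⟨h, Nat.mul_dvd_mul (orderOf_dvd_of_pow_eq_one h4)
      (orderOf_dvd_of_pow_eq_one h3)⟩)))))
  have : orderOf c ∣ q - 1 ∨ orderOf c ∣ q + 1 := by
    rcases mix hw hc hr.2 with h | h | h
    · exact .inl (key h (by zify [hq.le]))
    · exact .inr (key h (by push_cast; rfl))
    · have h3 : ¬ 3 ∣ q := fun hd => by
        have h' : ∀ i, c i ^ 3 = 1 := congrFun h
        obtain ⟨n, -, hn⟩ := FiniteField.card F p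
        obtain rfl := (Nat.prime_dvd_prime_iff_eq Nat.prime_three hp.out).1 (Nat.prime_three.dvd_of_dvd_pow (hn ▸ hF ▸ hd))
        exact h2 (funext fun i => eq_one_of_pow (p := 3) (h' i))
      exact (show 3 ∣ q - 1 ∨ 3 ∣ q + 1 by omega).imp (orderOf_dvd_of_pow_eq_one h).trans
        (orderOf_dvd_of_pow_eq_one h).trans
  exact .inr (.inr (.inr (this.elim (fun h' => .inl (Nat.mul_dvd_mul (orderOf_dvd_of_pow_eq_one h) h'))
    fun h' => .inr (.inl (Nat.mul_dvd_mul (orderOf_dvd_of_pow_eq_one h) h')))))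

theorem ord_ex {q : ℕ} (hF : Fintype.card F = q) :
    (∃ x : chevG2.group F, orderOf x = q ^ 2 - 1) ∧ (∃ x : chevG2.group F, orderOf x = q ^ 2 + q + 1) ∧
    (∃ x : chevG2.group F, orderOf x = q ^ 2 - q + 1) ∧ (∃ x : chevG2.group F, orderOf x = p * (q - 1)) ∧
    ∃ x : chevG2.group F, orderOf x = p * (q + 1) := by
  obtain ⟨E⟩ := exists_ext hT uniG2 F
  have hq : 1 < q := hF ▸ Fintype.one_lt_card
  have hq2 : q ≤ q ^ 2 := Nat.le_self_pow two_ne_zero q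
  have h0 : (q : AlgebraicClosure F) = 0 := hF ▸ E.q_eq
  have key : ∀ (n : ℕ) (l : List ℕ) (m : ℤ) (a b c d : ℤ), (n : AlgebraicClosure F) ≠ 0 → ((∀ i ∈ l, i < tabG2.l) ∧
      tabG2.rtv (tabG2.appl l 7) 0 = a ∧ tabG2.rtv (tabG2.appl l 7) 1 = b ∧ tabG2.rtv (tabG2.appl l 6) 0 = c ∧
      tabG2.rtv (tabG2.appl l 6) 1 = d) → (n : ℤ) ∣ q - (a + m * b) → (n : ℤ) ∣ m * q - (c + m * d) →
      ∃ w ∈ (RR).W, (∀ r, (w r : ℕ) = tabG2.appl l r) ∧ ∃ ζ : (AlgebraicClosure F)ˣ,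
        (fun i : Fin chevG2.rank => ζ ^ mv m i) ∈ T _ RR q w ∧
        orderOf (fun i : Fin chevG2.rank => ζ ^ mv m i) = n := fun n l m a b c d hn H h1 h2 => by
    obtain ⟨w, hw, e⟩ := (hT).exists_wd l H.1
    obtain ⟨ζ, hζ⟩ := exists_root hn
    refine ⟨w, hw, e, ζ, pw_mem_T _ (hζ ▸ pow_orderOf_eq_one ζ) fun i => ?_, (orderOf_pw (i := i0) rfl).trans hζ⟩
    rw [sum2, (hT).rt_eq, (hT).rt_eq, e, (hT).val_sim]
    obtain ⟨-, rfl, rfl, rfl, rfl⟩ := H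
    rcases fin2 i with rfl | rfl
    · simpa [mv, show tabG2.simple 0 = 7 from rfl] using h1
    · simpa [mv, show tabG2.simple 1 = 6 from rfl] using h2
  have mx : ∀ (n : ℕ) (l : List ℕ), tabG2.appl l 9 = 9 → (∃ w ∈ (RR).W, (∀ r, (w r : ℕ) = tabG2.appl l r) ∧
      ∃ ζ : (AlgebraicClosure F)ˣ, (fun i : Fin chevG2.rank => ζ ^ mv (-2) i) ∈ T _ RR q w ∧
        orderOf (fun i : Fin chevG2.rank => ζ ^ mv (-2) i) = n) →
      ∃ x : chevG2.group F, orderOf x = p * n := fun n l h9 ⟨w, hw, e, ζ, h1, h2⟩ =>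
    h2 ▸ E.exists_mixed p hw (hF ▸ h1) (r := (hT).fin 9) (Fin.ext (by rw [e, (hT).val_fin (by decide), h9])) (by
      rw [chi_pw, show ∑ i : Fin chevG2.rank, mv (-2) i * (hT).cd.rt ((hT).fin 9) i = 0 by
        decide +kernel, zpow_zero])
  refine ⟨?_, ?_, ?_, mx _ [] rfl (key _ _ _ 1 0 0 1 (by simp [hq.le, h0]) (by decide +kernel) ⟨1, by zify [hq.le]; ring⟩
    ⟨-2, by zify [hq.le]; ring⟩), mx _ [1] (by decide +kernel) (key _ _ _ 1 1 0 (-1) (by simp [h0]) (by decide +kernel)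
    ⟨1, by push_cast; ring⟩ ⟨-2, by push_cast; ring⟩)⟩
  · obtain ⟨w, hw, -, ζ, h1, h2⟩ := key (q ^ 2 - 1) [1] (q - 1) 1 1 0 (-1) (by simp [hq2.trans' hq.le, h0])
      (by decide +kernel) ⟨0, by ring⟩ ⟨1, by zify [hq2.trans' hq.le]; ring⟩
    exact h2 ▸ E.exists_ss hw (hF ▸ h1)
  · obtain ⟨w, hw, -, ζ, h1, h2⟩ := key (q ^ 2 + q + 1) [0, 1, 0, 1] (q - 1) 1 1 (-3) (-2) (by simp [h0])
      (by decide +kernel) ⟨0, by ring⟩ ⟨1, by push_cast; ring⟩
    exact h2 ▸ E.exists_ss hw (hF ▸ h1)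
  · obtain ⟨w, hw, -, ζ, h1, h2⟩ := key (q ^ 2 - q + 1) [0, 1] (q - 2) 2 1 (-3) (-1) (by simp [hq2, h0])
      (by decide +kernel) ⟨0, by ring⟩ ⟨1, by zify [hq2]; ring⟩
    exact h2 ▸ E.exists_ss hw (hF ▸ h1)

omit [Fintype F] in
theorem ord_unip {e : ℕ} (he : 6 ≤ p ^ (e + 1)) {a b : ℤ} (H : tabG2.chkWd p
    (cw (List.replicate (p ^ e) [(7, 1), (6, 1)]).flatten) (cw [(11, a), (9, b)]) = true) (ha : ¬ (p : ℤ) ∣ a) :
    ∃ x : chevG2.group F, orderOf x = p ^ (e + 1) := by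
  have h0 := CharP.cast_eq_zero F p
  have := (hT).word_eq' h0 H
  have p7 : (hT).cd.Pos ((hT).fin 7) := ((hT).posB_iff _).1 (by decide +kernel)
  have p6 : (hT).cd.Pos ((hT).fin 6) := ((hT).posB_iff _).1 (by decide +kernel)
  refine ⟨((hT).grp F).x ((hT).fin 7) 1 * ((hT).grp F).x ((hT).fin 6) 1, orderOf_eq_prime_pow (fun e => ?_)
    (expU _ hp.out h0 he (mul_mem (x_mem_U _ p7 _) (x_mem_U _ p6 _)))⟩
  simp only [Tab.Chk.wrd, List.map_flatten, List.map_replicate, List.prod_flatten, List.prod_replicate, List.map_cons,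
    List.map_nil, List.prod_cons, List.prod_nil, mul_one, Int.cast_one, e] at this
  exact xx_ne _ ((hT).fin_ne (by decide) (by decide) (by decide)) (mt (CharP.intCast_eq_zero_iff F p a).1 ha) _ this.symm

omit [Fintype F] in
theorem ord_twelve [CharP F 2] : ∃ x : chevG2.group F, orderOf x = 12 := by
  have h0 := CharP.cast_eq_zero F 2
  have h1 := (hT).word_eq' h0 (w1 := [(8, 1), (9, 1), (7, 1), (4, 1)]) (w2 := [(7, 1), (4, 1), (8, 1), (9, 1)])
    (by decide +kernel)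
  have h2 := (hT).word_eq' h0 (w1 := [(8, 1), (9, 1), (8, 1), (9, 1)]) (w2 := [(11, 1)]) (by decide +kernel)
  have h3 := (hT).word_eq' h0 (w1 := [(7, 1), (4, 1), (7, 1), (4, 1), (7, 1), (4, 1)]) (w2 := []) (by decide +kernel)
  simp only [Tab.Chk.wrd, List.map_cons, List.map_nil, List.prod_cons, List.prod_nil, mul_one, Int.cast_one] at h1 h2 h3
  set S := (hT).grp F
  have h4 := orderOf_x S h0 ((hT).fin 11) one_ne_zero
  have : Fact (Nat.Prime 3) := ⟨Nat.prime_three⟩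
  have e1 : orderOf (S.x ((hT).fin 8) 1 * S.x ((hT).fin 9) 1) = 2 ^ (1 + 1) := by
    have e : (S.x ((hT).fin 8) 1 * S.x ((hT).fin 9) 1) ^ 2 = S.x ((hT).fin 11) 1 := by rw [← h2, sq, mul_assoc]
    refine orderOf_eq_prime_pow (fun e' => ?_) (by rw [pow_succ 2 1, pow_mul, pow_one, e, ← h4, pow_orderOf_eq_one])
    rw [pow_one, e] at e'
    simp [e'] at h4
  have e2 : orderOf (S.x ((hT).fin 7) 1 * S.x ((hT).fin 4) 1) = 3 :=
    orderOf_eq_prime (by rw [← h3, pow_succ', sq]; simp only [mul_assoc])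
      (xx_ne _ ((hT).fin_ne (by decide) (by decide) (by decide)) one_ne_zero _)
  have e3 : Commute (S.x ((hT).fin 8) 1 * S.x ((hT).fin 9) 1) (S.x ((hT).fin 7) 1 * S.x ((hT).fin 4) 1) := by
    rw [Commute, SemiconjBy, mul_assoc, h1, mul_assoc]
  exact ⟨_, by rw [e3.orderOf_mul_eq_mul_orderOf_of_coprime (by rw [e1, e2]; decide), e1, e2]; rfl⟩

end G2

end H14.SS
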