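import Cfsg.Agent.H14.SS2

/-! Semisimple classes when the adjoint group is abstractly simply connected (e.g. `E₇` in characteristic two). -/

set_option autoImplicit false
set_option linter.unusedVariables false
set_option linter.unusedSectionVars false
set_option linter.style.haveILetI false

namespace H14.SS.Bij
open H24 H24.St0 Finset

section grp
variable {ι Φ : Type} [Fintype ι] [DecidableEq ι] [Fintype Φ] [DecidableEq Φ] {R : CD ι Φ} {F : Type*} [Field F]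
  {G : Type*} [Group G]

/-- adjoint and simply connected -/
structure Ad (S : St R F G) : Prop where
  top : S.Gr = ⊤
  adj : S.Adj
  bij : Function.Bijective (R.theta F)

namespace Ad
variable {S : St R F G} (h : Ad S)
include h

theorem r3 : S.R3 := S.r3_of_adj h.adj

theorem ker : (R.theta F).ker = ⊥ := (MonoidHom.ker_eq_bot_iff _).2 h.bij.1

theorem sc : S.SC := S.sc_of_adj h.adj h.ker

theorem mem_Gr (g : G) : g ∈ S.Gr := h.top ▸ Subgroup.mem_top g

/-- the element of the torus with a given character -/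
noncomputable def tt : (ι → Fˣ) →* G := (S.hh h.r3).comp (MulEquiv.ofBijective _ h.bij).symm.toMonoidHom

theorem tt_mem (c : ι → Fˣ) : h.tt c ∈ S.H := S.hh_mem _ _

theorem tt_acts (c : ι → Fˣ) : S.Acts (h.tt c) 1 fun r => RS.chi c (R.rt r) := by
  have := S.hh_acts h.r3 ((MulEquiv.ofBijective _ h.bij).symm c)
  rwa [show R.theta F ((MulEquiv.ofBijective _ h.bij).symm c) = c from
    (MulEquiv.ofBijective _ h.bij).apply_symm_apply c] at this

theorem tt_conj (c : ι → Fˣ) (r : Φ) (t : F) :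
    h.tt c * S.x r t * (h.tt c)⁻¹ = S.x r (RS.chi c (R.rt r) * t) := h.tt_acts c r t

theorem eq_tt {g : G} (hg : g ∈ S.H) {c : ι → Fˣ} (hc : S.Acts g 1 fun r => RS.chi c (R.rt r)) : g = h.tt c := by
  have := hc.mul (h.tt_acts c).inv
  simp only [inv_one, mul_one, Equiv.Perm.coe_one, id, mul_inv_cancel] at this
  exact mul_inv_eq_one.1 (h.adj _ (mul_mem hg (inv_mem (h.tt_mem c))) this)

theorem exists_tt {g : G} (hg : g ∈ S.H) : ∃ c, g = h.tt c := (S.exists_chi hg).imp fun _ => h.eq_tt hg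

theorem tt_inj : Function.Injective h.tt := fun c d e =>
  ext_rt (congrFun (S.acts_unique (h.tt_acts c) (e ▸ h.tt_acts d)))

theorem conj_tt {n : G} {w : Equiv.Perm Φ} (hn : S.Rep n w) (c : ι → Fˣ) :
    n⁻¹ * h.tt c * n = h.tt (ac R.toRS w c) := by
  refine h.eq_tt (by simpa using hn.inv.conj_mem_H _ (h.tt_mem c)) ?_
  obtain ⟨hw, a, -, ha⟩ := hn
  have := (ha.inv.mul (h.tt_acts c)).mul ha
  simp only [mul_one, inv_mul_cancel, Equiv.Perm.coe_one, id, Equiv.Perm.coe_inv, Equiv.symm_apply_apply] at this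
  convert this using 2 with r
  rw [chi_ac hw, mul_comm (a r)⁻¹, inv_mul_cancel_right]

theorem h_eq_tt (r : Φ) (t : Fˣ) : S.h r t = h.tt fun i => t ^ R.A r (R.sim i) := by
  refine h.eq_tt (S.h_mem t.ne_zero) ?_
  convert S.h_acts r t using 2 with s
  rw [RS.A_def, ← RS.chi_zpow t (R.Av r)]
  simp only [RS.A_def, R.rt_sim]

theorem isConj_tt {c d : ι → Fˣ} : IsConj (h.tt c) (h.tt d) ↔ ∃ w ∈ R.W, d = ac R.toRS w c := by
  constructor
  · intro e
    obtain ⟨g, hg⟩ := isConj_iff.1 e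
    obtain ⟨n, hn, e⟩ := S.conj_H (h.tt_mem c) (h.tt_mem d) (h.mem_Gr g) hg
    obtain ⟨w, hw, hr⟩ := S.exists_rep (inv_mem hn)
    exact ⟨w, hw, h.tt_inj (by rw [← h.conj_tt hr, inv_inv, e])⟩
  · rintro ⟨w, hw, rfl⟩
    obtain ⟨n, -, hr⟩ := S.exists_N_rep hw
    exact isConj_iff.2 ⟨n⁻¹, by rw [inv_inv, h.conj_tt hr]⟩

theorem orderOf_tt (c : ι → Fˣ) : orderOf (h.tt c) = orderOf c := orderOf_injective _ h.tt_inj c

theorem card_H : Nat.card S.H = Nat.card Fˣ ^ Fintype.card ι := by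
  rw [← Nat.card_eq_of_bijective (fun c => (⟨h.tt c, h.tt_mem c⟩ : S.H)) ⟨fun c d e => h.tt_inj (congrArg Subtype.val e),
    fun g => (h.exists_tt g.2).imp fun c e => Subtype.ext e.symm⟩, Nat.card_fun, Nat.card_eq_fintype_card (α := ι)]

end Ad

end grp

section ext
variable {ι Φ : Type} [Fintype ι] [DecidableEq ι] [Fintype Φ] [DecidableEq Φ] {R : CD ι Φ} {K k : Type*} [Field K]
  [Fintype K] [Field k] {G0 G : Type*} [Group G0] [Group G]

/-- a finite Chevalley group inside the algebraic group -/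
structure Ext (S0 : St R K G0) (S : St R k G) where
  ad0 : Ad S0
  ad : Ad S
  j : K →+* k
  θ : G0 →* G
  inj : Function.Injective θ
  θx : ∀ r t, θ (S0.x r t) = S.x r (j t)
  f : k →+* k
  hf : ∀ t, f t = t ^ Fintype.card K
  σ : G →* G
  σx : ∀ r t, σ (S.x r t) = S.x r (f t)
  fix : ∀ g, σ g = g → g ∈ θ.range
  lang : ∀ y, ∃ g, g⁻¹ * σ g = y

theorem exists_ext {D : Cfsg.Lie.ChevalleyDatum} {T : Tab} (h : T.Chk D) (K : Type*) [Field K] [Fintype K]
    (hu : Function.Bijective (h.rsys.theta K)) (hu' : Function.Bijective (h.rsys.theta (AlgebraicClosure K))) :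
    Nonempty (Ext (h.grp K) (h.grp (AlgebraicClosure K))) := by
  set k := AlgebraicClosure K
  have a0 : Ad (h.grp K) := ⟨h.grp_Gr K, h.grp_adj K, hu⟩
  have a1 : Ad (h.grp k) := ⟨h.grp_Gr k, h.grp_adj k, hu'⟩
  let j : K →+* k := algebraMap K k
  obtain ⟨θ, h1, h2, -, h4⟩ := (h.grp k).exists_ext a1.top a1.sc (h.grp K) a0.top a0.sc j
  obtain ⟨f, hf, hs⟩ := exists_frob_alg j one_ne_zero (pow_one (Fintype.card K)).dvd
  obtain ⟨σ, hσ⟩ := a1.sc.exists_hom_top a1.top ((h.grp k).sub f).toSt0 (a1.r3.twist _ _ Nat.cast_zero)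
  have hσ' : ∀ r t, σ ((h.grp k).x r t) = (h.grp k).x r (f t) := fun r t => (hσ r t).trans ((h.grp k).sub_x f r t)
  exact ⟨⟨a0, a1, j, θ, h1, h2, f, hf, σ, hσ', h4 f σ hs (fun t e => mem_range_of_pow_card j (hf t ▸ e)) hσ',
    fun y => (h.lang σ (m := 0) (Ψ := Set.univ) (fun r _ => ⟨r, trivial, Polynomial.X ^ Fintype.card K, fun t => by
      simp [hσ', hf]⟩) Fintype.one_lt_card f hf hσ' (a1.mem_Gr y)).imp fun _ h => h.2⟩⟩

namespace Ext
variable {S0 : St R K G0} {S : St R k G} (E : Ext S0 S)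

theorem σθ (g : G0) : E.σ (E.θ g) = E.θ g :=
  eq_of_mem_Gr (θ := E.σ.comp E.θ) (θ' := E.θ) (S := S0.toSt0) (fun r t => by
    rw [MonoidHom.comp_apply, E.θx, E.σx, E.hf, ← map_pow, FiniteField.pow_card]) (E.ad0.mem_Gr g)

theorem σ_H {g : G} (hg : g ∈ S.H) : E.σ g = g ^ Fintype.card K :=
  S.pow_H E.ad.r3 E.σ (m := 1) E.f E.hf E.σx hg

theorem σ_tt (c : ι → kˣ) : E.σ (E.ad.tt c) = E.ad.tt (c ^ Fintype.card K) := by
  rw [E.σ_H (E.ad.tt_mem c), map_pow]

include E in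
theorem q_eq : ((Fintype.card K : ℕ) : k) = 0 := by
  rw [← map_natCast E.j, FiniteField.cast_card_eq_zero, map_zero]

theorem desc {y n : G} (h : E.σ y = n⁻¹ * y * n) : ∃ x, IsConj (E.θ x) y := by
  obtain ⟨g, hg⟩ := E.lang n
  obtain ⟨x, hx⟩ := E.fix (g * y * g⁻¹) (by
    rw [map_mul, map_mul, map_inv, h, inv_mul_eq_iff_eq_mul.1 hg]; group)
  exact ⟨x, isConj_iff.2 ⟨g⁻¹, by rw [hx]; group⟩⟩

theorem desc_T {w : Equiv.Perm Φ} (hw : w ∈ R.W) {c : ι → kˣ} (hc : c ∈ T k R.toRS (Fintype.card K) w) :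
    ∃ x, IsConj (E.θ x) (E.ad.tt c) := by
  obtain ⟨n, -, hr⟩ := S.exists_N_rep hw
  exact E.desc (n := n) (by rw [E.σ_tt, mem_T.1 hc, E.ad.conj_tt hr])

theorem orderOf_eq {x : G0} {y : G} (h : IsConj (E.θ x) y) : orderOf x = orderOf y := by
  rw [← orderOf_injective E.θ E.inj, SemiconjBy.orderOf_eq _ h.choose_spec]

variable [IsAlgClosed k] [Finite G0] (p : ℕ) [Fact p.Prime] [CharP K p]

theorem main : (∀ x : G0, (orderOf x).Coprime p → ∃ w ∈ R.W, ∃ c ∈ T k R.toRS (Fintype.card K) w,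
      IsConj (E.θ x) (E.ad.tt c)) ∧
    ∀ x y : G0, (orderOf x).Coprime p → IsConj (E.θ x) (E.θ y) → IsConj x y := by
  classical
  set q := Fintype.card K
  haveI := Fintype.ofFinite G0
  set P := {c : ConjClasses G0 | ∃ g, ConjClasses.mk g = c ∧ (orderOf g).Coprime p}
  have hP : P.ncard = q ^ Fintype.card ι := H20.CR.card_classes p S0 E.ad0.top E.ad0.r3 E.ad0.adj
    (Subgroup.card_eq_one.2 E.ad0.ker)
  set WF : Finset (Equiv.Perm Φ) := univ.filter (· ∈ R.W)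
  have hWF : ∀ {w}, w ∈ WF ↔ w ∈ R.W := by simp [WF]
  have hfin : ∀ w ∈ R.W, (T k R.toRS q w : Set (ι → kˣ)).Finite := fun w hw => finite_T E.q_eq (R.W_le_Aut hw)
  let Tw : Equiv.Perm Φ → Finset (ι → kˣ) := fun w => if h : w ∈ R.W then (hfin w h).toFinset else ∅
  have hT : ∀ {w c}, w ∈ R.W → (c ∈ Tw w ↔ c ∈ T k R.toRS q w) := fun {w c} hw => by simp [Tw, hw]
  set Pairs := WF.sigma Tw
  let cl : (Σ _ : Equiv.Perm Φ, ι → kˣ) → ConjClasses G := fun a => ConjClasses.mk (E.ad.tt a.2)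
  set Y := Pairs.image cl
  have h1 : WF.card * q ^ Fintype.card ι ≤ Pairs.card := by
    have := sum_det R.toRS q
    rw [card_sigma]
    zify
    rw [show (WF.card : ℤ) = Nat.card R.W by rw [Nat.card_eq_fintype_card, Fintype.card_subtype], ← this]
    refine (sum_le_sum fun w hw => ?_).trans_eq' (by congr)
    have hw := hWF.1 hw
    have e : (Tw w).card = Nat.card (T k R.toRS q w) := by
      simp only [Tw, dif_pos hw]
      rw [← Set.ncard_eq_toFinset_card _ (hfin w hw)]; rfl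
    rw [e, card_T E.q_eq (R.W_le_Aut hw)]
    exact Int.le_natAbs
  have h2 : Pairs.card ≤ WF.card * Y.card := by
    refine card_le_mul_card_image _ _ fun y hy => ?_
    obtain ⟨⟨w0, c0⟩, h0, rfl⟩ := mem_image.1 hy
    obtain ⟨hw0, hc0⟩ := mem_sigma.1 h0
    replace hw0 := hWF.1 hw0
    replace hc0 := mem_T.1 ((hT hw0).1 hc0)
    have hv : ∀ a ∈ Pairs.filter fun a => cl a = cl ⟨w0, c0⟩, ∃ v ∈ R.W, a.2 = ac R.toRS v c0 := fun a ha =>
      E.ad.isConj_tt.1 (ConjClasses.mk_eq_mk_iff_isConj.1 (mem_filter.1 ha).2.symm)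
    let v : (ι → kˣ) → Equiv.Perm Φ := fun c => if h : ∃ v ∈ R.W, c = ac R.toRS v c0 then h.choose else 1
    have hv' : ∀ a ∈ Pairs.filter fun a => cl a = cl ⟨w0, c0⟩, v a.2 ∈ R.W ∧ a.2 = ac R.toRS (v a.2) c0 :=
      fun a ha => by simp only [v, dif_pos (hv a ha)]; exact (hv a ha).choose_spec
    have key : ∀ a ∈ Pairs.filter fun a => cl a = cl ⟨w0, c0⟩,
        ac R.toRS (v a.2 * a.1 * (v a.2)⁻¹ * w0⁻¹ * v a.2) c0 = a.2 := fun a ha => by
      obtain ⟨e1, e2⟩ := hv' a ha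
      obtain ⟨hw, hc⟩ := mem_sigma.1 (mem_filter.1 ha).1
      replace hw := hWF.1 hw
      replace hc := mem_T.1 ((hT hw).1 hc)
      have a1 := R.W_le_Aut e1
      have a2 := R.W_le_Aut hw
      have a3 := R.W_le_Aut hw0
      rw [ac_mul (mul_mem (mul_mem (mul_mem a1 a2) (inv_mem a1)) (inv_mem a3)),
        ac_mul (mul_mem (mul_mem a1 a2) (inv_mem a1)), ac_mul (mul_mem a1 a2), ac_mul a1, ← e2, ← hc, map_pow,
        show ac R.toRS (v a.2)⁻¹ a.2 = c0 from (congrArg _ e2).trans (ac_inv a1 c0), hc0, ac_inv a3, ← e2]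
    refine card_le_card_of_injOn (fun a => v a.2 * a.1 * (v a.2)⁻¹ * w0⁻¹ * v a.2) (fun a ha => ?_) fun a ha b hb e => ?_
    · obtain ⟨e1, -⟩ := hv' a ha
      have hw := hWF.1 (mem_sigma.1 (mem_filter.1 ha).1).1
      exact hWF.2 (mul_mem (mul_mem (mul_mem (mul_mem e1 hw) (inv_mem e1)) (inv_mem hw0)) e1)
    · have e2 : a.2 = b.2 := by rw [← key a ha, ← key b hb]; exact congrArg (ac R.toRS · c0) e
      simp only [e2, mul_left_inj, mul_right_inj] at e
      exact Sigma.ext e (heq_of_eq e2)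
  have h3 : P.ncard ≤ Y.card := hP ▸ Nat.le_of_mul_le_mul_left (h1.trans h2) (card_pos.2 ⟨1, hWF.2 (one_mem _)⟩)
  have h4 : (Y : Set (ConjClasses G)) ⊆ ConjClasses.map E.θ '' P := fun y hy => by
    obtain ⟨⟨w, c⟩, h0, rfl⟩ := mem_image.1 hy
    obtain ⟨hw, hc⟩ := mem_sigma.1 h0
    replace hw := hWF.1 hw
    replace hc := (hT hw).1 hc
    obtain ⟨x, hx⟩ := E.desc_T hw hc
    refine ⟨ConjClasses.mk x, ⟨x, rfl, ?_⟩, ConjClasses.mk_eq_mk_iff_isConj.2 hx⟩
    have : CharP k p := charP_of_injective_ringHom E.j.injective p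
    rw [E.orderOf_eq hx, E.ad.orderOf_tt, Nat.coprime_comm, (Fact.out : p.Prime).coprime_iff_not_dvd]
    intro hd
    have := hd.trans (Subgroup.orderOf_dvd_natCard _ hc)
    rw [card_T E.q_eq (R.W_le_Aut hw), ← Int.natCast_dvd] at this
    exact det_ne E.q_eq (R.W_le_Aut hw) ((CharP.intCast_eq_zero_iff k p _).2 this)
  have hf : P.Finite := Set.toFinite _
  have h5 : (ConjClasses.map E.θ '' P).ncard ≤ P.ncard := Set.ncard_image_le hf
  have h6 : (Y : Set (ConjClasses G)) = ConjClasses.map E.θ '' P :=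
    Set.eq_of_subset_of_ncard_le h4 (by rw [Set.ncard_coe_finset]; omega) (hf.image _)
  have h7 : Set.InjOn (ConjClasses.map E.θ) P := Set.injOn_of_ncard_image_eq (by
    rw [← h6, Set.ncard_coe_finset]; rw [← h6, Set.ncard_coe_finset] at h5; omega) hf
  refine ⟨fun x hx => ?_, fun x y hx e => ?_⟩
  · have : ConjClasses.mk (E.θ x) ∈ (Y : Set (ConjClasses G)) := h6 ▸ ⟨ConjClasses.mk x, ⟨x, rfl, hx⟩, rfl⟩
    obtain ⟨⟨w, c⟩, h0, e⟩ := mem_image.1 this
    obtain ⟨hw, hc⟩ := mem_sigma.1 h0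
    exact ⟨w, hWF.1 hw, c, (hT (hWF.1 hw)).1 hc, (ConjClasses.mk_eq_mk_iff_isConj.1 e).symm⟩
  · exact ConjClasses.mk_eq_mk_iff_isConj.1 (h7 ⟨x, rfl, hx⟩ ⟨y, rfl, by
      rwa [← orderOf_injective E.θ E.inj, ← E.orderOf_eq e]⟩ (ConjClasses.mk_eq_mk_iff_isConj.2 e))

end Ext

end ext


end H14.SS.Bij
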