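/-
A `p`-group with a subgroup of index `p` carrying a character of non-zero norm maps onto the wreath product
`C_p ≀ C_p`, the Sylow `p`-subgroup of the symmetric group of degree `p ^ 2`.
-/
import Mathlib

set_option autoImplicit false
set_option linter.unusedVariables false
set_option linter.style.haveILetI false
open Equiv Polynomial

namespace H14.Fus

theorem mul_card_le_of_lt {P : Type*} [Group P] [Finite P] {p : ℕ} [Fact p.Prime] (hP : IsPGroup p P)
    {A B : Subgroup P} (h : A < B) : p * Nat.card A ≤ Nat.card B := by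
  obtain ⟨a, ha⟩ := IsPGroup.iff_card.1 (hP.to_subgroup A)
  obtain ⟨b, hb⟩ := IsPGroup.iff_card.1 (hP.to_subgroup B)
  have h1 : Nat.card A < Nat.card B := by
    refine lt_of_le_of_ne (Subgroup.card_le_of_le h.le) fun e => h.ne (Subgroup.eq_of_le_of_card_ge h.le e.ge)
  rw [ha, hb] at h1 ⊢
  rw [← pow_succ']
  exact Nat.pow_le_pow_right (Fact.out : p.Prime).pos ((Nat.pow_lt_pow_iff_right (Fact.out : p.Prime).one_lt).1 h1)

theorem card_sylow_perm_sq {p : ℕ} [Fact p.Prime] (Q : Sylow p (Perm (Fin (p ^ 2)))) : Nat.card Q = p ^ (p + 1) := by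
  rw [Sylow.card_eq_multiplicity, Nat.card_perm, Nat.card_eq_fintype_card, Fintype.card_fin, Nat.factorization_def _
    Fact.out, sq, padicValNat_factorial_mul]
  conv_lhs => rw [show p.factorial = (p * 1).factorial by rw [mul_one], padicValNat_factorial_mul]
  simp [add_comm]

theorem sub_one_pow_pred {p : ℕ} [Fact p.Prime] {R : Type*} [Ring R] [Algebra (ZMod p) R] (T : R) :
    (T - 1) ^ (p - 1) = ∑ j ∈ Finset.range p, T ^ j ∧ (T - 1) ^ p = T ^ p - 1 := by
  have h1 : ((X : (ZMod p)[X]) - 1) ^ p = X ^ p - 1 := by rw [sub_pow_char, one_pow]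
  have h2 : ((X : (ZMod p)[X]) - 1) ^ (p - 1) = ∑ j ∈ Finset.range p, X ^ j := by
    refine mul_left_cancel₀ (X_sub_C_ne_zero (1 : ZMod p)) ?_
    rw [C_1, mul_geom_sum, ← pow_succ', Nat.sub_add_cancel (Fact.out : p.Prime).pos, h1]
  exact ⟨by simpa using congrArg (aeval T) h2, by simpa using congrArg (aeval T) h1⟩

theorem exists_dual_ne {K V : Type*} [Field K] [AddCommGroup V] [Module K V] {v : V} (hv : v ≠ 0) :
    ∃ φ : V →ₗ[K] K, φ v ≠ 0 := not_forall.1 ((Module.forall_dual_apply_eq_zero_iff K v).not.2 hv)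

theorem exists_zmod_char {B : Type*} [CommGroup B] {p : ℕ} [Fact p.Prime] (hB : ∀ b : B, b ^ p = 1) {z : B}
    (hz : z ≠ 1) : ∃ ψ : B →* Multiplicative (ZMod p), ψ z ≠ 1 := by
  letI : Module (ZMod p) (Additive B) := AddCommGroup.zmodModule fun a => hB (Additive.toMul a)
  obtain ⟨φ, hφ⟩ := exists_dual_ne (K := ZMod p) (V := Additive B) (v := Additive.ofMul z) hz
  exact ⟨AddMonoidHom.toMultiplicativeRight φ.toAddMonoidHom, hφ⟩

theorem exists_wreath_quot {P : Type*} [Group P] [Finite P] {p : ℕ} [Fact p.Prime] (hP : IsPGroup p P) (R : Subgroup P)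
    [hR : R.Normal] (hidx : R.index = p) (ψ : P → ZMod p) (hψ : ∀ a ∈ R, ∀ b ∈ R, ψ (a * b) = ψ a + ψ b) {x u : P}
    (hx : x ∈ R) (h : ∑ j ∈ Finset.range p, ψ ((u ^ j)⁻¹ * x * u ^ j) ≠ 0) :
    ∃ (Q : Sylow p (Perm (Fin (p ^ 2)))) (f : P →* ↥(Q : Subgroup (Perm (Fin (p ^ 2))))), Function.Surjective f := by
  have hp : p.Prime := Fact.out
  let Add : (P → ZMod p) → Prop := fun φ => ∀ a ∈ R, ∀ b ∈ R, φ (a * b) = φ a + φ b
  have add1 : ∀ φ, Add φ → φ 1 = 0 := fun φ hφ => by simpa using hφ 1 R.one_mem 1 R.one_mem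
  have addi : ∀ φ, Add φ → ∀ a ∈ R, φ a⁻¹ = -φ a := fun φ hφ a ha => by
    have := hφ _ (R.inv_mem ha) a ha
    rw [inv_mul_cancel, add1 φ hφ] at this
    exact eq_neg_of_add_eq_zero_left this.symm
  let T : Module.End (ZMod p) (P → ZMod p) := LinearMap.funLeft (ZMod p) (ZMod p) fun y => u⁻¹ * y * u
  have cm : ∀ y ∈ R, u⁻¹ * y * u ∈ R := fun y hy => hR.conj_mem' y hy u
  have hT : ∀ (j : ℕ) (φ : P → ZMod p) y, (T ^ j) φ y = φ ((u ^ j)⁻¹ * y * u ^ j) := fun j => by
    induction j with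
    | zero => intro φ y; simp
    | succ j ih =>
      intro φ y
      rw [pow_succ, Module.End.mul_apply, ih]
      show φ _ = φ _
      congr 1; rw [pow_succ]; group
  let D : ℕ → P → ZMod p := fun k => ((T - 1) ^ k) ψ
  have hD : ∀ k y, D (k + 1) y = D k (u⁻¹ * y * u) - D k y := fun k y => by
    simp only [D]; rw [pow_succ', Module.End.mul_apply]; rfl
  have hDa : ∀ k, Add (D k) := fun k => by
    induction k with
    | zero => exact hψ
    | succ k ih =>
      intro a ha b hb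
      rw [hD, hD, hD, show u⁻¹ * (a * b) * u = (u⁻¹ * a * u) * (u⁻¹ * b * u) by group, ih _ (cm a ha) _ (cm b hb),
        ih a ha b hb]; ring
  have hD1 : D (p - 1) x ≠ 0 := by
    simp only [D]
    rw [(sub_one_pow_pred T).1, LinearMap.sum_apply, Finset.sum_apply]
    simpa only [hT] using h
  have hD0 : ∀ k, ∀ y ∈ R, D (p + k) y = 0 := fun k => by
    induction k with
    | zero =>
      intro y hy
      have hu : u ^ p ∈ R := hidx ▸ R.pow_index_mem u
      simp only [D]
      rw [add_zero, (sub_one_pow_pred T).2, LinearMap.sub_apply, Pi.sub_apply, hT,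
        hψ _ (R.mul_mem (R.inv_mem hu) hy) _ hu, hψ _ (R.inv_mem hu) _ hy, addi ψ hψ _ hu]
      simp
    | succ k ih => intro y hy; rw [← add_assoc, hD, ih _ (cm y hy), ih y hy, sub_self]
  let L : ℕ → Subgroup P := fun k =>
    { carrier := {y | y ∈ R ∧ ∀ i, k ≤ i → D i y = 0}
      mul_mem' := fun {a b} ha hb => ⟨R.mul_mem ha.1 hb.1, fun i hi => by
        rw [hDa i a ha.1 b hb.1, ha.2 i hi, hb.2 i hi, add_zero]⟩
      one_mem' := ⟨R.one_mem, fun i _ => add1 _ (hDa i)⟩
      inv_mem' := fun {a} ha => ⟨R.inv_mem ha.1, fun i hi => by rw [addi _ (hDa i) a ha.1, ha.2 i hi, neg_zero]⟩ }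
  have hy : ∀ m, ∃ y ∈ R, ∀ i, D i y = D (i + m) x := fun m => by
    induction m with
    | zero => exact ⟨x, hx, fun _ => rfl⟩
    | succ m ih =>
      obtain ⟨y, hy, e⟩ := ih
      refine ⟨y⁻¹ * (u⁻¹ * y * u), R.mul_mem (R.inv_mem hy) (cm y hy), fun i => ?_⟩
      rw [hDa i _ (R.inv_mem hy) _ (cm y hy), addi _ (hDa i) y hy, show i + (m + 1) = (i + 1) + m by ring, ← e, hD]
      ring
  have hL : ∀ k, k ≤ p → p ^ k * Nat.card (L 0) ≤ Nat.card (L k) := fun k => by
    induction k with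
    | zero => intro _; simp
    | succ k ih =>
      intro hk
      refine le_trans ?_ (mul_card_le_of_lt hP (A := L k) ⟨fun y hy => ⟨hy.1, fun i hi => hy.2 i (by omega)⟩, fun H => ?_⟩)
      · rw [pow_succ', mul_assoc]; exact Nat.mul_le_mul_left _ (ih (by omega))
      · obtain ⟨y, hy, e⟩ := hy (p - 1 - k)
        have : y ∈ L (k + 1) := ⟨hy, fun i hi => by
          rw [e, show i + (p - 1 - k) = p + (i - (k + 1)) by omega, hD0 _ x hx]⟩
        have := (H this).2 k le_rfl
        rw [e, show k + (p - 1 - k) = p - 1 by omega] at this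
        exact hD1 this
  let χ : R →* Multiplicative (ZMod p) := MonoidHom.mk' (fun y => Multiplicative.ofAdd (ψ y))
    fun a b => congrArg Multiplicative.ofAdd (hψ a a.2 b b.2)
  let K := χ.ker.map R.subtype
  have hK : K.index = p ^ 2 := by
    have h1 : χ.range = ⊤ := by
      haveI : Fact (Nat.card (Multiplicative (ZMod p))).Prime := ⟨by simpa using hp⟩
      refine (χ.range.eq_bot_or_eq_top_of_prime_card).resolve_left fun H => h (Finset.sum_eq_zero fun j _ => ?_)
      have : χ ⟨_, hR.conj_mem' x hx (u ^ j)⟩ = 1 := Subgroup.mem_bot.1 (H ▸ ⟨_, rfl⟩)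
      exact this
    rw [Subgroup.index_map_subtype, Subgroup.index_ker, h1, hidx, Subgroup.card_top, sq]
    simp
  let e : P ⧸ K ≃ Fin (p ^ 2) := Finite.equivFinOfCardEq hK
  let f₀ := (e.permCongrHom).toMonoidHom.comp (MulAction.toPermHom P (P ⧸ K))
  have hker : f₀.ker ≤ L 0 := by
    rw [MonoidHom.ker_comp_of_injective _ _ e.permCongrHom.injective, ← Subgroup.normalCore_eq_ker]
    have k1 : ∀ y ∈ K.normalCore, y ∈ R ∧ ψ y = 0 := fun y hy => by
      obtain ⟨z, hz, rfl⟩ := K.normalCore_le hy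
      exact ⟨z.2, hz⟩
    have : ∀ i, ∀ y ∈ K.normalCore, D i y = 0 := fun i => by
      induction i with
      | zero => exact fun y hy => (k1 y hy).2
      | succ i ih => intro y hy; rw [hD, ih y hy, ih _ (K.normalCore_normal.conj_mem' y hy u), sub_self]
    exact fun y hy => ⟨(k1 y hy).1, fun i _ => this i y hy⟩
  obtain ⟨Q, hQ⟩ := (hP.of_surjective _ f₀.rangeRestrict_surjective).exists_le_sylow
  have h1 : p ^ (p + 1) * Nat.card f₀.ker ≤ Nat.card f₀.range * Nat.card f₀.ker := by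
    rw [← Subgroup.index_ker, Subgroup.index_mul_card, ← R.index_mul_card, hidx, pow_succ', mul_assoc]
    exact Nat.mul_le_mul_left _ (((Nat.mul_le_mul_left _ (Subgroup.card_le_of_le hker)).trans (hL p le_rfl)).trans
      (Subgroup.card_le_of_le fun y hy => hy.1))
  have h2 := Subgroup.eq_of_le_of_card_ge hQ (by
    rw [card_sylow_perm_sq]; exact Nat.le_of_mul_le_mul_right h1 Nat.card_pos)
  exact ⟨Q, f₀.codRestrict _ fun y => hQ ⟨y, rfl⟩, fun ⟨z, hz⟩ => by
    obtain ⟨y, rfl⟩ := h2.ge hz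
    exact ⟨y, rfl⟩⟩

end H14.Fus
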