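/-
Yoshida's transfer theorem for saturated fusion systems.
-/
import Cfsg.Agent.H14.Tate
import Cfsg.Agent.H14.WrQuot

set_option autoImplicit false
set_option linter.unusedVariables false
set_option linter.unusedSectionVars false
set_option linter.style.haveILetI false
open Cfsg Cfsg.FusionSystem Equiv H13
open scoped commutatorElement

namespace H14.Fus
universe u v w
variable {Ω : Type u} [Group Ω] {S : Subgroup Ω} {F : FusionSystem S} {X : Type v} {ρ : Ω × Ω → Perm X}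
  {A : Type w} [CommGroup A] {p : ℕ} [Finite X]

theorem CB.T_fiber (h : CB F ρ) (χ : Ω → A) {ι : Type*} (s : Finset ι) (Z : ι → Set X) {Y : Set X}
    (H : ∀ ξ ∈ Y, ∃! i, i ∈ s ∧ ξ ∈ Z i) (t : Ω) : h.T χ Y t = ∏ i ∈ s, h.T χ (Y ∩ Z i) t := by
  classical
  unfold CB.T TD.V OP
  rw [Finset.prod_inv_distrib, Finset.prod_comm]
  refine congrArg _ (Finset.prod_congr rfl fun q _ => ?_)
  beta_reduce
  by_cases hq : q.out ∈ Y
  · obtain ⟨i, ⟨h1, h2⟩, h3⟩ := H _ hq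
    refine Eq.symm ((Finset.prod_eq_single_of_mem i h1 fun j hj e => ?_).trans ?_)
    · exact if_neg fun c => e (h3 j ⟨hj, c.2⟩)
    · rw [if_pos hq, if_pos (show _ ∈ Y ∩ Z i from ⟨hq, h2⟩)]
  · rw [if_neg hq]
    refine (Finset.prod_eq_one fun j _ => ?_).symm
    exact if_neg fun c => hq c.1

theorem CB.T_conj (h : CB F ρ) {χ : Ω → A} (hχ : HomOn S χ) {Y : Set X} (hY : InvSet (S.prod ⊥) ρ Y) {x b : Ω}
    (hx : x ∈ S) (hb : b ∈ S) (hYx : ∀ ξ, ρ (1, x) ξ ∈ Y ↔ ξ ∈ Y) :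
    h.T χ (ρ (1, b) ⁻¹' Y) (b⁻¹ * x * b) = h.T χ Y x := by
  have hx' : b⁻¹ * x * b ∈ S := S.mul_mem (S.mul_mem (S.inv_mem hb) hx) hb
  have e : ∀ ξ, ρ (1, b) (ρ (1, b⁻¹ * x * b) ξ) = ρ (1, x) (ρ (1, b) ξ) := fun ξ => by
    rw [← act_mul h.hom (one_mem_prod hb) (one_mem_prod hx'), ← act_mul h.hom (one_mem_prod hx) (one_mem_prod hb)]
    simp [mul_assoc]
  have e' : ∀ g ∈ S.prod (⊥ : Subgroup Ω), ∀ ξ, ρ (1, b) (ρ g ξ) = ρ g (ρ (1, b) ξ) := fun ⟨s, u⟩ hg ξ => by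
    obtain rfl : u = 1 := hg.2
    rw [← act_mul h.hom (one_mem_prod hb) (h.td.le hg), ← act_mul h.hom (h.td.le hg) (one_mem_prod hb)]
    simp
  have hp : ∀ l : X → A, Pot (S.prod ⊥) ρ (fun x => χ x.1) Y l →
      Pot (S.prod ⊥) ρ (fun x => χ x.1) (ρ (1, b) ⁻¹' Y) (fun ξ => l (ρ (1, b) ξ)) := fun l hl g hg ξ hξ =>
    (congrArg l (e' g hg ξ)).trans (hl g hg _ hξ)
  rw [h.T_eq hχ (fun g hg ξ hξ => by rw [Set.mem_preimage, e' g hg]; exact hY g hg _ hξ) hx'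
    (fun ξ => by rw [Set.mem_preimage, e, hYx]; rfl) (hp _ (h.pot hχ Y))]
  exact congrArg _ (h.td.V_comp hY (one_mem_prod hx) hYx (fun ν _ => by simp) (h.pot hχ Y) _
    (h.td.rel (one_mem_prod hb)) e)

theorem CB.exists_orb (h : CB F ρ) (χ : Ω → A) (t : Ω) : ∀ Y, InvSet (S.prod S) ρ Y → h.T χ Y t ≠ 1 →
    ∃ ξ ∈ Y, h.T χ (Orb (S.prod S) ρ ξ) t ≠ 1 := by
  refine orb_induction h.hom (fun e => absurd (h.T_empty χ t) e) fun Y ξ hY hξ ih e => ?_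
  rw [h.T_split χ Y (Orb (S.prod S) ρ ξ), Set.inter_eq_right.2 (hY.orb_subset hξ)] at e
  by_cases c : h.T χ (Orb (S.prod S) ρ ξ) t = 1
  · obtain ⟨η, h1, h2⟩ := ih (by rwa [c, one_mul] at e)
    exact ⟨η, h1.1, h2⟩
  · exact ⟨ξ, hξ, c⟩

theorem CB.stab_le (h : CB F ρ) {ξ : X} {R : Subgroup Ω} (hN : S ≤ Subgroup.normalizer (R : Set Ω))
    (H : ∀ s ∈ S, ∀ t ∈ S, ρ (s, t) ξ = ξ → t ∈ R) :
    ∀ η ∈ Orb (S.prod S) ρ ξ, ∀ s ∈ S, ∀ t ∈ S, ρ (s, t) η = η → t ∈ R := by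
  rintro _ ⟨⟨a, b⟩, hg, rfl⟩ s hs t ht e
  have h1 : a⁻¹ * s * a ∈ S := S.mul_mem (S.mul_mem (S.inv_mem hg.1) hs) hg.1
  have h2 : b⁻¹ * t * b ∈ S := S.mul_mem (S.mul_mem (S.inv_mem hg.2) ht) hg.2
  have := conj_mem_of_normalizer (hN hg.2) (H _ h1 _ h2 (by
    have e' := congrArg (ρ (a, b)⁻¹) e
    rw [act_inv h.hom hg, ← act_mul h.hom (g := (s, t)) ⟨hs, ht⟩ hg,
      ← act_mul h.hom (Subgroup.inv_mem _ hg) (Subgroup.mul_mem _ (x := (s, t)) ⟨hs, ht⟩ hg)] at e'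
    simpa [mul_assoc] using e'))
  simpa [mul_assoc] using this

variable [Finite S] [Fact p.Prime]

theorem CB.wreath_of_orb (h : CB F ρ) (hS : IsPGroup p S) {χ : Ω → Multiplicative (ZMod p)} (hχ : HomOn S χ)
    {Y : Set X} (hY : InvSet (S.prod S) ρ Y) {R : Subgroup Ω} (hR : R < S) (hN : S ≤ Subgroup.normalizer (R : Set Ω))
    (hi : R.relIndex S = p) (hg : ∀ u ∈ S, u ∉ R → R ⊔ Subgroup.zpowers u = S)
    (H : ∀ η ∈ Y, ∀ s ∈ S, ∀ t ∈ S, ρ (s, t) η = η → t ∈ R) {x : Ω} (hx : x ∈ R) (hT : h.T χ Y x ≠ 1) :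
    ∃ (W : Sylow p (Perm (Fin (p ^ 2)))) (f : S →* ↥(W : Subgroup (Perm (Fin (p ^ 2))))), Function.Surjective f := by
  obtain ⟨Q, _, π, hπ, hk, hs⟩ := exists_quot_hom hR.le hN
  obtain ⟨u, hu, hu'⟩ := SetLike.exists_of_lt hR
  haveI hRn : (R.subgroupOf S).Normal := (normal_subgroupOf_iff hR.le).2 hN
  have ho : orderOf (π u) = p := orderOf_eq_prime (by
    rw [← hπ.map_pow hu, hk _ (S.pow_mem hu p)]
    have := (R.subgroupOf S).pow_index_mem ⟨u, hu⟩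
    rwa [show (R.subgroupOf S).index = p from hi] at this) fun e => hu' ((hk u hu).1 e)
  have hfo : IsOfFinOrder (π u) := orderOf_pos_iff.1 (ho ▸ (Fact.out : p.Prime).pos)
  have hq : ∀ q : Q, ∃! j, j ∈ Finset.range p ∧ q = π u ^ j := fun q => by
    classical
    obtain ⟨s, hs', rfl⟩ := hs q
    rw [← hg u hu hu'] at hs'
    obtain ⟨r, hr, _, ⟨k, rfl⟩, rfl⟩ := (mem_sup_of_normalizes' ((Subgroup.zpowers_le.2 hu).trans hN)).1 hs'
    have : π (r * u ^ k) ∈ Subgroup.zpowers (π u) := by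
      rw [hπ.map_mul (hR.le hr) (S.zpow_mem hu k), (hk r (hR.le hr)).2 hr, one_mul, hπ.map_zpow hu]
      exact ⟨k, rfl⟩
    rw [hfo.mem_zpowers_iff_mem_range_orderOf, ho] at this
    obtain ⟨j, hj, e⟩ := Finset.mem_image.1 this
    refine ⟨j, ⟨hj, e.symm⟩, fun i hi => pow_injOn_Iio_orderOf (x := π u) ?_ ?_ (hi.2.symm.trans e.symm)⟩
    · rw [ho]; exact Finset.mem_range.1 hi.1
    · rw [ho]; exact Finset.mem_range.1 hj
  obtain ⟨l, hl⟩ := exists_potential h.hom (χ := fun g : Ω × Ω => π g.2) (fun a ha b hb => hπ _ ha.2 _ hb.2) hY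
    fun η hη g hg e => (hk _ hg.2).2 (H η hη g.1 hg.1 g.2 hg.2 e)
  have inv : ∀ q : Q, InvSet (S.prod R) ρ (Y ∩ {η | l η = q}) := fun q g hg η hη =>
    ⟨hY g ⟨hg.1, hR.le hg.2⟩ η hη.1, by
      rw [Set.mem_ofPred_eq, hl g ⟨hg.1, hR.le hg.2⟩ η hη.1, (hk _ (hR.le hg.2)).2 hg.2, one_mul]; exact hη.2⟩
  have hψ := h.homOn_T hχ ((inv 1).mono (Subgroup.prod_mono le_rfl bot_le)) hR.le
    fun t ht η hη => inv 1 (1, t) ⟨S.one_mem, ht⟩ η hη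
  rw [h.T_fiber χ (Finset.range p) (fun j => {η | l η = π u ^ j}) (fun η _ => hq (l η))] at hT
  refine exists_wreath_quot hS (R.subgroupOf S) hi (fun y => Multiplicative.toAdd (h.T χ (Y ∩ {η | l η = 1}) y))
    (fun a ha b hb => congrArg Multiplicative.toAdd (hψ _ ha _ hb)) (x := ⟨x, hR.le hx⟩) (u := ⟨u, hu⟩) hx fun e => hT ?_
  rw [← toAdd_prod, toAdd_eq_zero] at e
  rw [← e]
  refine Finset.prod_congr rfl fun j _ => ?_
  rw [← h.T_conj hχ ((inv _).mono (Subgroup.prod_mono le_rfl bot_le)) (hR.le hx) (S.pow_mem hu j)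
    ((inv _).iff (h.hom.mono (Subgroup.prod_mono le_rfl hR.le)) (g := (1, x)) ⟨S.one_mem, hx⟩)]
  congr 1
  ext η
  have h1 := hY.iff h.hom (one_mem_prod (S.pow_mem hu j)) η
  refine ⟨fun c => ⟨h1.1 c.1, ?_⟩, fun c => ⟨h1.2 c.1, ?_⟩⟩
  · have := c.2
    rwa [Set.mem_ofPred_eq, hl _ (one_mem_prod (S.pow_mem hu j)) η (h1.1 c.1), hπ.map_pow hu, mul_eq_left] at this
  · rw [Set.mem_ofPred_eq, hl _ (one_mem_prod (S.pow_mem hu j)) η c.1, hπ.map_pow hu, show l η = 1 from c.2, mul_one]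

theorem exists_char_of_lt (hS : IsPGroup p S) {K : Subgroup Ω} (hK : K < S) :
    ∃ χ : Ω → Multiplicative (ZMod p), HomOn S χ ∧ (∀ x ∈ K, χ x = 1) ∧ ∃ x ∈ S, χ x ≠ 1 := by
  obtain ⟨M, a1, a2, a3, a4, a5⟩ := exists_max_sub hS hK
  obtain ⟨u, hu, hu'⟩ := SetLike.exists_of_lt a2
  obtain ⟨A, _, π, hπ, hk, hs⟩ := exists_ab (comm_le_of_cyclic a2.le a3 (a5 u hu hu') (s := M) (by simp) a2.le
    fun x hx y hy => comm_le_of_normalizer a3 (Subgroup.commutator_mem_commutator hx hy)) a2.le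
  haveI hRn : (M.subgroupOf S).Normal := (normal_subgroupOf_iff a2.le).2 a3
  obtain ⟨ψ, hψ⟩ := exists_zmod_char (p := p) (B := A) (fun b => by
    obtain ⟨y, hy, rfl⟩ := hs b
    rw [← hπ.map_pow hy, hk _ (S.pow_mem hy p)]
    have := (M.subgroupOf S).pow_index_mem ⟨y, hy⟩
    rwa [show (M.subgroupOf S).index = p from a4] at this) (z := π u) fun e => hu' ((hk u hu).1 e)
  exact ⟨_, homOn_map hπ ψ, fun x hx => by rw [(hk x (hK.le hx)).2 (a1 hx), map_one], u, hu, hψ⟩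

theorem pow_ne_one_zmod {a : Multiplicative (ZMod p)} (ha : a ≠ 1) {n : ℕ} (hn : ¬ p ∣ n) : a ^ n ≠ 1 := fun e =>
  ha ((IsPGroup.powEquiv' (G := Multiplicative (ZMod p)) (IsPGroup.of_card (n := 1) (by simp)) hn).injective
    (e.trans (one_pow _).symm))

/-- Yoshida's theorem -/
theorem yoshida (hS : IsPGroup p S) (hF : F.IsSaturated p) {W : Subgroup Ω} (hW : W < F.focalSubgroup)
    (h : ∀ f, Mor F S f → ∀ x ∈ S, x⁻¹ * f x ∈ W) :
    ∃ (W : Sylow p (Perm (Fin (p ^ 2)))) (f : S →* ↥(W : Subgroup (Perm (Fin (p ^ 2))))), Function.Surjective f := by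
  have hWS := hW.le.trans (foc_le F)
  have h1 : ⁅S, S⁆ ≤ W := Subgroup.commutator_le.2 fun a ha b hb => by
    simpa [commutatorElement_def, mul_assoc] using h _ (mor_conj F le_rfl hb) a⁻¹ (S.inv_mem ha)
  obtain ⟨C, hC, e1, e2, -⟩ := exists_focal_compl hS hF
  obtain ⟨χ₀, hχ₀, k0, x₀, hx₀, hne⟩ := exists_char_of_lt hS (lt_of_le_of_ne (sup_le hC hWS) fun e => hW.not_ge
    ((dedekind (hC.trans (le_normalizer_of_comm h1 hWS)) hW.le (e ▸ foc_le F)).trans (sup_le le_rfl (e1 ▸ h1))))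
  obtain ⟨y, hy, hy'⟩ : ∃ y ∈ F.focalSubgroup, χ₀ y ≠ 1 := by
    by_contra! c
    have : S ≤ pre S χ₀ ⊥ := e2.ge.trans (sup_le (fun x hx => (mem_ker hχ₀).2 ⟨hC hx, k0 x (Subgroup.mem_sup_left hx)⟩)
      fun x hx => (mem_ker hχ₀).2 ⟨foc_le F hx, c x hx⟩)
    exact hne ((mem_ker hχ₀).1 (this hx₀)).2
  obtain ⟨X, _, ρ, h', hn, hn'⟩ := exists_cb_n hS hF
  have hT := h'.homOn_T_univ hχ₀
  have hχ := homOn_mul (homOn_pow hχ₀ (h'.n Set.univ)) (homOn_inv hT)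
  set χ := fun x => χ₀ x ^ h'.n Set.univ * (h'.T χ₀ Set.univ x)⁻¹ with hχ'
  have kW : ∀ x ∈ W, χ x = 1 := fun x hx => by
    simp only [hχ', k0 x (Subgroup.mem_sup_right hx), h'.T_foc hχ₀ (hW.le hx), one_pow, inv_one, mul_one]
  have T1 : ∀ t ∈ S, h'.T χ Set.univ t = 1 := fun t ht => by
    rw [hχ', h'.T_mul (homOn_pow hχ₀ _) (homOn_inv hT) invSet_univ ht (fun _ => Iff.rfl),
      h'.T_stable (homOn_inv hT) (fun x hx => by rw [h'.T_foc hχ₀ hx, inv_one]) ht]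
    have := h'.map_T hχ₀ (powMonoidHom (h'.n Set.univ)) invSet_univ ht (fun _ => Iff.rfl)
    simp only [powMonoidHom_apply] at this
    rw [← this, inv_pow, mul_inv_cancel]
  have hex : ∃ n, ∃ x ∈ S, χ x ≠ 1 ∧ orderOf x = n := ⟨_, y, foc_le F hy, by
    simpa only [hχ', h'.T_foc hχ₀ hy, inv_one, mul_one] using pow_ne_one_zmod hy' hn', rfl⟩
  classical
  obtain ⟨x, hx, hx1, hx2⟩ := Nat.find_spec hex
  have hmin : ∀ s ∈ S, orderOf s < orderOf x → χ s = 1 := fun s hs c => by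
    by_contra c'
    exact Nat.find_min hex (hx2 ▸ c) ⟨s, hs, c', rfl⟩
  have hTop : h'.T χ (TopSet S ρ) x = χ x ^ h'.n (TopSet S ρ) :=
    h'.T_cyc hχ (h'.invSet_top.mono h'.td.le) hx (h'.invSet_top.iff h'.hom (one_mem_prod hx)) fun ξ hξ s hs k e => by
      obtain ⟨P, φ, hφ, H⟩ := h'.stab ξ
      obtain rfl : P = S := le_antisymm hφ.le fun t ht => by
        obtain ⟨s, hs, e⟩ := hξ t ht
        exact ((H s hs t ht).1 e).1
      obtain ⟨hk, rfl⟩ := (H s hs _ (P.zpow_mem hx k)).1 e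
      have := kW _ (h φ hφ _ hk)
      rw [hχ.map_mul (P.inv_mem hk) (hφ.mem hk), hχ.map_inv hk, inv_mul_eq_one] at this
      rw [← this, hχ.map_zpow hx]
  obtain ⟨ξ, hξ, hO⟩ := h'.exists_orb χ x _ (invSet_univ.diff h'.hom h'.invSet_top) fun e => by
    have := T1 x hx
    rw [h'.T_split χ _ (TopSet S ρ), e, mul_one, Set.univ_inter, hTop] at this
    exact pow_ne_one_zmod hx1 hn this
  obtain ⟨P, φ, hφ, H⟩ := h'.stab ξ
  obtain ⟨R, a1, a2, a3, a4, a5⟩ := exists_max_sub hS (lt_of_le_of_ne hφ.le (by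
    rintro rfl
    exact hξ.2 fun t ht => ⟨φ t, hφ.mem ht, (H _ (hφ.mem ht) t ht).2 ⟨ht, rfl⟩⟩))
  have hst := h'.stab_le a3 fun s hs t ht e => a1 ((H s hs t ht).1 e).1
  have hI := invSet_orb h'.hom ξ
  by_cases hxR : x ∈ R
  · exact h'.wreath_of_orb hS hχ hI a2 a3 a4 a5 hst hxR hO
  refine absurd ((h'.T_cyc hχ (hI.mono h'.td.le) hx (hI.iff h'.hom (one_mem_prod hx)) (b := 1)
    fun η hη s hs k e => ?_).trans (one_pow _)) hO
  obtain ⟨P', φ', hφ', H'⟩ := h'.stab η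
  obtain ⟨hk, rfl⟩ := (H' s hs _ (S.zpow_mem hx k)).1 e
  rw [one_zpow]
  refine hmin _ hs ?_
  haveI := finite_of_le (Subgroup.zpowers_le.2 hx)
  rw [mor_orderOf hφ' hk, ← Nat.card_zpowers, ← Nat.card_zpowers]
  exact card_lt_of_lt (lt_of_le_of_ne (Subgroup.zpowers_le.2 ⟨k, rfl⟩) fun c =>
    hxR (Subgroup.zpowers_le.1 (c ▸ Subgroup.zpowers_le.2 (hst η hη _ hs _ (S.zpow_mem hx k) e))))

end H14.Fus
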