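import Cfsg.Agent.H14.Comp

/-! Lifting normal subsystems through central quotients; constrained systems and components. -/

set_option autoImplicit false
set_option linter.unusedSectionVars false
set_option linter.unusedVariables false

namespace H14.Fus

open Equiv Cfsg Cfsg.FusionSystem H13

variable {Ω : Type*} [Group Ω] {S T : Subgroup Ω} {F : FusionSystem S} {E : FusionSystem T} {p : ℕ}
  [Finite S]

omit [Finite S] in
theorem nk_kres_bot {U V : Subgroup Ω} (hUV : U ≤ V) {g : Ω} :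
    g ∈ NK S V (Kres U ⊥) ↔ g ∈ centralizerIn S U ∧ g ∈ Subgroup.normalizer (V : Set Ω) := by
  rw [mem_nk, mem_kres_bot]
  exact ⟨fun h => ⟨⟨h.1.1, fun x hx => by
    have := h.2 x hx
    rw [cr_apply h.1.2 (hUV hx), mul_inv_eq_iff_eq_mul] at this
    exact this.symm⟩, h.1.2⟩, fun h => ⟨⟨h.1.1, h.2⟩, fun x hx => by
      rw [cr_apply h.2 (hUV hx), ← h.1.2 x hx, mul_inv_cancel_right]⟩⟩

theorem fullyKNorm_kres_bot {U V : Subgroup Ω} (hU : F.IsFullyCentralized U) (hUV : U ≤ V)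
    (hV : V ≤ S) (hN : centralizerIn S U ≤ Subgroup.normalizer (V : Set Ω)) :
    FullyKNorm F V (Kres U ⊥) := by
  refine ⟨hV, fun V' σ hσ => ?_⟩
  have h1 := hσ.1.iso_of_le hUV
  rw [(maps_kres h1.2).img_eq, img_cj_bot]
  have := finite_of_le (centralizerIn_le S (img σ U))
  have := finite_of_le (nk_le' S V (Kres U ⊥))
  exact (card_le_of_le fun g hg => ((nk_kres_bot ((h1.2.le_iff hσ.2).1 hUV)).1 hg).1).trans
    (((fullyCentralized_iff.1 hU).2 _ σ h1).trans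
      (card_le_of_le fun g hg => (nk_kres_bot hUV).2 ⟨hg, hN hg⟩))

omit [Finite S] in
theorem autBy_inf_kres_bot {U V : Subgroup Ω} (hUV : U ≤ V) :
    AutBy S V ⊓ Kres U ⊥ ≤ AutBy (centralizerIn S U) V := fun κ hκ => by
  obtain ⟨g, a1, a2, rfl⟩ := mem_autBy.1 hκ.1
  exact cr_mem_autBy ((nk_kres_bot hUV).1 (mem_nk.2 ⟨⟨a1, a2⟩, hκ.2⟩)).1 a2

variable [Fact p.Prime]

/-- lifting `p'`-automorphisms of a normal subsystem at arbitrary fully normalized subgroups -/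
theorem exists_lift_nc (hS : IsPGroup p S) (hF : F.IsSaturated p) (hE : E.IsNormalIn F p)
    {U : Subgroup Ω} (hU : U ≤ T) (hn : F.IsFullyCentralized U) {α : Perm Ω} (hα : α ∈ AutF E U)
    (hc : (orderOf α).Coprime p) : ∃ β ∈ AutF F (U ⊔ centralizerIn S U), (orderOf β).Coprime p ∧
      (∀ x ∈ U, β x = α x) ∧ (∀ x ∈ U ⊔ centralizerIn S U, x⁻¹ * β x ∈ U ⊔ centralizerIn T U) ∧
      Mor E (U ⊔ centralizerIn T U) β := by
  have hI := nrm_inv hE
  have hT := hI.le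
  have := finite_of_le hT
  have hp : IsPGroup p T := hS.to_le hT
  set V := U ⊔ centralizerIn T U with hV
  have hVT : V ≤ T := sup_le hU (centralizerIn_le _ _)
  have hVS := hVT.trans hT
  have hUV : U ≤ V := le_sup_left
  have v1 := tc_sup_centralizerIn hS hF hI.sc hU hn
  have hn' := sub_fullyCentralized hS hF hI.sc hI.sub hU hn
  obtain ⟨τ, a1, a2⟩ := extend_centralizer hp (nrm_sat hE) hn' (iso_of_mem_autF hU hα)
  have a3 := (maps_of_mem_autF hα).congr fun x hx => (a2 x hx).symm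
  have a4 := (maps_sup_centralizerIn a1 a3).2
  have hCN : centralizerIn S U ≤ Subgroup.normalizer (V : Set Ω) := fun c hc =>
    normalizer_sup_cent (sc_le_normalizer hI.sc hc.1) (centralizer_le_normalizer' _ hc.2)
  have s1 := (fullyKNorm_kres_bot hn hUV hVS hCN).aut hS hF
  have s2 := (fullyKNorm_kres_bot hn' hUV hVT ((centralizerIn_mono hT le_rfl).trans hCN)).aut hp
    (nrm_sat hE)
  have := finite_autF_of_le F hVS
  have := finite_autF_of_le E hVT
  set P := AutBy S V ⊓ Kres U ⊥ with hP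
  set K := AutF E V ⊓ Kres U ⊥ with hK
  have k1 : K ≤ AutF F V ⊓ Kres U ⊥ := inf_le_inf_right _ (hI.autF_le hVT)
  have k0 : ∀ g ∈ stab U, g ∈ Subgroup.normalizer ((Kres U ⊥ : Subgroup (Perm Ω)) : Set (Perm Ω)) :=
    fun g hg => maps_cj_iff.1 (by simpa only [img_cj_bot] using maps_kres (K := ⊥) hg)
  have k2 : ∀ g ∈ AutF F V, g ∈ stab U → g ∈ Subgroup.normalizer (K : Set (Perm Ω)) :=
    fun g h1 h2 => normalizer_inf (hI.autF_normal hVT h1) (k0 g h2)
  have k3 : P ≤ Subgroup.normalizer (K : Set (Perm Ω)) := fun g hg =>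
    k2 g (s1.le hg).1 (mem_kres.1 hg.2).1
  have k4 : ∀ g ∈ AutF E V, g ∈ stab U → ∀ x ∈ P, g * x * g⁻¹ * x⁻¹ ∈ K := fun g h1 h2 x hx =>
    ⟨by
      have := Subgroup.mul_mem _ h1 (conj_mem_of_normalizer (hI.autF_normal hVT (s1.le hx).1)
        (Subgroup.inv_mem _ h1))
      rwa [← mul_assoc, ← mul_assoc] at this,
    Subgroup.mul_mem _ (conj_mem_of_normalizer (k0 g h2) hx.2) (Subgroup.inv_mem _ hx.2)⟩
  have := finite_of_le (inf_le_left : AutF F V ⊓ Kres U ⊥ ≤ _)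
  have k5 : K ⊔ P ≤ AutF F V ⊓ Kres U ⊥ := sup_le k1 s1.le
  have := finite_of_le k5
  have b0 : rs V τ ∈ stab U := a3.congr fun x hx => (rs_apply a4.2 (hUV hx)).symm
  obtain ⟨n, hn1, hn2⟩ := (s1.mono le_sup_right k5).frattini (g := rs V τ)
    (normalizer_of_finite fun x hx => by
      obtain ⟨k, hk, y, hy, rfl⟩ := (mem_sup_of_normalizes' k3).1 hx
      rw [show rs V τ * (k * y) * (rs V τ)⁻¹ = rs V τ * k * (rs V τ)⁻¹ *
        (rs V τ * y * (rs V τ)⁻¹ * y⁻¹) * y by group]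
      exact Subgroup.mul_mem_sup (Subgroup.mul_mem _ (conj_mem_of_normalizer
        (k2 _ (hI.autF_le hVT a4.rs_mem) b0) hk) (k4 _ a4.rs_mem b0 y hy)) hy)
  rw [sup_comm] at hn1
  obtain ⟨y, hy, k, hk, rfl⟩ := (mem_sup_of_normalizes k3).1 hn1
  rw [mul_assoc] at hn2
  replace hn2 := (Subgroup.mul_mem_cancel_left _ (Subgroup.le_normalizer hy)).1 hn2
  have b1 := Subgroup.mul_mem _ hk.1 a4.rs_mem
  obtain ⟨m, c1, c2⟩ := (iso_of_mem_autF hVT b1).exists_coprime_pow hUV hα (fun x hx => by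
    rw [mul_ap, rs_apply a4.2 (hUV hx), mem_kres_bot.1 hk.2 _ (a3.mem hx), a2 x hx]) hc
  rw [rs_eq_self (maps_of_mem_autF b1) (fix_of_mem_autF b1)] at c1 c2
  have c3 := Subgroup.pow_mem _ b1 m
  have c4 := Subgroup.pow_mem _ hn2 m
  have c5 : (k * rs V τ) ^ m ∈ stab U := (maps_of_mem_autF hα).congr fun x hx => (c2 x hx).symm
  have c6 : P ⊓ K ≤ AutBy V V := by
    rw [s2.eq_of_le (s1.isPGroup.to_le inf_le_left) inf_le_right
      (le_inf (inf_le_inf_right _ (autBy_mono hT V)) s2.le)]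
    exact (autBy_inf_kres_bot hUV).trans (autBy_mono le_sup_right V)
  obtain ⟨γ, d1, d2, d3, d4⟩ := xg_extend hS hF hVS (autF_le_xg hS hF hE V v1 c3) c1
    (C := centralizerIn S U) (fun c hc => ⟨hc.1, hCN hc⟩) fun c hc => by
      have e1 : cr V c ∈ P := ⟨cr_mem_autBy hc.1 (hCN hc),
        (mem_nk.1 ((nk_kres_bot hUV).2 ⟨hc, hCN hc⟩)).2⟩
      exact c6 ⟨Subgroup.mul_mem _ (conj_mem_of_normalizer c4 e1) (Subgroup.inv_mem _ e1),
        k4 _ c3 c5 _ e1⟩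
  have e : V ⊔ centralizerIn S U = U ⊔ centralizerIn S U := by
    rw [hV, sup_assoc, sup_eq_right.2 (centralizerIn_mono hT le_rfl)]
  rw [e] at d1 d4
  exact ⟨γ, d1, d2, fun x hx => by rw [d3 x (hUV hx), c2 x hx], d4,
    (iso_of_mem_autF hVT c3).1.congr fun x hx => (d3 x hx).symm⟩

section lift

variable {Ω' : Type*} [Group Ω'] {S' T' : Subgroup Ω'} {D : FusionSystem S'} {E' : FusionSystem T'}
  {θ : Ω → Ω'}

/-- automorphisms inducing automorphisms of `E'` -/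
noncomputable def LY (F : FusionSystem S) (E' : FusionSystem T') (θ : Ω → Ω') (U : Subgroup Ω) :
    Subgroup (Perm Ω) := pre (AutF F U) (ind θ U) (AutF E' (img θ U))

theorem mem_ly' (h : FHom F D θ) {U : Subgroup Ω} (hU : U ≤ S) {α : Perm Ω} :
    α ∈ LY F E' θ U ↔ α ∈ AutF F U ∧ ind θ U α ∈ AutF E' (img θ U) := (h.homOn_ind hU).mem_pre

theorem mem_ly (h : FHom F D θ) {U : Subgroup Ω} {α : Perm Ω} (hα : α ∈ AutF F U) (hU : U ≤ S)
    {f : Ω' → Ω'} (h1 : Mor E' (img θ U) f) (h2 : ∀ x ∈ U, f (θ x) = θ (α x)) :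
    α ∈ LY F E' θ U := by
  obtain ⟨a1, a2⟩ := h.ind_spec hU hα
  refine (mem_ly' h hU).2 ⟨hα, (mem_autF h1.le).2 ⟨⟨h1.congr fun y hy => ?_, maps_of_mem_autF a1⟩,
    fix_of_mem_autF a1⟩⟩
  obtain ⟨x, hx, rfl⟩ := (h.hom.mono hU).mem_img.1 hy
  rw [h2 x hx, a2 x hx]

theorem conj_ly (h : FHom F D θ) (hI : Inv E' D) {U U' : Subgroup Ω} (hU : img θ U ≤ T')
    {σ α : Perm Ω} (hσ : Iso F U U' σ) (hα : α ∈ LY F E' θ U) : σ * α * σ⁻¹ ∈ LY F E' θ U' := by
  obtain ⟨a1, a2⟩ := (mem_ly' h hσ.le).1 hα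
  obtain ⟨σ', b1, b2⟩ := h.iso_down hσ
  refine mem_ly h (hσ.conj_mem_autF a1) hσ.le'
    (iso_of_mem_autF (iso_le_of_sc hI.sc b1 hU) (hI.conj_autF hU a2 b1)).1 fun x hx => ?_
  have c1 := hσ.inv_mem hx
  rw [mul_ap, mul_ap, mul_ap, mul_ap, ← b2 _ ((maps_of_mem_autF a1).mem c1),
    ← (h.ind_spec hσ.le a1).2 _ c1, ← inv_ap σ' (θ (σ⁻¹ x)), b2 _ c1, ap_inv]

theorem pElt_of_ind_eq (hS : IsPGroup p S) (h : FHom F D θ) (hZ : F.IsCentral (pre S θ ⊥))
    {U : Subgroup Ω} (hU : U ≤ S) (hZU : pre S θ ⊥ ≤ U) {κ : Perm Ω} (hκ : κ ∈ AutF F U)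
    (e : ∀ x ∈ U, θ (κ x) = θ x) : ∃ k, κ ^ p ^ k = 1 :=
  pow_eq_one_of_triv hS hU hZU hκ
    (fun x hx => H13.central_fix hZ (iso_of_mem_autF hU hκ).1 (hZU hx) hx) fun x hx => by
      have a1 := hU ((maps_of_mem_autF hκ).mem hx)
      exact (mem_ker h.hom).2 ⟨S.mul_mem (S.inv_mem (hU hx)) a1,
        (homOn_eq_iff h.hom (hU hx) a1).1 (e x hx).symm⟩

theorem mem_pre_cent (h : FHom F D θ) {R U U' : Subgroup Ω} {τ : Perm Ω} (hτ : Mor F R τ)
    (hU : U ≤ R) (hm : Maps U U' τ) {c : Ω} (hc : c ∈ R)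
    (hc' : c ∈ pre S θ (centralizerIn S' (img θ U))) :
    τ c ∈ pre S θ (centralizerIn S' (img θ U')) := by
  obtain ⟨σ, a1, a2⟩ := h.iso_down hτ.iso
  obtain ⟨σ', b1, b2⟩ := h.iso_down (hτ.iso.restrict hU hm)
  refine h.hom.mem_pre.2 ⟨hτ.mem hc, ?_⟩
  rw [← a2 c hc]
  refine a1.1.mem_centralizerIn (img_mono θ hU) (b1.2.congr fun y hy => ?_) (mem_img_of_mem θ hc)
    (h.hom.mem_pre.1 hc').2.2
  obtain ⟨x, hx, rfl⟩ := (h.hom.mono (hU.trans hτ.le)).mem_img.1 hy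
  rw [a2 x (hU hx), b2 x hx]

theorem pre_cent_comm (h : HomOn S θ) {U : Subgroup Ω} (hU : U ≤ S) {c : Ω}
    (hc : c ∈ pre S θ (centralizerIn S' (img θ U))) {x : Ω} (hx : x ∈ U) :
    θ (c * x * c⁻¹) = θ x := by
  obtain ⟨a1, a2⟩ := h.mem_pre.1 hc
  rw [h.map_conj a1 (hU hx), ← a2.2 _ (mem_img_of_mem θ hx), mul_inv_cancel_right]

theorem mem_of_img_mem (h : HomOn S θ) {U : Subgroup Ω} (hU : U ≤ S) (hZU : pre S θ ⊥ ≤ U) {x : Ω}
    (hx : x ∈ S) (h1 : θ x ∈ img θ U) : x ∈ U :=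
  pre_img_of_le h hU hZU ▸ h.mem_pre.2 ⟨hx, h1⟩

theorem pre_cent_le (h : HomOn S θ) {U : Subgroup Ω} (hU : U ≤ S) (hZU : pre S θ ⊥ ≤ U) :
    pre S θ (centralizerIn S' (img θ U)) ≤ normalizerIn S U := fun c hc => by
  have := finite_of_le hU
  have a1 := pre_le _ _ _ hc
  exact ⟨a1, normalizer_of_finite fun x hx => mem_of_img_mem h hU hZU
    (S.mul_mem (S.mul_mem a1 (hU hx)) (S.inv_mem a1))
    (pre_cent_comm h hU hc hx ▸ mem_img_of_mem θ hx)⟩

theorem pre_cent_le_nphi (hS : IsPGroup p S) (hF : F.IsSaturated p) (h : FHom F D θ)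
    (hZ : F.IsCentral (pre S θ ⊥)) {U : Subgroup Ω} (hn : F.IsFullyNormalized U)
    (hZU : pre S θ ⊥ ≤ U) {α : Perm Ω} (hα : α ∈ AutF F U) :
    pre S θ (centralizerIn S' (img θ U)) ≤ Nphi S U α := fun c hc => by
  have hU := hn.1
  have a1 := pre_cent_le h.hom hU hZU hc
  refine (mem_nphi_iff hU (maps_of_mem_autF hα)).2 ⟨a1, (fn_syl hS hF hn).op_le
    (conj_mem_of_normalizer (le_normalizer_op p _ hα) ?_)⟩
  have hh := h.homOn_ind hU
  have a2 := cr_mem_autF F hU a1.1 a1.2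
  refine le_op (T := pre (AutF F U) (ind θ U) ⊥) (pre_le _ _ _) (isPGroup_iff_mem.2 fun κ hκ => ?_)
    (ker_normal hh) ((mem_ker hh).2 ⟨a2, (h.ind_eq_one_iff hU a2).2 fun x hx => ?_⟩)
  · obtain ⟨b1, b2⟩ := (mem_ker hh).1 hκ
    exact pElt_of_ind_eq hS h hZ hU hZU b1 ((h.ind_eq_one_iff hU b1).1 b2)
  · rw [cr_apply a1.2 hx, pre_cent_comm h.hom hU hc hx]

theorem ly_foc (hS : IsPGroup p S) (hF : F.IsSaturated p) (h : Fac F D θ)
    (hZ : F.IsCentral (pre S θ ⊥)) (hE : E'.IsNormalIn D p) {U : Subgroup Ω}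
    (hU : U ≤ pre S θ T') (hZU : pre S θ ⊥ ≤ U) (hn : F.IsFullyNormalized U) :
    AutBy S U ⊓ OUp p (LY F E' θ U) ≤ AutBy (pre S θ T') U := by
  have := h.finite
  have hI := nrm_inv hE
  have hf := h.fHom
  have hT := h.sc_pre hI.sc
  have hp := h.isPGroup hS
  have hUS := hn.1
  have hU' : img θ U ≤ T' := (le_pre_iff h.hom hUS).1 hU
  have hn' := (h.fn_img_iff hUS hZU).2 hn
  set C := pre S θ (centralizerIn S' (img θ U)) with hC
  set W := U ⊔ C with hW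
  have hWS : W ≤ S := sup_le hUS (pre_le _ _ _)
  have := finite_of_le hWS
  have hUW : U ≤ W := le_sup_left
  have w1 : ∀ {R : Subgroup Ω} {τ : Perm Ω}, Mor F R τ → W ≤ R → Maps U U τ → Iso F W W τ :=
    fun {R τ} a1 a2 a3 => (a1.restrict a2).iso_self (img_le_iff.1 (by
      rw [(a1.hom.mono a2).img_sup, a3.img_eq]
      exact sup_le_sup_left (img_le_iff.2 fun c hc => mem_pre_cent hf a1 (hUW.trans a2) a3
        (a2 (Subgroup.mem_sup_right hc)) hc) _))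
  have hK := fullyKNorm_stab hn hUW hWS fun g hg =>
    maps_cj_iff.1 (w1 (mor_cj F le_rfl hg.1) hWS (maps_cj_iff.2 hg.2)).2
  have hY : AutF F U ≤ Subgroup.normalizer ((LY F E' θ U : Subgroup (Perm Ω)) : Set (Perm Ω)) :=
    le_normalizer_iff.2 fun g hg x hx => conj_ly hf hI hU' (iso_of_mem_autF hUS hg) hx
  set B := AutF F W ⊓ stab U ⊓ (H13.trivMod W (pre S θ T') ⊓ Kres U (LY F E' θ U)) with hB
  have hN : AutF F W ⊓ stab U ≤ Subgroup.normalizer (B : Set (Perm Ω)) := fun g hg =>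
    normalizer_inf (Subgroup.le_normalizer hg) (normalizer_inf (trivMod_normal_sc hT hWS hg.1)
      (kres_normal hUW hWS hY hg))
  have key := (autBy_inf_img_oUp_le hS hF hUW hT.1 hK (B := B) inf_le_left hN
    fun r R τ γ a1 a2 a3 a4 a5 a6 a7 => by
      have b1 := normalizer_of_maps_cr hUW a3.2 a4.1.2
      have b2 := (mem_kres.1 a4.2.2).2
      rw [rs_cr hUW b1 a3.2] at b2
      have b3 := ((mem_ly' hf hUS).1 b2).2
      rw [ind_cr h.hom hUS a3.1 b1] at b3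
      have b4 := mem_normalizer_img h.hom hUS a3.1 b1
      obtain ⟨t', c1, c2⟩ := exists_of_cr_mem hI.le ⟨h.mem a3.1, b4⟩
        (hI.autBy_inf hp (nrm_sat' hE) (nrm_sat hE) hU' hn' ⟨cr_mem_autBy (h.mem a3.1) b4, b3⟩)
      obtain ⟨t, c3, rfl⟩ := h.exists_pre hI.le c1.1
      have c4 := pre_le _ _ _ c3
      refine triv_of_mem_sup hT a1 a5 (fun x hx => a7 x hx ▸ (H13.mem_trivMod.1 a6.2.1).2 x hx) a2 c3
        (Subgroup.mem_sup_right (h.hom.mem_pre.2 ⟨S.mul_mem (S.inv_mem c4) a3.1, ?_⟩))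
      rwa [h.hom.map_mul (S.inv_mem c4) a3.1, h.hom.map_inv c4]).2
  refine le_trans (inf_le_inf_left _ (oUp_le_iff.2 fun α hα hc => ?_)) key
  obtain ⟨a1, a2⟩ := (mem_ly' hf hUS).1 hα
  have hh := hf.homOn_ind hUS
  obtain ⟨β', b1, -, b2, b3, -⟩ := exists_lift_nc hp (nrm_sat' hE) hE hU' (fn_fc hp (nrm_sat' hE) hn')
    a2 (hc.coprime_dvd_left (hh.orderOf_dvd a1))
  have e1 : img θ W = img θ U ⊔ centralizerIn S' (img θ U) := by
    rw [(h.hom.mono hWS).img_sup, h.img_pre (centralizerIn_le _ _)]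
  rw [← e1] at b1 b3
  obtain ⟨β, c1, c2⟩ := h.iso_up (iso_of_mem_autF (h.img_le hWS) b1)
  rw [pre_img_of_le h.hom hWS (hZU.trans hUW)] at c1 c2
  have c3 : ∀ x ∈ U, θ (β x) = θ (α x) := fun x hx => by
    rw [← c2 x (hUW hx), b2 _ (mem_img_of_mem θ hx), (hf.ind_spec hUS a1).2 x hx]
  have := finite_of_le hUS
  have c4 : Maps U U β := (c1.hom.mono hUW).maps_of_mem fun x hx => mem_of_img_mem h.hom hUS hZU
    (c1.1.mem (hUW hx)) (c3 x hx ▸ mem_img_of_mem θ ((maps_of_mem_autF a1).mem hx))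
  have c5 : Maps U U (rs W β) := c4.congr fun x hx => (rs_apply c1.2 (hUW hx)).symm
  have c6 := rs_mem_autF hUW hWS c1.rs_mem c5
  have c7 : ∀ x ∈ U, θ (rs U (rs W β) x) = θ (α x) := fun x hx => by
    rw [rs_apply c5 hx, rs_apply c1.2 (hUW hx), c3 x hx]
  have c8 : rs W β ∈ B := ⟨⟨c1.rs_mem, c5⟩, rs_mem_trivMod c1.2 fun x hx => h.hom.mem_pre.2
    ⟨S.mul_mem (S.inv_mem (hWS hx)) (c1.1.mem hx), by
      rw [h.hom.map_mul (S.inv_mem (hWS hx)) (c1.1.mem hx), h.hom.map_inv (hWS hx), ← c2 x hx]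
      exact (sup_le hU' (centralizerIn_le _ _) : _ ≤ T') (b3 _ (mem_img_of_mem θ hx))⟩,
    mem_kres.2 ⟨c5, mem_ly hf c6 hUS (iso_of_mem_autF hU' a2).1 fun x hx => by
      rw [c7 x hx, (hf.ind_spec hUS a1).2 x hx]⟩⟩
  have := finite_autF_of_le F hWS
  have : Finite B := finite_of_le (inf_le_left.trans inf_le_left)
  obtain ⟨k, d1⟩ := exists_pow_mem_oUp (p := p) c8
  have d2 := mem_img_of_mem (rs U) d1
  rw [(homOn_rs U).map_pow c5] at d2
  obtain ⟨τ, f1, f2⟩ := receptive_extend (fn_rec hS hF hn) (iso_of_mem_autF hUS a1)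
    (pre_cent_le_nphi hS hF hf hZ hn hZU a1)
  have f3 := (maps_of_mem_autF a1).congr fun x hx => (f2 x hx).symm
  have f4 := w1 f1 le_rfl f3
  have f5 : Maps U U (rs W τ) := f3.congr fun x hx => (rs_apply f4.2 (hUW hx)).symm
  have f6 := (homOn_rs U).img_normalizes ((oUp_le p B).trans (inf_le_left.trans inf_le_right))
    inf_le_right (hN.trans (normalizer_le_normalizer_oUp p B)) (mem_img_of_mem _ ⟨f4.rs_mem, f5⟩)
  rw [rs_eq_of_mem_autF a1 fun x hx => by rw [rs_apply f4.2 (hUW hx), f2 x hx]] at f6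
  have g1 := Subgroup.pow_mem _ c6 (p ^ k)
  have g2 := Subgroup.pow_mem _ a1 (p ^ k)
  have g3 := Subgroup.mul_mem _ (Subgroup.inv_mem _ g1) g2
  obtain ⟨l, hl⟩ := pElt_of_ind_eq hS hf hZ hUS hZU g3 ((hf.ind_eq_one_iff hUS g3).1 (by
    rw [hh.map_mul (Subgroup.inv_mem _ g1) g2, hh.map_inv g1, hh.map_pow c6, hh.map_pow a1,
      ind_eq (h.hom.mono hUS) (fun x hx => ((hf.ind_spec hUS a1).2 x hx).trans (c7 x hx).symm)
        (fix_of_mem_autF a2), inv_mul_cancel]))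
  exact mem_of_pow_mem_of_coprime (hc.pow_right k) (mem_of_coprime_of_pElt'
    (Subgroup.pow_mem _ f6 _) d2 hl (hc.coprime_dvd_left (orderOf_pow_dvd _)))

theorem ly_ext (hS : IsPGroup p S) (hF : F.IsSaturated p) (h : Fac F D θ)
    (hZ : F.IsCentral (pre S θ ⊥)) (hI : Inv E' D) (hE : E'.IsSaturated p) {U V : Subgroup Ω}
    (hU : TC F (pre S θ T') U) (hZU : pre S θ ⊥ ≤ U) (hn : F.IsFullyNormalized U) (hUV : U ≤ V)
    (hV : V ≤ normalizerIn (pre S θ T') U) {β : Perm Ω} (hβ : β ∈ AutF F V)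
    (hc : (orderOf β).Coprime p) (hm : Maps U U β) (hr : rs U β ∈ LY F E' θ U) :
    ∃ β' ∈ LY F E' θ V, (orderOf β').Coprime p ∧ ∀ x ∈ U, β' x = β x := by
  have := h.finite
  have := finite_of_le hI.le
  have hf := h.fHom
  have hT := h.sc_pre hI.sc
  have hp := h.isPGroup hS
  have hD := h.saturated hS hF
  have hUS := hn.1
  have hU' : img θ U ≤ T' := (le_pre_iff h.hom hUS).1 hU.1
  have hn' := (h.fn_img_iff hUS hZU).2 hn
  have hVT := hV.trans (normalizerIn_le _ _)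
  have hVS := hVT.trans hT.1
  have := finite_of_le hVS
  set C := pre S θ T' ⊓ pre S θ (centralizerIn S' (img θ U)) with hC
  set X := V ⊔ C with hX
  have hXN : X ≤ normalizerIn (pre S θ T') U := sup_le hV fun c hc =>
    ⟨hc.1, (pre_cent_le h.hom hUS hZU hc.2).2⟩
  have hXT := hXN.trans (normalizerIn_le _ _)
  have hXS := hXT.trans hT.1
  have hVX : V ≤ X := le_sup_left
  have hUX := hUV.trans hVX
  obtain ⟨a1, a2⟩ := (mem_ly' hf hUS).1 hr
  have a0 := iso_of_mem_autF hVS hβ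
  have m1 : ∀ τ : Perm Ω, Mor F X τ → (∀ x ∈ U, τ x = rs U β x) → Maps V V τ := fun τ b1 b2 =>
    (b1.hom.mono hVX).maps_of_mem fun v hv => by
      have b3 := ext_compare hT hU hUV a0.1 (b1.restrict hVX)
        (fun x hx => by rw [b2 x hx, rs_apply hm hx]) hv (hV hv)
      rw [hm.img_eq] at b3
      exact mem_of_triv hUV (a0.mem hv) b3
  obtain ⟨τ, b1, b2⟩ := receptive_extend (fn_rec hS hF hn) (iso_of_mem_autF hUS a1) (R := X)
    (sup_le (a0.1.le_nphi_of_extends hUV (hV.trans (normalizerIn_le_normalizer _ _))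
      fun x hx => (rs_apply hm hx).symm) (inf_le_right.trans (pre_cent_le_nphi hS hF hf hZ hn hZU a1)))
  rw [sup_eq_right.2 hUX] at b1
  have b3 := (maps_of_mem_autF a1).congr fun x hx => (b2 x hx).symm
  have b4 := b1.iso_self (img_le_iff.1 (by
    rw [b1.hom.img_sup, (m1 τ b1 b2).img_eq]
    exact sup_le_sup_left (img_le_iff.2 fun c hc => Subgroup.mem_inf.2
      ⟨sc_mem hT b1 (Subgroup.mem_sup_right hc) hc.1,
      mem_pre_cent hf b1 hUX b3 (Subgroup.mem_sup_right hc) hc.2⟩) _))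
  obtain ⟨γ, c1, c2, c3⟩ := b4.exists_coprime_ext hUX a1 b2 (orderOf_rs_coprime hm hc)
  have c0 := iso_of_mem_autF hXS c1
  have c4 := m1 γ c0.1 c3
  obtain ⟨d1, d2⟩ := hf.ind_spec hXS c1
  have hX' : img θ X ≤ T' := (le_pre_iff h.hom hXS).1 hXT
  have hUX' := img_mono θ hUX
  have hXN' : img θ X ≤ normalizerIn T' (img θ U) := le_inf hX' (img_le_iff.2 fun x hx =>
    mem_normalizer_img h.hom hUS (hXS hx) (hXN hx).2)
  have d3 : ∀ y ∈ img θ U, ind θ X γ y = ind θ U (rs U β) y := fun y hy => by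
    obtain ⟨x, hx, rfl⟩ := (h.hom.mono hUS).mem_img.1 hy
    rw [d2 x (hUX hx), (hf.ind_spec hUS a1).2 x hx, c3 x hx]
  have d4 := (maps_of_mem_autF a2).congr fun y hy => (d3 y hy).symm
  obtain ⟨δ, e1, e2⟩ := exists_iso_ext (sc_top E') (fn_rec (hp.to_le hI.le) hE
    (sub_fullyNormalized hp hD hI.sc hI.sub hU' hn')) (V := img θ X) (fun c hc => by
      obtain ⟨x, hx, rfl⟩ := h.exists_pre hI.le hc.1
      exact mem_img_of_mem θ (Subgroup.mem_sup_right ⟨hx, h.hom.mem_pre.2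
        ⟨pre_le _ _ _ hx, hI.le hc.1, hc.2⟩⟩)) hUX' hXN' (iso_of_mem_autF hU' a2) fun g hg => by
      rw [← conj_congr d4 (maps_cr (hXN' hg).2) (fun x hx => cr_apply_of_not_mem g hx) d3,
        (homOn_of_mem_autF d1).conj_cr hUX' d4 hg (hXN' hg).2]
      exact cr_mem_autBy ((maps_of_mem_autF d1).mem hg) (hXN' ((maps_of_mem_autF d1).mem hg)).2
  have e3 := Subgroup.mul_mem _ (Subgroup.inv_mem _ (hI.autF_le hX' e1.rs_mem)) d1
  have e4 := h.img_ind_autF hXS (hZU.trans hUX)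
  have hh := hf.homOn_ind hXS
  obtain ⟨κ, f1, f2⟩ := hh.mem_img.1 (e4 ▸ e3)
  have f0 := iso_of_mem_autF hXS f1
  have f3 : ∀ x ∈ U, θ (κ x) = θ x := fun x hx => by
    have g1 := mem_img_of_mem θ hx
    rw [← (hf.ind_spec hXS f1).2 x (hUX hx), f2, mul_ap, d3 _ g1, ← e2 _ g1,
      ← rs_apply e1.2 (hUX' g1), inv_ap]
  have := finite_of_le hUS
  have f4 : Maps U U κ := (f0.hom.mono hUX).maps_of_mem fun x hx => mem_of_img_mem h.hom hUS hZU
    (f0.1.mem (hUX hx)) (f3 x hx ▸ mem_img_of_mem θ hx)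
  obtain ⟨k, hk⟩ := pElt_of_ind_eq hS hf hZ hUS hZU (rs_mem_autF hUX hXS f1 f4)
    fun x hx => by rw [rs_apply f4 hx, f3 x hx]
  rw [← (homOn_rs U).map_pow f4] at hk
  have f5 := Subgroup.pow_mem _ f1 (p ^ k)
  obtain ⟨l, hl⟩ := exists_pow_eq_one_of_fix hS hT hU hUX hXN (iso_of_mem_autF hXS f5)
    ((rs_eq_one_iff (Subgroup.pow_mem (stab U) f4 _)).1 hk)
  rw [rs_eq_self (maps_of_mem_autF f5) (fix_of_mem_autF f5), ← pow_mul, ← pow_add] at hl
  have g1 := mem_of_coprime_of_pElt' (hI.autF_normal hX' d1) e1.rs_mem (l := k + l)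
    (by rw [← f2, ← hh.map_pow f1, hl, hh.map_one]) (c2.coprime_dvd_left (hh.orderOf_dvd c1))
  exact ⟨rs V γ, mem_ly hf (rs_mem_autF hVX hXS c1 c4) hVS
    ((iso_of_mem_autF hX' g1).1.restrict (img_mono θ hVX))
    fun x hx => by rw [d2 x (hVX hx), rs_apply c4 hx], orderOf_rs_coprime c4 c2,
    fun x hx => by rw [rs_apply c4 (hUV hx), c3 x hx, rs_apply hm hx]⟩

/-- the lift of a normal subsystem of a central quotient -/
theorem exists_zlift (hS : IsPGroup p S) (hF : F.IsSaturated p) (h : Fac F D θ)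
    (hZ : F.IsCentral (pre S θ ⊥)) (hE : E'.IsNormalIn D p) :
    ∃ E : FusionSystem (pre S θ T'), E.IsSaturated p ∧ Inv E F ∧
      (∀ U, TC F (pre S θ T') U → AutF E U ≤ LY F E' θ U) ∧
      ∀ U, TC F (pre S θ T') U → ∀ α ∈ LY F E' θ U, (orderOf α).Coprime p → α ∈ AutF E U := by
  have hI := nrm_inv hE
  have hf := h.fHom
  have hT := h.sc_pre hI.sc
  have hz : ∀ U, TC F (pre S θ T') U → pre S θ ⊥ ≤ U := fun U hU => le_trans
    (le_inf (ker_le_pre h.hom _) ((central_le_centralizer hZ).trans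
      (Subgroup.centralizer_le (hU.1.trans hT.1)))) (hU.cent hT.1)
  have hu : ∀ U, U ≤ pre S θ T' → img θ U ≤ T' := fun U hU => (le_pre_iff h.hom (hU.trans hT.1)).1 hU
  refine exists_wn_of_family hS hF hT (fun U _ => pre_le _ _ _)
    (fun U U' σ hU hσ α hα => conj_ly hf hI (hu U hU.1) hσ hα) (fun U hU α hα => ?_)
    (fun U hU hn => ly_foc hS hF h hZ hE hU.1 (hz U hU) hn) (fun U V hU hn h1 h2 β hβ hc hm _ => ?_)
    fun U V hU hn h1 h2 β hβ hc hm hr =>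
      ly_ext hS hF h hZ hI (nrm_sat hE) hU (hz U hU) hn h1.le h2 hβ hc hm hr
  · obtain ⟨t, a1, a2, rfl⟩ := mem_autBy.1 hα
    have hUS := hU.1.trans hT.1
    exact mem_ly hf (cr_mem_autF F hUS (hT.1 a1) a2) hUS
      (mor_cj E' (hu U hU.1) (h.hom.mem_pre.1 a1).2) fun x hx => by
        rw [cj_apply, cr_apply a2 hx, h.hom.map_conj (hT.1 a1) (hUS hx)]
  · have hVT := h2.trans (normalizerIn_le _ _)
    have hVS := hVT.trans hT.1
    obtain ⟨a1, a2⟩ := (mem_ly' hf hVS).1 hβ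
    exact mem_ly hf (rs_mem_autF h1.le hVS a1 hm) hn.1
      ((iso_of_mem_autF (hu V hVT) a2).1.restrict (img_mono θ h1.le)) fun x hx => by
        rw [(hf.ind_spec hVS a1).2 x (h1.le hx), rs_apply hm hx]

theorem simple_of_central (hS : IsPGroup p S) (hF : F.IsSaturated p) (h : Fac F D θ)
    (hZ : F.IsCentral (pre S θ ⊥)) (h1 : ¬ S ≤ pre S θ ⊥)
    (h2 : ∀ (T : Subgroup Ω) (E : FusionSystem T), E.IsNormalIn F p →
      T ≤ pre S θ ⊥ ∨ F.IsSubsystemOf E) : D.IsSimple p := by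
  have := h.finite
  refine ⟨h.saturated hS hF, fun e => h1 fun x hx => (mem_ker h.hom).2
    ⟨hx, Subgroup.mem_bot.1 (e ▸ h.mem hx)⟩, fun T' E' hE => ?_⟩
  obtain ⟨E, a1, a2, a3, -⟩ := exists_zlift hS hF h hZ hE
  rcases h2 _ _ (opp_normalIn hS hF a2 a1) with b | b
  · left
    rw [← h.img_pre (nrm_le hE), eq_bot_iff, img_le_iff]
    exact fun x hx => ((mem_ker h.hom).1 (b hx)).2
  · replace b := isSubsystemOf_trans b (opp_sub E p)
    have b1 := le_of_isSubsystemOf b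
    obtain rfl : T' = S' := le_antisymm (nrm_le hE) (h.img_eq ▸ (le_pre_iff h.hom le_rfl).1 b1)
    refine Or.inr ⟨rfl, hom_eq_of_sub_sub (nrm_sub hE) ((nrm_inv hE).sub_of_top fun α hα => ?_)⟩
    obtain ⟨β, c1, c2⟩ := h.iso_up hα
    obtain ⟨c3, c4⟩ := (mem_ly' h.fHom a2.le).1 (a3 _ (tc_top a2.sc) (c1.of_sub b).rs_mem)
    have c5 := (h.fHom.ind_spec a2.le c3).2
    rw [h.img_pre le_rfl] at c4
    refine (iso_of_mem_autF le_rfl c4).1.congr fun y hy => ?_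
    obtain ⟨x, hx, rfl⟩ := h.exists_pre le_rfl hy
    rw [c5 x hx, rs_apply c1.2 hx, c2 x hx]

end lift

theorem constrained_inner (hS : IsPGroup p S) (hF : F.IsSaturated p) (h : IsInner F) :
    F.IsConstrained p :=
  constrained_of_normal hF (h.normal le_rfl Subgroup.le_normalizer) (centralizerIn_le _ _)

theorem isInner_of_hyp_central (hS : IsPGroup p S) (hF : F.IsSaturated p)
    (h : F.IsCentral (F.hyperfocalSubgroup p)) : IsInner F :=
  isInner_of_hyp_bot hS hF (eq_bot_iff.2 (H13.hyp_le_iff'.2 fun P hP α hα hc x hx => by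
    have a1 := maps_of_mem_autF hα
    rw [fix_of_fix_of_coprime (hS.to_le hP) (inf_le_left : P ⊓ F.hyperfocalSubgroup p ≤ P)
      (homOn_of_mem_autF hα) (fun y hy => H13.central_fix h (iso_of_mem_autF hP hα).1 hy.1 hy.2)
      (fun y hy => ⟨P.mul_mem (P.inv_mem hy) (a1.mem hy), mem_hyp' hP hα hc hy⟩) hc
      (fun y _ => by rw [pow_orderOf_eq_one]; rfl) x hx, inv_mul_cancel]
    exact Subgroup.one_mem _))

theorem cen_inner {R : Subgroup Ω} (hR : R ≤ S) :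
    Cen (innerFusionSystem R) F (centralizerIn S R) := ⟨le_rfl, fun P f hf => by
  obtain ⟨a1, g, a2, a3⟩ := mor_inner_iff.1 hf
  exact ⟨cj g, mor_cj F (sup_le (a1.trans hR) (centralizerIn_le _ _)) (hR a2),
    fun x hx => (a3 x hx).symm, fun x hx => by rw [cj_apply, hx.2 g a2, mul_inv_cancel_right]⟩⟩

/-- the centralizer of a normal subgroup as a normal subsystem -/
theorem exists_normal_cent (hS : IsPGroup p S) (hF : F.IsSaturated p) {R : Subgroup Ω}
    (hR : F.IsNormal R) :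
    ∃ M : FusionSystem (centralizerIn S R), M.IsNormalIn F p ∧ Cen M F R := by
  have h1 := inner_normalIn hS hF hR
  have h2 : CS (innerFusionSystem R) F p = centralizerIn S R :=
    le_antisymm cs_le_cent ((cen_inner hR.1).le_cs hS hF h1)
  rw [← h2]
  exact exists_csub' hS hF h1

theorem qs_of_min (hS : IsPGroup p S) (hF : F.IsSaturated p) (h1 : ¬ F.IsConstrained p)
    (h2 : ∀ (T : Subgroup Ω) (E : FusionSystem T), E.IsNormalIn F p →
      F.IsSubsystemOf E ∨ E.IsConstrained p) : F.Quasisimple p := by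
  have key : ∀ (T : Subgroup Ω) (E : FusionSystem T), E.IsNormalIn F p →
      T ≤ Subgroup.centralizer (F.core : Set Ω) → F.IsSubsystemOf E ∨ T ≤ F.core := by
    intro T E hE hc
    have := finite_of_le (nrm_le hE)
    have a1 := (nrm_inv hE).core_le_core hS hF
    exact (h2 T E hE).imp_right fun h => le_trans (le_trans (le_inf le_rfl
      (hc.trans (Subgroup.centralizer_le a1))) (constrained_iff.1 h).2) a1
  obtain ⟨M, a1, a2⟩ := exists_normal_cent hS hF (core_normal F)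
  have a3 := (key _ M a1 (centralizerIn_le_centralizer _ _)).resolve_right
    fun h => h1 (constrained_iff.2 ⟨hF, h⟩)
  have a4 : F.IsCentral F.core := (a2.of_sub a3).central hS le_rfl hF (H13.core_le F) le_rfl
  have a5 : F.core = F.center := le_antisymm (H13.le_center a4) (H13.center_le_core F)
  have a6 : ∀ (T : Subgroup Ω) (E : FusionSystem T), E.IsNormalIn F p →
      T ≤ F.center ∨ F.IsSubsystemOf E := fun T E hE => a5 ▸ (key T E hE ((nrm_le hE).trans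
    (le_centralizer_comm (central_le_centralizer a4)))).symm
  obtain ⟨Ω', _, _, D, θ, b1, b2⟩ := exists_quot' hS hF
    (sc_of_normal (normal_of_central (center_central F)))
  refine (quasisimple_iff hS hF b1 b2).2 ⟨?_, simple_of_central hS hF b1 (b2 ▸ center_central F)
    (fun h => h1 (constrained_iff.2 ⟨hF, (centralizerIn_le _ _).trans (a5 ▸ b2 ▸ h)⟩)) (b2 ▸ a6)⟩
  obtain ⟨E, hE⟩ := exists_pResidual hS hF
  rcases a6 _ E (normalIn_of_pResidual hS hF hE) with c | c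
  · exact (h1 (constrained_inner hS hF (isInner_of_hyp_central hS hF
      (central_iff_le_center.2 c)))).elim
  · exact le_antisymm (H13.hyp_le F p) (le_of_isSubsystemOf c)

theorem exists_comp (hS : IsPGroup p S) (hF : F.IsSaturated p) (h : ¬ F.IsConstrained p) :
    ∃ (T : Subgroup Ω) (C : FusionSystem T), C.IsComponentIn F p := by
  obtain ⟨T, E, ⟨h1, h2⟩, h3⟩ := exists_min_sys (fun T E => E.IsSubnormalIn F p ∧ ¬ E.IsConstrained p)
    ⟨IsSubnormalIn.refl F p, h⟩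
  obtain ⟨a1, a2, -⟩ := subnormal_facts hF h1
  have := finite_of_le a1
  refine ⟨T, E, h1, qs_of_min (hS.to_le a1) a2 h2 fun U D hD => or_iff_not_imp_right.2 fun h4 => ?_⟩
  exact sub_of_mu_le (hS.to_le a1) a2 (nrm_sub hD)
    (h3 U D ⟨subnormal_trans (subnormal_of_normal hD) h1, h4⟩)

theorem constrained_of_no_comp (hS : IsPGroup p S) (hF : F.IsSaturated p)
    (h : ∀ (T : Subgroup Ω) (C : FusionSystem T), ¬ C.IsComponentIn F p) : F.IsConstrained p := by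
  by_contra h1
  obtain ⟨T, C, hC⟩ := exists_comp hS hF h1
  exact h T C hC

end H14.Fus
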